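import Cfsg.Agent.H316.U6
import Cfsg.Agent.H508.Dens.Main

/-!
# The rows of the exceptional groups (helper316, hub H9, U6)

`row'` : `row` with the density theorem (H9-U2, helper508) inserted.
-/

set_option autoImplicit false
set_option linter.unusedSectionVars false

namespace Cfsg.Agent.H316.U6

open CoxeterSystem Cfsg Cfsg.Lie Cfsg.Lie.ChevalleyDatum
open Cfsg.Agent.ChevalleyStructure Cfsg.Agent.ChevalleyStructure.Elts Cfsg.Agent.ChevalleyStructure.CoxeterGeom
  Cfsg.Agent.ChevalleyStructure.CoxeterGeomTypes Cfsg.Agent.ChevalleyStructure.NPerm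
open Cfsg.Agent.Tits.Roots Cfsg.Agent.Tits.Core Cfsg.Agent.Nodes Cfsg.Agent.Nodes.Reps Cfsg.Agent.Nodes.BNOf
  Cfsg.Agent.Nodes.RGDChev
open Cfsg.Agent.KFacts.RgdField Cfsg.Agent.KFacts.RgdChevCoord
open Cfsg.Agent.BpExc Cfsg.Agent.BpExc.TowChev Cfsg.Agent.BpExc.Fr Cfsg.Agent.BpExc.LangFr
open Cfsg.Agent.H469.Exc Cfsg.Agent.H818.StrP

universe u v

variable {D : ChevalleyDatum} {l : ℕ} {M : CoxeterMatrix (Fin l)} {hp : IsType D l M} {r q : ℕ}
  [hr : Fact r.Prime] {K₀ : Type v} [Group K₀]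

/-- **H9-U2** (helper508). -/
theorem density (m : MData hp r q K₀) (hq : 3 ≤ q) (hG2 : D = chevG2 → 4 ≤ q) :
    U3.Density hp M.toCoxeterSystem (KK r) r m.e := by
  intro τ hτ g F S hS hg hcl L h
  exact H508.Dens.density_nat hp M.toCoxeterSystem m.he hτ F hS hg
    (fun a ha b hb i hi j hj hr => hcl a ha b hb i j hi hj hr) (by rw [m.hq]; exact hq)
    (fun hD => by rw [m.hq]; exact hG2 hD) L h

theorem nroots_pos (hD : InList D) : 0 < D.nroots := by
  simp only [InList, List.mem_cons, List.not_mem_nil, or_false] at hD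
  rcases hD with rfl | rfl | rfl | rfl | rfl | rfl | rfl <;> decide

/-- **The row**, with the density theorem. -/
theorem row' (m : MData hp r q K₀) [IsSimpleGroup K₀] {p : ℕ} [hpp : Fact p.Prime]
    (hp2 : p ≠ 2) (hq : 3 ≤ q) (hG2 : D = chevG2 → 4 ≤ q)
    (hT : ∀ E : Subgroup K₀, IsElementaryAbelian p E → Nat.card ↥E = p ^ 2 → Toral m p)
    (hC : ∀ E : Subgroup K₀, IsElementaryAbelian p E → Nat.card ↥E = p ^ 2 → CentRoot m p)
    (hZ : ThmZ m) : Row p K₀ :=
  row m hp2 (nroots_pos hp.inList) (by omega) hT hC (density m hq hG2) hZ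

end Cfsg.Agent.H316.U6
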