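import Cfsg.Agent.H316.U6Norm
import Cfsg.Agent.H549.Exc.RootVec
import Cfsg.Agent.H818.StrP.Row

/-!
# The finite exceptional groups have no strongly `p`-embedded subgroups (helper316, hub H9, U6)

`m : MData hp r q K₀`, `K₀` simple, `p ≠ r`. From
* `Toral m p` (H9-U4) : a toral elementary abelian subgroup of order `p ^ 2`;
* `CentRoot m p` (H9-U5) : an element of order `p` commuting with the fixed points of the highest root groups;
* `Density` (H9-U2), `ThmZ m` (H9-U1)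
we get `noSP : NoSP p K₀`, `row : Row p K₀`.
-/

set_option autoImplicit false
set_option linter.unusedSectionVars false

namespace Cfsg.Agent.H316.U6

open CoxeterSystem Cfsg Cfsg.Lie Cfsg.Lie.ChevalleyDatum
open Cfsg.Agent.ChevalleyStructure Cfsg.Agent.ChevalleyStructure.Elts Cfsg.Agent.ChevalleyStructure.CoxeterGeom
  Cfsg.Agent.ChevalleyStructure.CoxeterGeomTypes Cfsg.Agent.ChevalleyStructure.NPerm
  Cfsg.Agent.ChevalleyStructure.XColumns
open Cfsg.Agent.Tits.Roots Cfsg.Agent.Tits.Core Cfsg.Agent.Nodes Cfsg.Agent.Nodes.Reps Cfsg.Agent.Nodes.BNOf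
  Cfsg.Agent.Nodes.OppDec Cfsg.Agent.Nodes.LeviDec Cfsg.Agent.Nodes.StabComb
  Cfsg.Agent.Nodes.RGDChev Cfsg.Agent.Nodes.Bruhat Cfsg.Agent.Nodes.NormalForm
open Cfsg.Agent.KFacts.RgdField Cfsg.Agent.KFacts.RgdChevCoord
open Cfsg.Agent.BpExc Cfsg.Agent.BpExc.TorCent Cfsg.Agent.BpExc.TorChev Cfsg.Agent.BpExc.Tow
  Cfsg.Agent.BpExc.TowChev Cfsg.Agent.BpExc.Fr Cfsg.Agent.BpExc.Pair Cfsg.Agent.BpExc.LangFr
open Cfsg.Agent.H469.Exc Cfsg.Agent.H469.Exc.SigFr Cfsg.Agent.H818.StrP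
open scoped Matrix

universe u v

variable {D : ChevalleyDatum} {l : ℕ} {M : CoxeterMatrix (Fin l)} {hp : IsType D l M} {r q : ℕ}
  [hr : Fact r.Prime] {K₀ : Type v} [Group K₀]

/-- H9-U4 : a toral elementary abelian subgroup of order `p ^ 2` -/
def Toral (m : MData hp r q K₀) (p : ℕ) : Prop :=
  ∃ E : Subgroup K₀, (∀ a ∈ E, a ^ p = 1) ∧ (∀ a ∈ E, ∀ b ∈ E, a * b = b * a) ∧ Nat.card ↥E = p ^ 2 ∧
    ∃ z : ↥(D.group (KK r)), ∀ a ∈ E, z * m.ι a * z⁻¹ ∈ TT D (KK r)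

/-- H9-U5 : an element of order `p` commuting with the fixed points of the highest root group and its opposite -/
def CentRoot (m : MData hp r q K₀) (p : ℕ) : Prop :=
  ∃ x : K₀, orderOf x = p ∧ ∀ u, m.σ u = u →
    (u ∈ XX D l (KK r) (vec D l (D.nroots - 1)) ∨ u ∈ XX D l (KK r) (-vec D l (D.nroots - 1))) →
      u * m.ι x = m.ι x * u

/-- H9-U1 -/
def ThmZ (m : MData hp r q K₀) : Prop :=
  ∃ i₀ : Fin l, m.π i₀ = i₀ ∧ 1 ≤ vec D l (D.nroots - 1) i₀ ∧ ∀ H : Subgroup ↥(D.group (KK r)),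
    (∀ h ∈ H, m.σ h = h) →
    (∀ u, m.σ u = u → u ∈ XX D l (KK r) (vec D l (D.nroots - 1)) → u ∈ H) →
    (∀ u, m.σ u = u → u ∈ XX D l (KK r) (-vec D l (D.nroots - 1)) → u ∈ H) →
    (∀ s < D.nroots, ev D (KK r) s ∈ Submodule.span (KK r)
      {v | ∃ h ∈ H, v = ((h : GL D.Idx (KK r)) : Matrix D.Idx D.Idx (KK r)) *ᵥ ev D (KK r) (D.nroots - 1)}) →
    (∀ u, m.σ u = u → u ∈ VP hp r i₀ → u ∈ H) ∧ (∀ u, m.σ u = u → u ∈ VN hp r i₀ → u ∈ H)

theorem MData.finite (m : MData hp r q K₀) : Finite K₀ := by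
  have := m.fin
  exact Finite.of_injective (fun a : K₀ => (⟨m.ι a, m.fix a⟩ : ↥(fixedSubgroup m.σ)))
    fun a b h => m.inj (congrArg Subtype.val h)

/-- **No strongly `p`-embedded subgroups.** -/
theorem noSP (m : MData hp r q K₀) [Finite K₀] [IsSimpleGroup K₀] {p : ℕ} [hpp : Fact p.Prime]
    (hD : 0 < D.nroots) (hq1 : 1 < q) (hT : Toral m p) (hC : CentRoot m p)
    (hd : U3.Density hp M.toCoxeterSystem (KK r) r m.e) (hZ : ThmZ m) : NoSP p K₀ := by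
  intro H₀ hH₀
  obtain ⟨x, hxp, hx⟩ := hC
  obtain ⟨E, hEp, hEc, hE2, z, hz⟩ := hT
  -- a conjugate of `H₀` contains `x`
  obtain ⟨H, hH, hxH⟩ : ∃ H : Subgroup K₀, IsStronglyPEmbedded p H ∧ x ∈ H := by
    have h1 : IsPGroup p ↥(Subgroup.zpowers x) := IsPGroup.of_card (n := 1) (by rw [Nat.card_zpowers, hxp, pow_one])
    obtain ⟨g, hg⟩ := exists_conj_mem hH₀ h1
    refine ⟨H₀.map (MulAut.conj g⁻¹).toMonoidHom, map_equiv (MulAut.conj g⁻¹) hH₀, ?_⟩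
    have h2 : g * x * g⁻¹ ∈ H₀ := hg ⟨x, Subgroup.mem_zpowers x, rfl⟩
    refine ⟨g * x * g⁻¹, h2, ?_⟩
    show g⁻¹ * (g * x * g⁻¹) * g⁻¹⁻¹ = x
    group
  have hcx := centralizer_le hH hxH hxp
  -- a conjugate of `E` is contained in `H`
  have hEpg : IsPGroup p ↥E := IsPGroup.of_card (n := 2) hE2
  obtain ⟨g, hg⟩ := exists_conj_mem hH hEpg
  have hEH : ∀ a ∈ E, g * a * g⁻¹ ∈ H := fun a ha => hg ⟨a, ha, rfl⟩
  -- the subgroup of `D.group k`
  set HH : Subgroup ↥(D.group (KK r)) := H.map m.ι with hHH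
  have hHσ : ∀ h ∈ HH, m.σ h = h := by
    rintro _ ⟨a, -, rfl⟩
    exact m.fix a
  have hθ : IsRoot M.toCoxeterSystem hp.isCartan (vec D l (D.nroots - 1)) :=
    isRoot_vec hp _ (Nat.sub_lt hD one_pos)
  have hr1 : ∀ u ∈ XX D l (KK r) (vec D l (D.nroots - 1)), ∃ j, u ^ r ^ j = 1 := by
    intro u hu
    rcases hθ.pos_or_neg with h0 | h0
    · exact U3.pow_of_pos hp M.toCoxeterSystem (locFin r) (RGD.le_Sup (X := XX D l (KK r))
        (⟨hθ, h0⟩ : _ ∈ RGD.Pos M.toCoxeterSystem hp.isCartan) hu)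
    · exact pow_of_neg hp M.toCoxeterSystem (locFin r) r (RGD.le_Sup (X := XX D l (KK r))
        (⟨hθ, h0⟩ : _ ∈ Neg M.toCoxeterSystem hp.isCartan) hu)
  have hr2 : ∀ u ∈ XX D l (KK r) (-vec D l (D.nroots - 1)), ∃ j, u ^ r ^ j = 1 := by
    intro u hu
    rcases hθ.neg.pos_or_neg with h0 | h0
    · exact U3.pow_of_pos hp M.toCoxeterSystem (locFin r) (RGD.le_Sup (X := XX D l (KK r))
        (⟨hθ.neg, h0⟩ : _ ∈ RGD.Pos M.toCoxeterSystem hp.isCartan) hu)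
    · exact pow_of_neg hp M.toCoxeterSystem (locFin r) r (RGD.le_Sup (X := XX D l (KK r))
        (⟨hθ.neg, h0⟩ : _ ∈ Neg M.toCoxeterSystem hp.isCartan) hu)
  have hA : ∀ u, m.σ u = u → (∃ j, u ^ r ^ j = 1) → u * m.ι x = m.ι x * u → u ∈ HH := by
    intro u hσ hj hc
    obtain ⟨a, rfl⟩ := m.exists_eq hσ hj
    refine ⟨a, hcx (Subgroup.mem_centralizer_singleton_iff.2 (m.inj ?_)), rfl⟩
    rw [map_mul, map_mul, hc]
  have hA1 : ∀ u, m.σ u = u → u ∈ XX D l (KK r) (vec D l (D.nroots - 1)) → u ∈ HH :=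
    fun u hσ hu => hA u hσ (hr1 u hu) (hx u hσ (Or.inl hu))
  have hA2 : ∀ u, m.σ u = u → u ∈ XX D l (KK r) (-vec D l (D.nroots - 1)) → u ∈ HH :=
    fun u hσ hu => hA u hσ (hr2 u hu) (hx u hσ (Or.inr hu))
  -- the submodule
  set L : Submodule (KK r) (D.Idx → KK r) := Submodule.span (KK r)
      {v | ∃ h ∈ HH, v = ((h : GL D.Idx (KK r)) : Matrix D.Idx D.Idx (KK r)) *ᵥ ev D (KK r) (D.nroots - 1)} with hLdef
  have hLH : ∀ h ∈ HH, U3.StabU L h := by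
    intro h hh v hv
    have h1 : L ≤ L.comap (((h : GL D.Idx (KK r)) : Matrix D.Idx D.Idx (KK r)).mulVecLin) := by
      refine Submodule.span_le.2 ?_
      rintro _ ⟨h', hh', rfl⟩
      refine Submodule.subset_span ⟨h * h', mul_mem hh hh', ?_⟩
      rw [Matrix.mulVecLin_apply, Matrix.mulVec_mulVec]
      rfl
    exact h1 hv
  have hLtop : ev D (KK r) (D.nroots - 1) ∈ L := Submodule.subset_span ⟨1, one_mem _, by
    rw [Subgroup.coe_one, Units.val_one, Matrix.one_mulVec]⟩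
  -- stability under everything
  have hall : ∀ u : ↥(D.group (KK r)), U3.StabU L u := by
    intro u
    refine U3.stabU_top hp M.toCoxeterSystem (locFin r) m.he hd m.frob m.fr hpp.out
      (E := (E.map (MulAut.conj g).toMonoidHom).map m.ι) ?_ ?_ ?_ (z := z * (m.ι g)⁻¹) ?_ ?_ u
    · rintro _ ⟨_, ⟨a, ha, rfl⟩, rfl⟩
      rw [← map_pow, ← map_pow, hEp a ha, map_one, map_one]
    · rw [Nat.card_congr (Subgroup.equivMapOfInjective _ _ m.inj).toEquiv.symm,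
        Nat.card_congr (Subgroup.equivMapOfInjective E _ (MulAut.conj g).injective).toEquiv.symm, hE2]
    · rintro _ ⟨a, -, rfl⟩
      exact m.fix a
    · rintro _ ⟨_, ⟨a, ha, rfl⟩, rfl⟩
      have e : z * (m.ι g)⁻¹ * m.ι ((MulAut.conj g).toMonoidHom a) * (z * (m.ι g)⁻¹)⁻¹ = z * m.ι a * z⁻¹ := by
        have e1 : (MulAut.conj g).toMonoidHom a = g * a * g⁻¹ := rfl
        rw [e1, map_mul, map_mul, map_inv]
        group
      rw [e]
      exact hz a ha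
    · rintro _ ⟨_, ⟨a, ha, rfl⟩, rfl⟩ hne u hσ hc hj
      refine hLH u ?_
      obtain ⟨b, rfl⟩ := m.exists_eq hσ hj
      refine ⟨b, ?_, rfl⟩
      have h1 : orderOf (g * a * g⁻¹) = p := by
        refine orderOf_eq_prime ?_ ?_
        · rw [conj_pow, hEp a ha, mul_one, mul_inv_cancel]
        · intro h2
          apply hne
          show m.ι (g * a * g⁻¹) = 1
          rw [h2, map_one]
      refine centralizer_le hH (hEH a ha) h1 (Subgroup.mem_centralizer_singleton_iff.2 (m.inj ?_))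
      have h3 : m.ι b * m.ι (g * a * g⁻¹) = m.ι (g * a * g⁻¹) * m.ι b := hc
      rw [map_mul, h3, ← map_mul]
  -- all root vectors
  obtain ⟨i₀, hi, hi1, hZ⟩ := hZ
  obtain ⟨h1, h2⟩ := hZ HH hHσ hA1 hA2 (fun s hs => by
    have h3 := H549.Exc.all_of_top hp.inList (L := L) (fun g v hv => hall g v hv) hLtop ⟨s, hs⟩
    rw [ev_eq_single hs]
    exact h3)
  -- the conclusion
  have hN : NQ m i₀ ≤ H := by
    refine (Subgroup.closure_le _).2 ?_
    rintro a (ha | ha)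
    · obtain ⟨b, hb, e⟩ := h1 _ (m.fix a) ha
      rwa [← m.inj e]
    · obtain ⟨b, hb, e⟩ := h2 _ (m.fix a) ha
      rwa [← m.inj e]
  have hn := NQ_normal m hi
  rcases hn.eq_bot_or_eq_top with h3 | h3
  · obtain ⟨a, ha1, ha⟩ := exists_top m hD hq1
    refine ha1 (Subgroup.mem_bot.1 ?_)
    rw [← h3]
    refine Subgroup.subset_closure (Or.inl ?_)
    exact RGD.le_Sup (X := XX D l (KK r)) (S := {a | IsRoot M.toCoxeterSystem hp.isCartan a ∧ 1 ≤ a i₀})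
      ⟨hθ, hi1⟩ ha
  · exact hH.2.1 (top_le_iff.1 (h3 ▸ hN))

/-- **The row.** -/
theorem row (m : MData hp r q K₀) [IsSimpleGroup K₀] {p : ℕ} [hpp : Fact p.Prime]
    (hp2 : p ≠ 2) (hD : 0 < D.nroots) (hq1 : 1 < q)
    (hT : ∀ E : Subgroup K₀, IsElementaryAbelian p E → Nat.card ↥E = p ^ 2 → Toral m p)
    (hC : ∀ E : Subgroup K₀, IsElementaryAbelian p E → Nat.card ↥E = p ^ 2 → CentRoot m p)
    (hd : U3.Density hp M.toCoxeterSystem (KK r) r m.e) (hZ : ThmZ m) : Row p K₀ := by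
  have := m.finite
  exact Row.of_elem hp2 fun E h1 h2 => noSP m hD hq1 (hT E h1 h2) (hC E h1 h2) hd hZ

end Cfsg.Agent.H316.U6
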