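import Cfsg.Agent.H316.RedPre
import Cfsg.Agent.S0246
import Cfsg.Agent.S2680
import Cfsg.Agent.S2681
import Cfsg.Agent.S2682
import Cfsg.Prelude.Def_Classical

/-!
# No involution centralizer of order `2^k 405` in `L₆(2)` and `Sp₈(2)` (helper316)
-/

set_option autoImplicit false

namespace Cfsg.Agent.H316.Kill

open Subgroup

/-! ### automorphisms of elementary abelian groups of order at most `2^6` -/

/-- A 3-group of order 81 acting faithfully on an elementary abelian group of order at most `2^6` does not commute with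
an involutory automorphism. -/
theorem no_commuting {A : Type*} [Group A] [Finite A] (hsq : ∀ x : A, x * x = 1) (hA : Nat.card A ≤ 2 ^ 6)
    {τ : MulAut A} (hτ : τ * τ = 1) (hτ1 : τ ≠ 1) {P : Subgroup (MulAut A)} (hP : Nat.card P = 3 ^ 4)
    (hc : ∀ g ∈ P, g * τ = τ * g) : False := by
  classical
  have hcomm : ∀ x y : A, x * y = y * x := by
    intro x y
    have h1 := hsq (x * y)
    have h2 : x⁻¹ = x := inv_eq_of_mul_eq_one_left (hsq x)
    have h3 : y⁻¹ = y := inv_eq_of_mul_eq_one_left (hsq y)
    have h4 : (x * y)⁻¹ = x * y := inv_eq_of_mul_eq_one_left h1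
    rw [mul_inv_rev, h2, h3] at h4
    exact h4.symm
  have hττ : ∀ x, τ (τ x) = x := fun x => congrArg (fun σ : MulAut A => σ x) hτ
  -- the fixed points
  set B : Subgroup A :=
    { carrier := {x | τ x = x}
      one_mem' := map_one τ
      mul_mem' := fun {a b} (ha : τ a = a) (hb : τ b = b) => by
        show τ (a * b) = a * b
        rw [map_mul, ha, hb]
      inv_mem' := fun {a} (ha : τ a = a) => by
        show τ a⁻¹ = a⁻¹
        rw [map_inv, ha] } with hB
  have hmB : ∀ x, x ∈ B ↔ τ x = x := fun x => Iff.rfl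
  have hBne : B ≠ ⊤ := by
    intro h
    apply hτ1
    ext x
    exact (hmB x).1 (by rw [h]; exact mem_top x)
  have hBc : Nat.card B ≤ 32 := by
    have h1 := card_mul_index B
    have h2 : B.index ≠ 1 := fun h => hBne (index_eq_one.1 h)
    have h3 : B.index ≠ 0 := index_ne_zero_of_finite
    have h4 : 2 ≤ B.index := by omega
    have h5 : Nat.card B * 2 ≤ 2 ^ 6 := (Nat.mul_le_mul_left _ h4).trans (h1.le.trans hA)
    omega
  have hgB : ∀ g ∈ P, ∀ x, x ∈ B ↔ g x ∈ B := by
    intro g hg x
    have h1 : ∀ y, g (τ y) = τ (g y) := fun y => congrArg (fun σ : MulAut A => σ y) (hc g hg)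
    rw [hmB, hmB, ← h1]
    exact ⟨fun h => by rw [h], fun h => g.injective h⟩
  -- the action of `P` on `B`
  let f : P →* MulAut B :=
    { toFun := fun g =>
        { toFun := fun x => ⟨(g : MulAut A) x, (hgB g g.2 x).1 x.2⟩
          invFun := fun x => ⟨((g⁻¹ : P) : MulAut A) x, (hgB _ (g⁻¹ : P).2 x).1 x.2⟩
          left_inv := fun x => Subtype.ext (by
            show ((g⁻¹ : P) : MulAut A) ((g : MulAut A) x) = x
            rw [coe_inv]; exact MulAut.inv_apply_self A _ _)
          right_inv := fun x => Subtype.ext (by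
            show (g : MulAut A) (((g⁻¹ : P) : MulAut A) x) = x
            rw [coe_inv]; exact MulAut.apply_inv_self A _ _)
          map_mul' := fun x y => Subtype.ext (map_mul (g : MulAut A) (x : A) (y : A)) }
      map_one' := by ext x; rfl
      map_mul' := fun g h => by ext x; rfl }
  have hf : Function.Injective f := by
    rw [← MonoidHom.ker_eq_bot_iff, eq_bot_iff]
    intro g hg
    rw [mem_bot]
    have h1 : ∀ x, x ∈ B → (g : MulAut A) x = x := by
      intro x hx
      have h2 : f g = 1 := hg
      exact congrArg (fun σ : MulAut B => ((σ ⟨x, hx⟩ : B) : A)) h2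
    have hgt : ∀ y, (g : MulAut A) (τ y) = τ ((g : MulAut A) y) :=
      fun y => congrArg (fun σ : MulAut A => σ y) (hc g g.2)
    have h2 : ∀ x, (g : MulAut A) ((g : MulAut A) x) = x := by
      intro x
      have e1 : τ x * x ∈ B := by
        rw [hmB, map_mul, hττ]; exact hcomm _ _
      have e2 := h1 _ e1
      rw [map_mul, hgt] at e2
      -- `τ (g x) * g x = τ x * x`
      have e3 : (g : MulAut A) x * x ∈ B := by
        rw [hmB, map_mul]
        have e4 : τ ((g : MulAut A) x) = τ x * x * ((g : MulAut A) x)⁻¹ := eq_mul_inv_of_mul_eq e2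
        have e5 : ((g : MulAut A) x)⁻¹ = (g : MulAut A) x := inv_eq_of_mul_eq_one_left (hsq _)
        rw [e4, e5]
        calc τ x * x * (g : MulAut A) x * τ x = τ x * τ x * (x * (g : MulAut A) x) := by
              rw [hcomm (τ x * x * (g : MulAut A) x) (τ x)]; group
          _ = (g : MulAut A) x * x := by rw [hsq, one_mul, hcomm]
      have e6 := h1 _ e3
      rw [map_mul] at e6
      have e7 : (g : MulAut A) ((g : MulAut A) x) * (g : MulAut A) x = x * (g : MulAut A) x := by
        rw [e6, hcomm]
      exact mul_right_cancel e7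
    have h3 : g * g = 1 := by
      apply Subtype.ext
      ext x
      exact h2 x
    have h4 : g ^ (3 ^ 4) = 1 := by rw [← hP]; exact pow_card_eq_one'
    have h5 : g ^ (3 ^ 4) = g := by
      have : g ^ (3 ^ 4) = (g * g) ^ 40 * g := by
        rw [← sq, ← pow_mul, ← pow_succ]
        norm_num
      rw [this, h3, one_pow, one_mul]
    rw [← h5, h4]
  have h81 : 81 ∣ Nat.card (MulAut B) := by
    have h1 : Nat.card P ∣ Nat.card (MulAut B) := card_dvd_of_injective f hf
    rwa [hP] at h1
  exact Cfsg.Agent.H316.Red.not_dvd_card_mulAut (V := B) (fun x => Subtype.ext (hsq x)) hBc h81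

/-- the same for a group embedded in the automorphism group -/
theorem no_embed {M A : Type*} [Group M] [Finite M] [Group A] [Finite A] (hsq : ∀ x : A, x * x = 1)
    (hA : Nat.card A ≤ 2 ^ 6) {Φ : M →* MulAut A} (hΦ : Function.Injective Φ) {t : M} (ht : orderOf t = 2)
    (hc : 81 ∣ Nat.card (centralizer ({t} : Set M))) : False := by
  have : Fact (Nat.Prime 3) := ⟨Nat.prime_three⟩
  obtain ⟨P, hP⟩ := Sylow.exists_subgroup_card_pow_prime (G := centralizer ({t} : Set M)) 3 (n := 4)
    (by norm_num; exact hc)
  have htt : t * t = 1 := by rw [← pow_two, ← ht, pow_orderOf_eq_one]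
  refine no_commuting hsq hA (τ := Φ t) (by rw [← map_mul, htt, map_one]) ?_
    (P := (P.map (centralizer ({t} : Set M)).subtype).map Φ) ?_ ?_
  · intro h1
    have : t = 1 := hΦ (by rw [h1, map_one])
    rw [this, orderOf_one] at ht
    omega
  · rw [card_map_of_injective hΦ, card_map_of_injective (subtype_injective _), hP]
  · rintro _ ⟨_, ⟨y, hy, rfl⟩, rfl⟩
    rw [← map_mul, ← map_mul]
    congr 1
    exact mem_centralizer_singleton_iff.1 y.2

/-! ### `L₆(2)` -/

section SL

variable {F : Type*} [Field F] [Fintype F]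

theorem eq_one_of_card_two (hF : Fintype.card F = 2) {r : F} (hr : r ≠ 0) : r = 1 := by
  classical
  by_contra h1
  have h6 : ({0, 1, r} : Finset F).card = 3 := by
    rw [Finset.card_insert_of_notMem, Finset.card_insert_of_notMem, Finset.card_singleton]
    · simp only [Finset.mem_singleton]; exact fun h => h1 h.symm
    · simp only [Finset.mem_insert, Finset.mem_singleton, not_or]
      exact ⟨zero_ne_one, fun h => hr h.symm⟩
  have h7 := Finset.card_le_univ ({0, 1, r} : Finset F)
  rw [h6, hF] at h7
  omega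

theorem center_SL (hF : Fintype.card F = 2) (n : ℕ) (hn : n ≠ 0) :
    center (Matrix.SpecialLinearGroup (Fin n) F) = ⊥ := by
  rw [eq_bot_iff]
  intro A hA
  obtain ⟨r, hr, hrA⟩ := Matrix.SpecialLinearGroup.mem_center_iff.1 hA
  have h1 : r ≠ 0 := by
    rintro rfl
    rw [Fintype.card_fin, zero_pow hn] at hr
    exact zero_ne_one hr
  rw [mem_bot]
  apply Subtype.ext
  rw [← hrA, eq_one_of_card_two hF h1]
  simp

/-- linear automorphisms as automorphisms of the multiplicative group -/
def toMA (V : Type*) [AddCommGroup V] [Module F V] : (V ≃ₗ[F] V) →* MulAut (Multiplicative V) where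
  toFun e := AddEquiv.toMultiplicative e.toAddEquiv
  map_one' := rfl
  map_mul' _ _ := rfl

omit [Fintype F] in
theorem toMA_injective (V : Type*) [AddCommGroup V] [Module F V] : Function.Injective (toMA (F := F) V) := by
  intro e f h
  ext v
  exact congrArg (fun σ : MulAut (Multiplicative V) => Multiplicative.toAdd (σ (Multiplicative.ofAdd v))) h

theorem kill_psl {M : Type*} [Group M] [Finite M] (hF : Fintype.card F = 2)
    (e : M ≃* Matrix.ProjectiveSpecialLinearGroup (Fin 6) F) {t : M} (ht : orderOf t = 2)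
    (hc : 81 ∣ Nat.card (centralizer ({t} : Set M))) : False := by
  have : Fact (Nat.Prime 2) := ⟨Nat.prime_two⟩
  have hchar : CharP F 2 := charP_of_card_eq_prime hF
  have hbij : Function.Bijective (QuotientGroup.mk' (center (Matrix.SpecialLinearGroup (Fin 6) F))) := by
    refine ⟨?_, QuotientGroup.mk'_surjective _⟩
    rw [← MonoidHom.ker_eq_bot_iff, QuotientGroup.ker_mk', center_SL hF 6 (by norm_num)]
  let e2 : Matrix.SpecialLinearGroup (Fin 6) F ≃* Matrix.ProjectiveSpecialLinearGroup (Fin 6) F :=
    MulEquiv.ofBijective _ hbij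
  refine no_embed (A := Multiplicative (Fin 6 → F)) ?_ ?_
    (Φ := ((toMA (F := F) (Fin 6 → F)).comp Matrix.SpecialLinearGroup.toLin').comp
      ((e.trans e2.symm).toMonoidHom)) ?_ ht hc
  · intro x
    show Multiplicative.ofAdd (Multiplicative.toAdd x + Multiplicative.toAdd x) = 1
    have : Multiplicative.toAdd x + Multiplicative.toAdd x = 0 := by
      funext i
      exact CharTwo.add_self_eq_zero _
    rw [this]; rfl
  · have : Nat.card (Multiplicative (Fin 6 → F)) = 2 ^ 6 := by
      rw [Nat.card_congr Multiplicative.toAdd, Nat.card_fun, Nat.card_eq_fintype_card, hF]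
      simp
    rw [this]
  · exact ((toMA_injective (F := F) (Fin 6 → F)).comp Matrix.SpecialLinearGroup.toLin'_injective).comp
      (e.trans e2.symm).injective

end SL

/-! ### `Sp₈(2)` -/

theorem seven {k m : ℕ} (h : m = 2 ^ k * 405) : ¬ 7 ∣ m := by
  intro h7
  rw [h] at h7
  rcases (Nat.Prime.dvd_mul (by norm_num)).1 h7 with h8 | h8
  · have := (Nat.Prime.dvd_of_dvd_pow (by norm_num) h8)
    norm_num at this
  · norm_num at h8

theorem kill_psp {M : Type*} [Group M] {F : Type*} [Field F] [Fintype F] (hF : Fintype.card F = 2)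
    (e : M ≃* Cfsg.PSp 4 F) {t : M} (ht : orderOf t = 2) {k : ℕ}
    (hc : Nat.card (centralizer ({t} : Set M)) = 2 ^ k * 405) : False := by
  have : Fact (Nat.Prime 2) := ⟨Nat.prime_two⟩
  have hchar : CharP F 2 := charP_of_card_eq_prime hF
  have hcen : center (Matrix.symplecticGroup (Fin 4) F) = ⊥ := by
    have h1 := Cfsg.Agent.S0246.result (F := F) hF 4 (by norm_num)
    norm_num at h1
    exact h1
  have hbij : Function.Bijective (QuotientGroup.mk' (center (Matrix.symplecticGroup (Fin 4) F))) := by
    refine ⟨?_, QuotientGroup.mk'_surjective _⟩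
    rw [← MonoidHom.ker_eq_bot_iff, QuotientGroup.ker_mk', hcen]
  let e2 : Matrix.symplecticGroup (Fin 4) F ≃* Cfsg.PSp 4 F := MulEquiv.ofBijective _ hbij
  let E : M ≃* Matrix.symplecticGroup (Fin 4) F := e.trans e2.symm
  set T : Matrix.symplecticGroup (Fin 4) F := E t with hT
  have hTo : orderOf T = 2 := by rw [hT, ← ht]; exact E.orderOf_eq t
  have hT2 : T ^ 2 = 1 := by rw [← hTo]; exact pow_orderOf_eq_one T
  have hT1 : T ≠ 1 := by
    intro h; rw [h, orderOf_one] at hTo; omega
  have hcT : Nat.card (centralizer ({T} : Set (Matrix.symplecticGroup (Fin 4) F))) = 2 ^ k * 405 := by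
    rw [← hc]
    have h1 : (centralizer ({t} : Set M)).map E.toMonoidHom = centralizer {T} := by
      ext x
      constructor
      · rintro ⟨y, hy, rfl⟩
        rw [mem_centralizer_singleton_iff]
        have h3 : y * t = t * y := mem_centralizer_singleton_iff.1 hy
        have h4 := congrArg E h3
        rwa [map_mul, map_mul] at h4
      · intro hx
        refine ⟨E.symm x, ?_, E.apply_symm_apply _⟩
        rw [SetLike.mem_coe, mem_centralizer_singleton_iff]
        apply E.injective
        rw [map_mul, map_mul, E.apply_symm_apply]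
        exact mem_centralizer_singleton_iff.1 hx
    rw [← h1, card_map_of_injective E.injective]
  have h405 : 405 ∣ Nat.card (centralizer ({T} : Set (Matrix.symplecticGroup (Fin 4) F))) := by
    rw [hcT]; exact Dvd.intro_left _ rfl
  have h7 := seven hcT
  -- the rank
  obtain ⟨s, hs⟩ : ∃ s, ((T : Matrix (Fin 4 ⊕ Fin 4) (Fin 4 ⊕ Fin 4) F) - 1).rank = s := ⟨_, rfl⟩
  have hs8 : s ≤ 8 := by
    rw [← hs]
    refine (Matrix.rank_le_card_width _).trans ?_
    simp
  rcases Nat.even_or_odd s with hev | hodd
  · by_cases halt : ∀ v : Fin 4 ⊕ Fin 4 → F,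
      Cfsg.sympForm 4 F v ((T : Matrix (Fin 4 ⊕ Fin 4) (Fin 4 ⊕ Fin 4) F).mulVec v) = 0
    · have h := Cfsg.Agent.S2681.result hF T hT2 hT1 hs hev halt
      rw [h] at h405 h7
      clear h hcT hs halt
      interval_cases s <;> revert hev h405 h7 <;> simp [Fin.prod_univ_succ]
    · push Not at halt
      have h := Cfsg.Agent.S2682.result hF T hT2 hs hev halt
      rw [h] at h405 h7
      clear h hcT hs halt
      interval_cases s <;> revert hev h405 h7 <;> simp [Fin.prod_univ_succ]
  · have h := Cfsg.Agent.S2680.result hF T hT2 hs hodd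
    rw [h] at h405 h7
    clear h hcT hs
    interval_cases s <;> revert hodd h405 h7 <;> simp [Fin.prod_univ_succ]

end Cfsg.Agent.H316.Kill
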