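import Cfsg.Agent.H316.KLie
import Cfsg.Agent.H316.KClass
import Cfsg.Agent.NotCT.Orders
import Cfsg.Agent.SigZeroHN.Main
import Cfsg.Agent.MonsterX.ThOneClass

/-!
# Sporadic groups with an involution centralizer of order `2^k 405`, `2^k = |G|₂`, `13 ≤ k ≤ 17` (helper316)
-/

set_option autoImplicit false

namespace Cfsg.Agent.H316.Kill

open Subgroup Cfsg

theorem Nk.dvd13 {c k : ℕ} (h : Nk c k) : 2 ^ 13 ∣ c := by
  obtain ⟨m, -, rfl⟩ := h.odd
  exact (pow_dvd_pow 2 h.ge).trans (Dvd.intro _ rfl)

theorem Nk.not18 {c k : ℕ} (h : Nk c k) : ¬ 2 ^ 18 ∣ c := fun h1 =>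
  h.big (d := 1) odd_one (one_mul c) h1

/-- centralizer orders and isomorphisms -/
theorem card_centralizer_map {M N : Type*} [Group M] [Group N] (e : M ≃* N) (t : M) :
    Nat.card (centralizer ({e t} : Set N)) = Nat.card (centralizer ({t} : Set M)) := by
  have h1 : (centralizer ({t} : Set M)).map e.toMonoidHom = centralizer {e t} := by
    ext x
    constructor
    · rintro ⟨y, hy, rfl⟩
      rw [mem_centralizer_singleton_iff]
      have h3 : y * t = t * y := mem_centralizer_singleton_iff.1 hy
      have h4 := congrArg e h3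
      rwa [map_mul, map_mul] at h4
    · intro hx
      refine ⟨e.symm x, ?_, e.apply_symm_apply _⟩
      rw [SetLike.mem_coe, mem_centralizer_singleton_iff]
      apply e.injective
      rw [map_mul, map_mul, e.apply_symm_apply]
      exact mem_centralizer_singleton_iff.1 hx
  rw [← h1, card_map_of_injective e.injective]

variable {M : Type*} [Group M] {k : ℕ}

theorem hn (h : Spor.IsoHN M) {t : M} (ht : orderOf t = 2)
    (hc : Nat.card (centralizer ({t} : Set M)) = 2 ^ k * 405) : False := by
  obtain ⟨e⟩ := h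
  have h405 : 405 ∣ Nat.card (centralizer ({e t} : Set Spor.HN)) := by
    rw [card_centralizer_map, hc]; exact Dvd.intro_left _ rfl
  rcases Cfsg.Agent.SigZeroHN.card_centralizer_cases (u := e t) (by rw [← ht]; exact e.orderOf_eq t) with
    ⟨-, h⟩ | ⟨-, h⟩ <;> rw [h] at h405 <;> revert h405 <;> decide

theorem th (h : Spor.IsoTh M) {t : M} (ht : orderOf t = 2)
    (hc : Nat.card (centralizer ({t} : Set M)) = 2 ^ k * 405) : False := by
  obtain ⟨e⟩ := h
  have h1 := Cfsg.Agent.MonsterX.ThOneClass.card_centralizer (s := e t) (by rw [← ht]; exact e.orderOf_eq t)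
  rw [card_centralizer_map, hc] at h1
  exact seven h1.symm (by norm_num)

/-- **Sporadic groups.** -/
theorem spor (h : IsSporadicGroup M) (hk : Nk (Nat.card M) k) {t : M} (ht : orderOf t = 2)
    (hc : Nat.card (centralizer ({t} : Set M)) = 2 ^ k * 405) :
    (Spor.IsoSuz M ∧ k = 13) ∨ (Spor.IsoFi22 M ∧ k = 17) := by
  have h13 := hk.dvd13
  have h18 := hk.not18
  have h81 := hk.dvd
  rcases h with h | h | h | h | h | h | h | h | h | h | h | h | h | h | h | h | h | h | h | h | h | h | h | h | h | h
  · rw [NotCT.Orders.m11 h] at h13; exact absurd h13 (by decide)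
  · rw [NotCT.Orders.m12 h] at h13; exact absurd h13 (by decide)
  · rw [NotCT.Orders.m22 h] at h13; exact absurd h13 (by decide)
  · rw [NotCT.Orders.m23 h] at h13; exact absurd h13 (by decide)
  · rw [NotCT.Orders.m24 h] at h13; exact absurd h13 (by decide)
  · rw [NotCT.Orders.j1 h] at h13; exact absurd h13 (by decide)
  · rw [NotCT.Orders.j2 h] at h13; exact absurd h13 (by decide)
  · rw [NotCT.Orders.j3 h] at h13; exact absurd h13 (by decide)
  · rw [NotCT.Orders.j4 h] at h18; exact absurd (by decide) h18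
  · rw [NotCT.Orders.co1 h] at h18; exact absurd (by decide) h18
  · rw [NotCT.Orders.co2 h] at h18; exact absurd (by decide) h18
  · rw [NotCT.Orders.co3 h] at h13; exact absurd h13 (by decide)
  · rw [NotCT.Orders.mcl h] at h13; exact absurd h13 (by decide)
  · rw [NotCT.Orders.hs h] at h13; exact absurd h13 (by decide)
  · left
    refine ⟨h, ?_⟩
    obtain ⟨m, hm, hcm⟩ := hk.odd
    rw [NotCT.Orders.suz h] at hcm
    exact (pow_eq (n := 13) (u := 54729675) (by decide) hm (by rw [← hcm]; norm_num)).symm
  · rw [NotCT.Orders.he h] at h13; exact absurd h13 (by decide)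
  · rw [NotCT.Orders.ru h] at h81; exact absurd h81 (by decide)
  · rw [NotCT.Orders.on h] at h13; exact absurd h13 (by decide)
  · rw [NotCT.Orders.ly h] at h13; exact absurd h13 (by decide)
  · right
    refine ⟨h, ?_⟩
    obtain ⟨m, hm, hcm⟩ := hk.odd
    rw [NotCT.Orders.fi22 h] at hcm
    exact (pow_eq (n := 17) (u := 492567075) (by decide) hm (by rw [← hcm]; norm_num)).symm
  · rw [NotCT.Orders.fi23 h] at h18; exact absurd (by decide) h18
  · rw [NotCT.Orders.fi24 h] at h18; exact absurd (by decide) h18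
  · exact (hn h ht hc).elim
  · exact (th h ht hc).elim
  · rw [NotCT.Orders.b h] at h18; exact absurd (by decide) h18
  · rw [NotCT.Orders.m h] at h18; exact absurd (by decide) h18

end Cfsg.Agent.H316.Kill
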