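import Cfsg.Agent.H316.KAlt
import Cfsg.Agent.H316.KSpor
import Cfsg.Agent.H316.RedMain
import Cfsg.Agent.FixBN.LOAll
import Cfsg.Agent.OddHalf.Known
import Cfsg.Agent.OddCyclic.T1Socle
import Cfsg.Agent.KFacts.SuzOut
import Cfsg.Agent.S0815
import Cfsg.Agent.SporadicStructure.PsuMatch

/-!
# The known simple groups `M` with `SimpleData M k`, `k ≤ 17` (helper316)

* `known` : `Suz` (`k = 13`), `U₆(2)` (`k = 15`) or `Fi₂₂` (`k = 17`);
* `final` : the index of `M` in `G`.
-/

set_option autoImplicit false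

namespace Cfsg.Agent.H316.Kill

open Subgroup Cfsg Cfsg.Agent.H316.Red

variable {M : Type*} [Group M] {k : ℕ}

theorem nk_of_data [Finite M] (h : SimpleData M k) (hk : k ≤ 17) : Nk (Nat.card M) k where
  ge := h.ge
  le := hk
  odd := h.card
  dvd := by
    obtain ⟨t, -, ht⟩ := h.exists_inv
    have h1 : 405 ∣ Nat.card (centralizer ({t} : Set M)) := by rw [ht]; exact Dvd.intro_left _ rfl
    exact (by norm_num : 81 ∣ 405).trans (h1.trans (card_subgroup_dvd_card _))

theorem not_comm_of [Finite M] [hs : IsSimpleGroup M] (h : SimpleData M k) : ¬ IsMulCommutative M := by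
  intro hc
  obtain ⟨m, hm, hcm⟩ := h.card
  have h1 : (Nat.card M).Prime := by
    let _ : CommGroup M := { (inferInstance : Group M) with mul_comm := hc.is_comm.comm }
    exact IsSimpleGroup.prime_card
  have h2 : 2 ∣ Nat.card M := by
    rw [hcm]
    exact (dvd_pow_self 2 (by have := h.ge; omega)).mul_right m
  have h3 : Nat.card M = 2 := ((Nat.prime_dvd_prime_iff_eq Nat.prime_two h1).1 h2).symm
  have h4 : 2 ^ 13 ∣ Nat.card M := by
    rw [hcm]
    exact (pow_dvd_pow 2 h.ge).trans (Dvd.intro _ rfl)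
  rw [h3] at h4
  exact absurd h4 (by decide)

/-- the 2-part of the order of `U₆(2)` -/
theorem psu_k {F : Type*} [Field F] [Fintype F] (hF : Fintype.card F = 4) (e : M ≃* PSU 6 F 2)
    (hk : Nk (Nat.card M) k) : k = 15 := by
  have h0 := Cfsg.Agent.S0280.result (F := F) (q := 2) (by rw [hF]; norm_num) 6 (by norm_num)
  rw [← Nat.card_congr e.toEquiv] at h0
  have h1 : 9 * Nat.card M = 2 ^ 15 * (∏ i ∈ Finset.range 6, (if Even i then 2 ^ (i + 1) + 1 else 2 ^ (i + 1) - 1)) := by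
    rw [← mul_assoc] at h0
    exact h0
  exact (hk.pin (by decide) (by decide) h1).symm

/-- **The known simple groups.** -/
theorem known [Finite M] [IsSimpleGroup M] (hS : IsKnownSimple' M) (h : SimpleData M k) (hk : k ≤ 17) :
    (Spor.IsoSuz M ∧ k = 13) ∨
      ((∃ (F : Type) (_ : Field F) (_ : Fintype F), Fintype.card F = 4 ∧ Nonempty (M ≃* PSU 6 F 2)) ∧ k = 15) ∨
      (Spor.IsoFi22 M ∧ k = 17) := by
  have hN := nk_of_data h hk
  obtain ⟨t, ht, hc⟩ := h.exists_inv
  have h81 : 81 ∣ Nat.card (centralizer ({t} : Set M)) := by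
    rw [hc]
    exact (by norm_num : 81 ∣ 405).trans (Dvd.intro_left _ rfl)
  rcases Cfsg.Agent.OddHalf.Known.classify (not_comm_of h) hS with h1 | ⟨p, hp, hp2, h1⟩ | h1 | h1
  · exact (alt h1 ht hc).elim
  · exact (h.lo (Cfsg.Agent.FixBN.loAut_of_isLieTypeChar hp2 h1)).elim
  · rcases h1 with h1 | h1
    · rcases lie h1 hN with h2 | h2 | h2
      · exfalso
        obtain ⟨F, _, _, hF, h3⟩ := h2
        rcases h3 with h3 | h3
        · obtain ⟨e⟩ := h3
          exact kill_psl hF e ht h81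
        · obtain ⟨e⟩ := h3
          exact kill_psp hF e ht hc
      · right; left
        refine ⟨h2, ?_⟩
        obtain ⟨F, _, _, hF, ⟨e⟩⟩ := h2
        exact psu_k hF e hN
      · exfalso
        exact Cfsg.Agent.OddCyclic.T1Socle.not_three_dvd h2 ((by norm_num : 3 ∣ 81).trans hN.dvd)
    · exfalso
      have h13 := hN.dvd13
      rw [NotCT.Orders.tits h1] at h13
      exact absurd h13 (by decide)
  · rcases spor h1 hN ht hc with h2 | h2
    · exact Or.inl h2
    · exact Or.inr (Or.inr h2)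

/-! ### the index -/

variable {G : Type*} [Group G] [Finite G]

omit [Finite G] in
/-- `|G|` divides `|Aut M|` -/
theorem card_dvd_aut {M : Subgroup G} (hM : M.Normal) (hc : centralizer (M : Set G) = ⊥) :
    Nat.card G ∣ Nat.card (MulAut M) := by
  apply card_dvd_of_injective (MulAut.conjNormal (H := M))
  rw [← MonoidHom.ker_eq_bot_iff, eq_bot_iff, ← hc]
  intro g hg
  rw [mem_centralizer_iff]
  intro m hm
  have h1 : MulAut.conjNormal g = (1 : MulAut M) := hg
  have h2 : ((MulAut.conjNormal g) (⟨m, hm⟩ : M) : G) = m := by rw [h1]; rfl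
  rw [MulAut.conjNormal_apply] at h2
  exact (mul_inv_eq_iff_eq_mul.1 h2).symm

omit [Finite G] in
theorem card_dvd_aut' {M : Subgroup G} (hM : M.Normal) (hc : centralizer (M : Set G) = ⊥) :
    Nat.card M * M.index ∣ Nat.card (MulAut M) := by
  rw [card_mul_index]; exact card_dvd_aut hM hc

theorem card_mulAut_congr {A B : Type*} [Group A] [Group B] (e : A ≃* B) :
    Nat.card (MulAut A) = Nat.card (MulAut B) :=
  Nat.card_congr (MulAut.congr e).toEquiv

/-- `|Aut Suz| ∣ 2 |Suz|` -/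
theorem card_aut_suz (h : Spor.IsoSuz M) : Nat.card (MulAut M) ∣ Nat.card M * 2 := by
  obtain ⟨e⟩ := h
  rw [card_mulAut_congr e, Nat.card_congr e.toEquiv]
  have h1 := card_mul_index (MulAut.conj : Spor.Suz →* MulAut Spor.Suz).range
  rw [← h1]
  refine mul_dvd_mul ?_ ?_
  · exact card_range_dvd _
  · rcases Cfsg.Agent.KFacts.SuzOut.index_eq with h2 | h2 <;> rw [h2]
    · exact one_dvd 2

/-- `|Aut U₆(2)| = 6 |U₆(2)|` -/
theorem card_aut_psu {F : Type*} [Field F] [Fintype F] (hF : Fintype.card F = 4) (e : M ≃* PSU 6 F 2) :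
    Nat.card (MulAut M) = Nat.card M * 6 := by
  have : Fact (Nat.Prime 2) := ⟨Nat.prime_two⟩
  rw [card_mulAut_congr e, Nat.card_congr e.toEquiv,
    Cfsg.Agent.S0815.result (F := F) 2 1 le_rfl (q := 2) (by norm_num) (by rw [hF]; norm_num) 6 (by norm_num)
      (by norm_num)]
  have : Nat.gcd 6 (2 + 1) * (2 * 1) = 6 := by norm_num
  rw [this]; ring

/-- **The almost simple group.** -/
theorem final {M : Subgroup G} (hM : M.Normal) [IsSimpleGroup M] (hc : centralizer (M : Set G) = ⊥)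
    {a k : ℕ} (hS : IsKnownSimple' M) (h : SimpleData M k) (hka : k ≤ a) (hi : M.index = 2 ^ (a - k))
    (ha : 15 ≤ a) (ha' : a ≤ 17) :
    (a ≤ 16 ∧ M.index = 2 ^ (a - 15) ∧ ∃ (F : Type) (_ : Field F) (_ : Fintype F), Fintype.card F = 4 ∧
      Nonempty (M ≃* PSU 6 F 2)) ∨ (a = 17 ∧ M = ⊤ ∧ Spor.IsoFi22 M) := by
  have h0 := card_dvd_aut' hM hc
  have hpos : 0 < Nat.card M := Nat.card_pos
  rcases known hS h (by omega) with ⟨h1, rfl⟩ | ⟨h1, rfl⟩ | ⟨h1, rfl⟩
  · exfalso
    have h2 := h0.trans (card_aut_suz h1)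
    rw [hi] at h2
    have h3 : 2 ^ (a - 13) ∣ 2 := Nat.dvd_of_mul_dvd_mul_left hpos h2
    have h4 : 2 ^ 2 ∣ 2 ^ (a - 13) := pow_dvd_pow 2 (by omega)
    exact absurd (h4.trans h3) (by decide)
  · left
    refine ⟨?_, hi, h1⟩
    by_contra hlt
    have ha17 : a = 17 := by omega
    subst ha17
    obtain ⟨F, _, _, hF, ⟨e⟩⟩ := h1
    rw [card_aut_psu hF e, hi] at h0
    have h3 : 2 ^ (17 - 15) ∣ 6 := Nat.dvd_of_mul_dvd_mul_left hpos h0
    exact absurd h3 (by decide)
  · right
    have ha17 : a = 17 := by omega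
    subst ha17
    refine ⟨rfl, ?_, h1⟩
    rw [← index_eq_one, hi]
    rfl

end Cfsg.Agent.H316.Kill
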