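import Cfsg.Agent.H316.U3Def
import Cfsg.Agent.H469.Exc.Unip
import Cfsg.Agent.Nodes.StabComb

/-!
# H9-U3: subspaces stable under the unipotent elements of the centralisers (helper316, hub H9)

* `stabU_cent` : `L` is stable under the `σ`-fixed `r`-elements of `C(x)`, `z x z⁻¹ ∈ TT`: then `L` is stable under
  `z⁻¹ X_γ z`, `γ ∈ Sx (z x z⁻¹)`;
* `stabU_top` : if this holds for all `1 ≠ x ∈ E`, `E` toral of order `p²`, then `L` is stable under `D.group k`.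
-/

set_option autoImplicit false
set_option linter.unusedSectionVars false

namespace Cfsg.Agent.H316.U3

open CoxeterSystem Cfsg Cfsg.Lie Cfsg.Lie.ChevalleyDatum
open Cfsg.Agent.ChevalleyStructure Cfsg.Agent.ChevalleyStructure.Elts Cfsg.Agent.ChevalleyStructure.CoxeterGeom
  Cfsg.Agent.ChevalleyStructure.CoxeterGeomTypes Cfsg.Agent.ChevalleyStructure.NPerm
open Cfsg.Agent.Tits.Roots Cfsg.Agent.Tits.Core Cfsg.Agent.Nodes Cfsg.Agent.Nodes.Reps Cfsg.Agent.Nodes.BNOf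
  Cfsg.Agent.Nodes.RGDChev Cfsg.Agent.Nodes.Bruhat Cfsg.Agent.Nodes.NormalForm Cfsg.Agent.Nodes.StabComb
open Cfsg.Agent.KFacts.RgdField Cfsg.Agent.KFacts.RgdChevCoord
open Cfsg.Agent.BpExc Cfsg.Agent.BpExc.TorCent Cfsg.Agent.BpExc.TorChev Cfsg.Agent.BpExc.Tow
  Cfsg.Agent.BpExc.TowChev Cfsg.Agent.BpExc.Fr Cfsg.Agent.BpExc.Pair Cfsg.Agent.BpExc.LangFr Cfsg.Agent.GpExc.Field
  Cfsg.Agent.BpExc.NInst Cfsg.Agent.BpExc.NChev Cfsg.Agent.BpExc.Asm Cfsg.Agent.H469.Exc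
open scoped commutatorElement

universe u v

/-! ### stable subspaces -/

section Stab

variable {D : ChevalleyDatum} {k : Type u} [Field k] {L : Submodule k (D.Idx → k)}

theorem StabU.one : StabU L (1 : ↥(D.group k)) := fun v hv => by
  rw [Subgroup.coe_one, Units.val_one, Matrix.one_mulVec]; exact hv

theorem StabU.mul {a b : ↥(D.group k)} (ha : StabU L a) (hb : StabU L b) : StabU L (a * b) := fun v hv => by
  rw [Subgroup.coe_mul, Units.val_mul, ← Matrix.mulVec_mulVec]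
  exact ha _ (hb _ hv)

theorem mulVec_inv_mulVec (a : ↥(D.group k)) (v : D.Idx → k) :
    ((a⁻¹ : ↥(D.group k)) : GL D.Idx k).1.mulVec (((a : GL D.Idx k)).1.mulVec v) = v := by
  rw [Matrix.mulVec_mulVec, ← Units.val_mul, ← Subgroup.coe_mul, inv_mul_cancel, Subgroup.coe_one, Units.val_one,
    Matrix.one_mulVec]

theorem mulVec_mulVec_inv (a : ↥(D.group k)) (v : D.Idx → k) :
    ((a : GL D.Idx k)).1.mulVec (((a⁻¹ : ↥(D.group k)) : GL D.Idx k).1.mulVec v) = v := by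
  rw [Matrix.mulVec_mulVec, ← Units.val_mul, ← Subgroup.coe_mul, mul_inv_cancel, Subgroup.coe_one, Units.val_one,
    Matrix.one_mulVec]

theorem StabU.inv {a : ↥(D.group k)} (ha : StabU L a) : StabU L a⁻¹ := by
  have hinj : Function.Injective (((a : GL D.Idx k)).1.mulVecLin) := by
    intro v w hvw
    have h1 : ((a : GL D.Idx k)).1.mulVec v = ((a : GL D.Idx k)).1.mulVec w := hvw
    rw [← mulVec_inv_mulVec a v, h1, mulVec_inv_mulVec]
  let f : ↥L →ₗ[k] ↥L := (((a : GL D.Idx k)).1.mulVecLin).restrict (p := L) (q := L) (fun v hv => ha v hv)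
  have hf : Function.Injective f := by
    intro v w hvw
    exact Subtype.ext (hinj (congrArg Subtype.val hvw))
  have hs : Function.Surjective f := LinearMap.injective_iff_surjective.1 hf
  intro v hv
  obtain ⟨w, hw⟩ := hs ⟨v, hv⟩
  have h2 : ((a : GL D.Idx k)).1.mulVec w.1 = v := congrArg Subtype.val hw
  rw [← h2, mulVec_inv_mulVec]
  exact w.2

/-- The stabiliser of `L`. -/
def stab (L : Submodule k (D.Idx → k)) : Subgroup ↥(D.group k) where
  carrier := {u | StabU L u}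
  one_mem' := StabU.one
  mul_mem' := StabU.mul
  inv_mem' := StabU.inv

theorem mem_stab {u : ↥(D.group k)} : u ∈ stab L ↔ StabU L u := Iff.rfl

/-- `z⁻¹ L` -/
def tr (L : Submodule k (D.Idx → k)) (z : ↥(D.group k)) : Submodule k (D.Idx → k) :=
  L.comap ((z : GL D.Idx k).1.mulVecLin)

theorem mem_tr {z : ↥(D.group k)} {v : D.Idx → k} : v ∈ tr L z ↔ ((z : GL D.Idx k)).1.mulVec v ∈ L := Iff.rfl

theorem stabU_tr {z u : ↥(D.group k)} : StabU (tr L z) u ↔ StabU L (z * u * z⁻¹) := by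
  constructor
  · intro h v hv
    have h1 := h (((z⁻¹ : ↥(D.group k)) : GL D.Idx k).1.mulVec v) (by
      rw [mem_tr, mulVec_mulVec_inv]; exact hv)
    rw [mem_tr, Matrix.mulVec_mulVec, Matrix.mulVec_mulVec, ← Units.val_mul, ← Units.val_mul, ← Subgroup.coe_mul,
      ← Subgroup.coe_mul] at h1
    rw [mul_assoc]
    rw [mul_assoc] at h1
    exact h1
  · intro h v hv
    rw [mem_tr] at hv ⊢
    have h1 := h _ hv
    rw [Matrix.mulVec_mulVec, ← Units.val_mul, ← Subgroup.coe_mul, inv_mul_cancel_right, Subgroup.coe_mul,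
      Units.val_mul, ← Matrix.mulVec_mulVec] at h1
    exact h1

end Stab

variable {D : ChevalleyDatum} {l : ℕ} {M : CoxeterMatrix (Fin l)} (hp : IsType D l M) {k : Type u} [Field k]
  {W : Type v} [Group W] (cs : CoxeterSystem M W)

/-- the elements of `Sup XX Pos` are `r`-elements -/
theorem pow_of_pos (hk : LocFin k) {r : ℕ} [Fact r.Prime] [CharP k r] {u : ↥(D.group k)}
    (hu : u ∈ RGD.Sup (XX D l k) (RGD.Pos cs hp.isCartan)) : ∃ j, u ^ r ^ j = 1 := by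
  have := finite_W hp cs
  have H := tow (k := k) hp cs hk r
  rw [← XL_eq (k := k) hp hk, H.mem_Sup] at hu
  obtain ⟨E, hE⟩ := hu
  have hfin : Finite ↥(GG cs hp.isCartan (Tj hp E) (Xj hp E)) := finite_GG hp cs E
  obtain ⟨j, hj⟩ := (H.rgd E).isPGroup_Upos ⟨u, hE⟩
  exact ⟨j, congrArg Subtype.val hj⟩

/-- `conj c σ conj c⁻¹` -/
theorem isFrob_conj {r e : ℕ} [Fact r.Prime] [CharP k r] {τ : MulAut ↥(D.group k)} (hτ : IsFrob r e τ)
    (c : ↥(D.group k)) : IsFrob r e (MulAut.conj c * τ * (MulAut.conj c)⁻¹) := by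
  have h1 : MulAut.conj c * τ * (MulAut.conj c)⁻¹ = MulAut.conj (c * (τ c)⁻¹) * τ := by
    ext y
    show ((c * τ (c⁻¹ * y * c) * c⁻¹ : ↥(D.group k)) : GL D.Idx k) _ _ = _
    rw [map_mul, map_mul, map_inv]
    show _ = ((c * (τ c)⁻¹ * τ y * (c * (τ c)⁻¹)⁻¹ : ↥(D.group k)) : GL D.Idx k) _ _
    rw [mul_inv_rev, inv_inv]
    simp only [mul_assoc]
  rw [h1]
  exact hτ.conj_mul _

/-- **The negative roots.** -/
theorem Density.neg (hk : LocFin k) {r e : ℕ} [Fact r.Prime] [CharP k r] (hd : Density hp cs k r e)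
    {τ : MulAut ↥(D.group k)} (hτ : IsFrob r e τ) {g : (Fin l → ℤ) ≃+ (Fin l → ℤ)}
    (F : Fr cs hp.isCartan (TT D k) (XX D l k) τ g) {S : Set (Fin l → ℤ)}
    (hS : ∀ a ∈ S, IsRoot cs hp.isCartan a ∧ a ≤ 0) (hg : ∀ a ∈ S, g a ∈ S)
    (hcl : ∀ a ∈ S, ∀ b ∈ S, ∀ i j : ℕ, 0 < i → 0 < j → IsRoot cs hp.isCartan (i • a + j • b) → i • a + j • b ∈ S)
    (L : Submodule k (D.Idx → k)) (h : ∀ u ∈ RGD.Sup (XX D l k) S, τ u = u → StabU L u) :
    ∀ u ∈ RGD.Sup (XX D l k) S, StabU L u := by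
  have := finite_W hp cs
  have H := tow (k := k) hp cs hk r
  obtain ⟨c, -, hc⟩ := H.exists_rp (w0 cs)
  have Fc := Fr.conj H hc
  rw [TL_eq (k := k) hp hk, XL_eq (k := k) hp hk] at Fc
  set S' : Set (Fin l → ℤ) := {a | rep cs hp.isCartan (w0 cs)⁻¹ a ∈ S} with hS'
  have hinv : ∀ a : Fin l → ℤ, rep cs hp.isCartan (w0 cs)⁻¹ (rep cs hp.isCartan (w0 cs) a) = a := fun a => by
    rw [← rep_mul_apply, inv_mul_cancel, map_one, Module.End.one_apply]
  have hinv' : ∀ a : Fin l → ℤ, rep cs hp.isCartan (w0 cs) (rep cs hp.isCartan (w0 cs)⁻¹ a) = a := fun a => by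
    rw [← rep_mul_apply, mul_inv_cancel, map_one, Module.End.one_apply]
  have hSS : ∀ a, repAut cs hp.isCartan (w0 cs) a ∈ S' ↔ a ∈ S := by
    intro a
    rw [hS', Set.mem_setOf_eq, repAut_apply, hinv]
  have hmem := fun y => Fc.mem_Sup (fun a ha => (hS a ha).1) hSS y
  have F' := (Fc.mul F).mul Fc.inv
  have hτ' := isFrob_conj hτ c
  have h1 := hd _ hτ' _ F' S' ?_ ?_ ?_ (tr L c⁻¹) ?_
  · intro u hu
    have h2 := h1 (MulAut.conj c u) ((hmem u).2 hu)
    rw [stabU_tr, MulAut.conj_apply] at h2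
    have e1 : c⁻¹ * (c * u * c⁻¹) * c⁻¹⁻¹ = u := by group
    rwa [e1] at h2
  · intro a ha
    have h2 := hS _ ha
    refine ⟨?_, ?_⟩
    · have h3 := h2.1.act (w0 cs)
      rwa [hinv'] at h3
    · have h3 := rep_w0_nonneg (cs := cs) (h := hp.isCartan) h2.1 h2.2
      rwa [hinv'] at h3
  · intro a ha
    show rep cs hp.isCartan (w0 cs)⁻¹ (rep cs hp.isCartan (w0 cs) (g ((repAut cs hp.isCartan (w0 cs)).symm a))) ∈ S
    rw [hinv]
    exact hg _ ha
  · intro a ha b hb i j hi hj hr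
    show rep cs hp.isCartan (w0 cs)⁻¹ (i • a + j • b) ∈ S
    rw [map_add, map_nsmul, map_nsmul]
    refine hcl _ ha _ hb i j hi hj ?_
    have h3 := hr.act (w0 cs)⁻¹
    rwa [map_add, map_nsmul, map_nsmul] at h3
  · intro u hu huτ
    rw [stabU_tr]
    refine h _ ?_ ?_
    · have e1 : u = MulAut.conj c (c⁻¹ * u * c⁻¹⁻¹) := by rw [MulAut.conj_apply]; group
      rw [e1] at hu
      exact (hmem _).1 hu
    · have h2 : c * τ ((MulAut.conj c)⁻¹ u) * c⁻¹ = u := huτ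
      have e1 : (MulAut.conj c)⁻¹ u = c⁻¹ * u * c⁻¹⁻¹ := by
        rw [← map_inv, MulAut.conj_apply]
      rw [e1] at h2
      calc τ (c⁻¹ * u * c⁻¹⁻¹) = c⁻¹ * (c * τ (c⁻¹ * u * c⁻¹⁻¹) * c⁻¹) * c⁻¹⁻¹ := by group
        _ = _ := by rw [h2]

/-- **The centraliser of one toral element.** -/
theorem stabU_cent [IsAlgClosed k] (hk : LocFin k) {r e : ℕ} [Fact r.Prime] [CharP k r] (he : 0 < e)
    (hd : Density hp cs k r e) {σ : MulAut ↥(D.group k)} (hσ : IsFrob r e σ) {g : (Fin l → ℤ) ≃+ (Fin l → ℤ)}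
    (Fσ : Fr cs hp.isCartan (TT D k) (XX D l k) σ g) {x z : ↥(D.group k)} (hσx : σ x = x)
    (hz : z * x * z⁻¹ ∈ TT D k) {L : Submodule k (D.Idx → k)}
    (hL : ∀ u, σ u = u → u * x = x * u → (∃ j, u ^ r ^ j = 1) → StabU L u) {γ : Fin l → ℤ}
    (hγ : γ ∈ Sx cs hp.isCartan (ch hp) (z * x * z⁻¹)) {u : ↥(D.group k)} (hu : u ∈ XX D l k γ) :
    StabU L (z⁻¹ * u * z) := by
  have := finite_W hp cs
  have H := tow (k := k) hp cs hk r
  have hTL := TL_eq (k := k) hp hk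
  have hXL := XL_eq (k := k) hp hk
  have C := coordsL (k := k) hp cs hk r
  have hA := chAddL (k := k) hp cs hk r
  have hG := GG_eq_top (k := k) hp cs hk
  have Fσ' : Fr cs hp.isCartan (TL (Tj hp (k := k))) (XL (Xj hp (k := k))) σ g := by rw [hTL, hXL]; exact Fσ
  set t : ↥(D.group k) := z * x * z⁻¹ with ht
  have ht' : t ∈ TL (Tj hp (k := k)) := by rw [hTL]; exact hz
  have C' : Coords cs hp.isCartan (TL (Tj hp (k := k))) (nc hp k) (XL (Xj hp (k := k))) (xc hp) (ch hp) := by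
    rw [hTL, hXL]; exact C
  have hA' : ChAdd cs hp.isCartan (TL (Tj hp (k := k))) (ch (K := k) hp) := by rw [hTL]; exact hA
  obtain ⟨z', k', g', h1, h2, h3, h4, h5⟩ := pair_reduction H C' hA' hG Fσ' hσx (z := z⁻¹) (t := t)
    (by rw [ht]; group) ht' (fun k' g' F' htt m hm => by
      have h1 := fun a => F'.mem_Sx C' ht' htt a
      rw [hTL, hXL] at F'
      rw [hXL] at hm ⊢
      exact lang_fr hp cs he (hσ.conj_mul k') F' (S := Sx cs hp.isCartan (ch hp) t) (fun a ha => ha.1)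
        (fun a ha => (h1 a).2 ha) hm)
  have hgS : ∀ a, g' a ∈ Sx cs hp.isCartan (ch hp) t ↔ a ∈ Sx cs hp.isCartan (ch hp) t := fun a =>
    h3.mem_Sx C' ht' h4 a
  rw [hTL, hXL] at h3
  have hτ := hσ.conj_mul k'
  set τ : MulAut ↥(D.group k) := MulAut.conj k' * σ with hτdef
  have hxz : z' * t * z'⁻¹ = x := by rw [← h1]; group
  -- the stable subspace
  have key : ∀ y : ↥(D.group k), τ y = y → y * t = t * y → (∃ j, y ^ r ^ j = 1) → StabU (tr L z') y := by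
    intro y hy hyt ⟨j, hj⟩
    rw [stabU_tr]
    have h6 := (fixEquiv h1 h2 ⟨y, mem_fixC.2 ⟨hy, hyt⟩⟩).2
    obtain ⟨h7, h8⟩ := mem_fixC.1 h6
    refine hL _ h7 h8 ⟨j, ?_⟩
    show (z' * y * z'⁻¹) ^ r ^ j = 1
    rw [conj_pow, hj, mul_one, mul_inv_cancel]
  have hcent : ∀ S ⊆ Sx cs hp.isCartan (ch hp) t, ∀ y ∈ RGD.Sup (XX D l k) S, y * t = t * y := by
    intro S hSs y hy
    have h6 : y ∈ MM cs hp.isCartan (XX D l k) (ch hp) t := RGD.Sup_mono hSs hy
    have h7 := MM_le_centralizer C hz h6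
    exact Subgroup.mem_centralizer_singleton_iff.1 h7
  have hcl : ∀ a ∈ Sx cs hp.isCartan (ch hp) t, ∀ b ∈ Sx cs hp.isCartan (ch hp) t, ∀ i j : ℕ,
      IsRoot cs hp.isCartan (i • a + j • b) → i • a + j • b ∈ Sx cs hp.isCartan (ch hp) t := by
    intro a ha b hb i j hij
    obtain ⟨φ, h0, hadd, hφ⟩ := hA t hz
    have hn : ∀ (i : ℕ) (x : Fin l → ℤ), φ (i • x) = φ x ^ i := by
      intro i x
      induction i with
      | zero => rw [zero_smul, pow_zero, h0]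
      | succ i ih => rw [succ_nsmul, hadd, ih, pow_succ]
    refine ⟨hij, ?_⟩
    rw [hφ _ hij, hadd, hn, hn, ← hφ a ha.1, ← hφ b hb.1, ha.2, hb.2, one_pow, one_pow, one_mul]
  have hneg : ∀ a ∈ Sx cs hp.isCartan (ch hp) t, -a ∈ Sx cs hp.isCartan (ch hp) t := fun a ha => chi_neg C hz hA ha
  -- positive roots
  have hP : ∀ y ∈ RGD.Sup (XX D l k) (SP (Sx cs hp.isCartan (ch hp) t)), StabU (tr L z') y := by
    refine hd τ hτ g' h3 (SP (Sx cs hp.isCartan (ch hp) t)) (fun a ha => ⟨ha.1.1, ha.2⟩)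
      (fun a ha => ⟨(hgS a).2 ha.1, h5 a ha.1 ha.2⟩) ?_ _ ?_
    · intro a ha b hb i j _ _ hij
      exact ⟨hcl a ha.1 b hb.1 i j hij, add_nonneg (nsmul_nonneg ha.2 i) (nsmul_nonneg hb.2 j)⟩
    · intro y hy hyτ
      refine key y hyτ (hcent _ (fun a ha => ha.1) y hy) (pow_of_pos hp cs hk (r := r) ?_)
      exact RGD.Sup_mono (X := XX D l k) (S := SP (Sx cs hp.isCartan (ch hp) t)) (S' := RGD.Pos cs hp.isCartan)
        (fun a ha => ⟨ha.1.1, ha.2⟩) hy
  have hN : ∀ y ∈ RGD.Sup (XX D l k) (SN (Sx cs hp.isCartan (ch hp) t)), StabU (tr L z') y := by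
    refine Density.neg hp cs hk hd hτ h3 (S := SN (Sx cs hp.isCartan (ch hp) t)) (fun a ha => ⟨ha.1.1, ha.2⟩)
      (fun a ha => ?_) ?_ _ ?_
    · refine ⟨(hgS a).2 ha.1, ?_⟩
      have h6 := h5 (-a) (hneg a ha.1) (neg_nonneg.2 ha.2)
      rw [map_neg] at h6
      exact neg_nonneg.1 h6
    · intro a ha b hb i j _ _ hij
      refine ⟨hcl a ha.1 b hb.1 i j hij, ?_⟩
      have h6 := add_nonneg (nsmul_nonneg (neg_nonneg.2 ha.2) i) (nsmul_nonneg (neg_nonneg.2 hb.2) j)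
      rw [smul_neg, smul_neg, ← neg_add, neg_nonneg] at h6
      exact h6
    · intro y hy hyτ
      refine key y hyτ (hcent _ (fun a ha => ha.1) y hy) ?_
      -- `y` is conjugate to an element of `Sup XX Pos`
      obtain ⟨c, -, hc⟩ := H.exists_rp (w0 cs)
      have Fc := Fr.conj H hc
      rw [hTL, hXL] at Fc
      have h6 : c * y * c⁻¹ ∈ RGD.Sup (XX D l k) (RGD.Pos cs hp.isCartan) := by
        have h7 : RGD.Sup (XX D l k) (SN (Sx cs hp.isCartan (ch hp) t)) ≤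
            (RGD.Sup (XX D l k) (RGD.Pos cs hp.isCartan)).comap (MulAut.conj c).toMonoidHom := by
          refine RGD.Sup_le fun a ha => ?_
          intro w hw
          have h8 : repAut cs hp.isCartan (w0 cs) a ∈ RGD.Pos cs hp.isCartan :=
            ⟨ha.1.1.act _, rep_w0_nonneg ha.1.1 ha.2⟩
          exact RGD.le_Sup (X := XX D l k) h8 ((Fc.map a ha.1.1 w).2 hw)
        exact h7 hy
      obtain ⟨j, hj⟩ := pow_of_pos hp cs hk (r := r) h6
      refine ⟨j, ?_⟩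
      rw [conj_pow] at hj
      have h8 : c * y ^ r ^ j = c := mul_inv_eq_one.1 hj
      exact mul_eq_left.1 h8
  -- everything
  have hall : MM cs hp.isCartan (XX D l k) (ch hp) t ≤ stab (tr L z') := by
    refine RGD.Sup_le fun a ha => ?_
    intro y hy
    rw [mem_stab]
    rcases ha.1.pos_or_neg with h6 | h6
    · exact hP y (RGD.le_Sup (X := XX D l k) (⟨ha, h6⟩ : a ∈ SP (Sx cs hp.isCartan (ch hp) t)) hy)
    · exact hN y (RGD.le_Sup (X := XX D l k) (⟨ha, h6⟩ : a ∈ SN (Sx cs hp.isCartan (ch hp) t)) hy)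
  -- independence of `z`
  set c : ↥(D.group k) := z * z' with hc
  have hct : c * t = t * c := by
    have h6 : c * t * c⁻¹ = t := by
      calc c * t * c⁻¹ = z * (z' * t * z'⁻¹) * z⁻¹ := by rw [hc]; group
        _ = t := by rw [hxz, ht]
    exact mul_inv_eq_iff_eq_mul.1 h6
  obtain ⟨m, hm, w, n, hn, hnt, hcmn⟩ := Fr.exists_form H C' ht' ht' (c := c) (by rw [hG]; exact Subgroup.mem_top _) hct
  rw [hXL] at hm
  have hn' : ∀ y ∈ MM cs hp.isCartan (XX D l k) (ch hp) t, n⁻¹ * y * n ∈ MM cs hp.isCartan (XX D l k) (ch hp) t := by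
    have Fn := (Fr.conj H hn).inv
    have hnt' : (MulAut.conj n)⁻¹ t = t := by
      rw [← map_inv, MulAut.conj_apply, inv_inv]
      calc n⁻¹ * t * n = n⁻¹ * (t * n) := by group
        _ = n⁻¹ * (n * t) := by rw [hnt]
        _ = t := by group
    intro y hy
    have h6 := (Fn.mem_MM C' ht' hnt' y)
    rw [hXL] at h6
    have h7 := h6.2 hy
    rwa [← map_inv, MulAut.conj_apply, inv_inv] at h7
  have hu' : u ∈ MM cs hp.isCartan (XX D l k) (ch hp) t := RGD.le_Sup (X := XX D l k) hγ hu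
  have h6 : c⁻¹ * u * c ∈ MM cs hp.isCartan (XX D l k) (ch hp) t := by
    have e1 : c⁻¹ * u * c = n⁻¹ * (m⁻¹ * u * m) * n := by rw [hcmn]; group
    rw [e1]
    exact hn' _ (mul_mem (mul_mem (inv_mem hm) hu') hm)
  have h7 := hall h6
  rw [mem_stab, stabU_tr] at h7
  have e2 : z' * (c⁻¹ * u * c) * z'⁻¹ = z⁻¹ * u * z := by rw [hc]; group
  rwa [e2] at h7

/-- every root has a nontrivial kernel on a toral subgroup of order `p ^ 2` and exponent `p` -/
theorem exists_ker (hk : LocFin k) {r : ℕ} [Fact r.Prime] [CharP k r] {p : ℕ} (hpp : p.Prime)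
    {E : Subgroup ↥(D.group k)} (hEp : ∀ a ∈ E, a ^ p = 1) (hE : Nat.card ↥E = p ^ 2) {z : ↥(D.group k)}
    (hz : ∀ a ∈ E, z * a * z⁻¹ ∈ TT D k) {γ : Fin l → ℤ} (hγ : IsRoot cs hp.isCartan γ) :
    ∃ x ∈ E, x ≠ 1 ∧ γ ∈ Sx cs hp.isCartan (ch hp) (z * x * z⁻¹) := by
  classical
  have C := coordsL (k := k) hp cs hk r
  by_contra hcon
  push Not at hcon
  have hch : ∀ a ∈ E, a ≠ 1 → ch hp γ (z * a * z⁻¹) ≠ 1 := fun a ha h1 h2 => hcon a ha h1 ⟨hγ, h2⟩
  have hmul : ∀ a ∈ E, ∀ b ∈ E, ch hp γ (z * (a * b) * z⁻¹) = ch hp γ (z * a * z⁻¹) * ch hp γ (z * b * z⁻¹) := by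
    intro a ha b hb
    have e1 : z * (a * b) * z⁻¹ = z * a * z⁻¹ * (z * b * z⁻¹) := by group
    rw [e1, (C.coord γ hγ).chi_mul (hz a ha) (hz b hb)]
  have hone : ch (K := k) hp γ 1 = 1 := by
    have h1 := (C.coord γ hγ).chi_mul (one_mem (TT D k)) (one_mem _)
    rw [mul_one] at h1
    exact (mul_eq_left₀ ((C.coord γ hγ).chi_ne_zero (one_mem _))).1 h1.symm
  have hfin : Finite ↥E := Nat.finite_of_card_ne_zero (by rw [hE]; exact pow_ne_zero 2 hpp.ne_zero)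
  let f : ↥E → ↥(Polynomial.nthRootsFinset p (1 : k)) := fun a => ⟨ch hp γ (z * a.1 * z⁻¹), by
    rw [Polynomial.mem_nthRootsFinset hpp.pos, ← ch_pow hp cs hk (r := r) hγ (hz a.1 a.2), conj_pow, hEp _ a.2,
      mul_one, mul_inv_cancel, hone]⟩
  have hf : Function.Injective f := by
    intro a b hab
    have h1 : ch hp γ (z * a.1 * z⁻¹) = ch hp γ (z * b.1 * z⁻¹) := congrArg Subtype.val hab
    by_contra hne
    refine hch (a.1 * b.1⁻¹) (mul_mem a.2 (inv_mem b.2)) (fun h2 => hne (Subtype.ext (mul_inv_eq_one.1 h2))) ?_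
    have h2 := hmul a.1 a.2 b.1⁻¹ (inv_mem b.2)
    have h3 := hmul b.1 b.2 b.1⁻¹ (inv_mem b.2)
    rw [mul_inv_cancel, mul_one, mul_inv_cancel, hone] at h3
    rw [h2, h1, ← h3]
  have h1 : Nat.card ↥E ≤ Nat.card ↥(Polynomial.nthRootsFinset p (1 : k)) := Nat.card_le_card_of_injective f hf
  have h2 : Nat.card ↥(Polynomial.nthRootsFinset p (1 : k)) ≤ p := by
    rw [Nat.card_eq_fintype_card, Fintype.card_coe]
    calc (Polynomial.nthRootsFinset p (1 : k)).card ≤ Multiset.card (Polynomial.nthRoots p (1 : k)) := by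
          unfold Polynomial.nthRootsFinset
          exact Multiset.toFinset_card_le _
      _ ≤ p := Polynomial.card_nthRoots p 1
  rw [hE] at h1
  have h3 := hpp.two_le
  nlinarith

/-- **A subspace stable under the unipotent elements of the centralisers of all elements of a toral subgroup of order
`p ^ 2`.** -/
theorem stabU_top [IsAlgClosed k] (hk : LocFin k) {r e : ℕ} [Fact r.Prime] [CharP k r] (he : 0 < e)
    (hd : Density hp cs k r e) {σ : MulAut ↥(D.group k)} (hσ : IsFrob r e σ) {g : (Fin l → ℤ) ≃+ (Fin l → ℤ)}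
    (Fσ : Fr cs hp.isCartan (TT D k) (XX D l k) σ g) {p : ℕ} (hpp : p.Prime)
    {E : Subgroup ↥(D.group k)} (hEp : ∀ a ∈ E, a ^ p = 1) (hE : Nat.card ↥E = p ^ 2) (hEσ : ∀ a ∈ E, σ a = a)
    {z : ↥(D.group k)} (hz : ∀ a ∈ E, z * a * z⁻¹ ∈ TT D k) {L : Submodule k (D.Idx → k)}
    (hL : ∀ x ∈ E, x ≠ 1 → ∀ u, σ u = u → u * x = x * u → (∃ j, u ^ r ^ j = 1) → StabU L u)
    (u : ↥(D.group k)) : StabU L u := by
  have h1 : RGD.Sup (XX D l k) {a | IsRoot cs hp.isCartan a} ≤ stab (tr L z⁻¹) := by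
    refine RGD.Sup_le fun γ hγ => ?_
    intro y hy
    obtain ⟨x, hx, hx1, hxγ⟩ := exists_ker hp cs hk (r := r) hpp hEp hE hz hγ
    rw [mem_stab, stabU_tr, inv_inv]
    exact stabU_cent hp cs hk he hd hσ Fσ (hEσ x hx) (hz x hx) (hL x hx hx1) hxγ hy
  have h2 : RGD.Sup (XX D l k) {a | IsRoot cs hp.isCartan a} = ⊤ := by
    rw [eq_top_iff, ← G1_eq_top (K := k) hp cs]
    exact le_rfl
  rw [h2] at h1
  have h3 := h1 (Subgroup.mem_top (z * u * z⁻¹))
  rw [mem_stab, stabU_tr, inv_inv] at h3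
  have e1 : z⁻¹ * (z * u * z⁻¹) * z = u := by group
  rwa [e1] at h3

end Cfsg.Agent.H316.U3
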