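import Cfsg.Agent.H316.RedBase

/-!
# Abelian subgroups of groups with derived group of order two (helper316)

`card_sq_le` : `|W|² ≤ |J| |Z(J)|` for an abelian subgroup `W` of `J`, if `[J, J] ≤ ⟨z⟩`, `z` a central involution
of `J`.
-/

set_option autoImplicit false

namespace Cfsg.Agent.H316.Red

open Subgroup
open scoped commutatorElement

variable {G : Type*} [Group G]

theorem relIndex_le_two [Finite G] {z : G} {J : Subgroup G} (hz : orderOf z = 2) (hJz : J ≤ Ce z)
    (hJ : ∀ x ∈ J, ∀ y ∈ J, ⁅x, y⁆ ∈ zpowers z) {T : Subgroup G} (hT : T ≤ J) {a : G} (ha : a ∈ J) :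
    (centralizer ({a} : Set G)).relIndex T ≤ 2 := by
  have hz1 : z ≠ 1 := by
    intro h1; rw [h1, orderOf_one] at hz; omega
  have hzz : z * z = 1 := by rw [← pow_two, ← hz, pow_orderOf_eq_one]
  by_cases h1 : T ≤ centralizer ({a} : Set G)
  · rw [relIndex_eq_one.2 h1]; omega
  · obtain ⟨t, ht, hta⟩ := SetLike.not_le_iff_exists.1 h1
    have hcm : ∀ s ∈ T, ⁅s, a⁆ = 1 ∨ ⁅s, a⁆ = z := by
      intro s hs
      rw [← mem_zpowers_two hz]
      exact hJ s (hT hs) a ha
    have hz2 : ∀ s ∈ T, s * z = z * s := fun s hs => mem_Ce.1 (hJz (hT hs))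
    have h2 : (centralizer ({a} : Set G)).relIndex T = 2 := by
      rw [relIndex_eq_two_iff]
      have hmc : ∀ s : G, s ∈ centralizer ({a} : Set G) ↔ ⁅s, a⁆ = 1 := by
        intro s
        rw [mem_centralizer_singleton_iff, commutatorElement_eq_one_iff_mul_comm]
      refine ⟨t, ht, fun b hb => ?_⟩
      rw [hmc, hmc]
      have hta' : ⁅t, a⁆ = z := by
        rcases hcm t ht with h3 | h3
        · exact absurd ((hmc t).2 h3) hta
        · exact h3
      have e1 : ⁅b * t, a⁆ = ⁅b, a⁆ * z := by
        have e2 : ⁅b * t, a⁆ = b * ⁅t, a⁆ * b⁻¹ * ⁅b, a⁆ := by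
          simp only [commutatorElement_def]; group
        rw [e2, hta', hz2 b hb, mul_inv_cancel_right]
        rcases hcm b hb with h3 | h3 <;> rw [h3]
        · rw [mul_one, one_mul]
      rw [e1]
      rcases hcm b hb with h3 | h3
      · rw [h3, one_mul]
        right
        exact ⟨rfl, hz1⟩
      · rw [h3, hzz]
        left
        exact ⟨rfl, hz1⟩
    omega

theorem card_mul_relIndex' {A B : Subgroup G} (h : A ≤ B) : Nat.card A * A.relIndex B = Nat.card B := by
  have := Subgroup.relIndex_mul_relIndex (⊥ : Subgroup G) A B bot_le h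
  rwa [relIndex_bot_left, relIndex_bot_left] at this

theorem card_sq_le_aux [Finite G] {z : G} {J : Subgroup G} (hz : orderOf z = 2) (hJz : J ≤ Ce z)
    (hJ : ∀ x ∈ J, ∀ y ∈ J, ⁅x, y⁆ ∈ zpowers z) {W : Subgroup G} (hab : ∀ x ∈ W, ∀ y ∈ W, x * y = y * x) :
    ∀ (n : ℕ) (C : Subgroup G), Nat.card C = n → W ≤ C → C ≤ J →
      Nat.card W * Nat.card W ≤ Nat.card C * Nat.card (C ⊓ centralizer (C : Set G) : Subgroup G) := by
  intro n
  induction n using Nat.strong_induction_on with
  | _ n ih =>
    intro C hCn hWC hCJ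
    by_cases hWZ : W ≤ centralizer (C : Set G)
    · refine Nat.mul_le_mul ?_ ?_
      · exact Nat.le_of_dvd Nat.card_pos (card_dvd_of_le hWC)
      · exact Nat.le_of_dvd Nat.card_pos (card_dvd_of_le (le_inf hWC hWZ))
    · obtain ⟨w, hw, hwC⟩ := SetLike.not_le_iff_exists.1 hWZ
      set D : Subgroup G := centralizer ({w} : Set G) ⊓ C with hD
      have hDC : D ≤ C := inf_le_right
      have hWD : W ≤ D := le_inf (fun x hx => mem_centralizer_singleton_iff.2 (hab x hx w hw)) hWC
      have h1 : (centralizer ({w} : Set G)).relIndex C ≤ 2 := relIndex_le_two hz hJz hJ hCJ (hCJ (hWC hw))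
      have hnle : ¬ C ≤ centralizer ({w} : Set G) := by
        intro hle
        apply hwC
        rw [mem_centralizer_iff]
        intro c hc
        exact mem_centralizer_singleton_iff.1 (hle hc)
      have h2 : (centralizer ({w} : Set G)).relIndex C = 2 := by
        have h6 : (centralizer ({w} : Set G)).relIndex C ≠ 1 := fun h6 => hnle (relIndex_eq_one.1 h6)
        have h7 : (centralizer ({w} : Set G)).relIndex C ≠ 0 := index_ne_zero_of_finite
        omega
      have h3 : D.relIndex C = 2 := by rw [hD, inf_relIndex_right]; exact h2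
      have h4 := card_mul_relIndex' hDC
      rw [h3] at h4
      have hDpos : 0 < Nat.card D := Nat.card_pos
      have h5 := ih (Nat.card D) (by omega) D rfl hWD (hDC.trans hCJ)
      -- `|Z(D)| ≤ 2 |Z(C)|`
      obtain ⟨t, htC, htw⟩ := SetLike.not_le_iff_exists.1 hnle
      have h6 : centralizer ({t} : Set G) ⊓ (D ⊓ centralizer (D : Set G)) ≤ C ⊓ centralizer (C : Set G) := by
        rintro x ⟨hxt, hxD, hxc⟩
        refine mem_inf.2 ⟨hDC hxD, mem_centralizer_iff.2 fun y hy => ?_⟩
        by_cases hyw : y ∈ centralizer ({w} : Set G)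
        · exact mem_centralizer_iff.1 hxc y (mem_inf.2 ⟨hyw, hy⟩)
        · obtain ⟨s, hs, hxor⟩ := relIndex_eq_two_iff.1 h2
          have hy' : y * t⁻¹ ∈ centralizer ({w} : Set G) := by
            have e1 : y * s ∈ centralizer ({w} : Set G) := by
              rcases hxor y hy with h6 | h6
              · exact h6.1
              · exact absurd h6.1 hyw
            have e2 : t * s ∈ centralizer ({w} : Set G) := by
              rcases hxor t htC with h6 | h6
              · exact h6.1
              · exact absurd h6.1 htw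
            have e3 := (centralizer ({w} : Set G)).mul_mem e1 ((centralizer ({w} : Set G)).inv_mem e2)
            have e4 : y * s * (t * s)⁻¹ = y * t⁻¹ := by group
            rwa [e4] at e3
          have h7 := mem_centralizer_iff.1 hxc (y * t⁻¹) (mem_inf.2 ⟨hy', C.mul_mem hy (C.inv_mem htC)⟩)
          have h8 : x * t = t * x := mem_centralizer_singleton_iff.1 hxt
          calc y * x = y * t⁻¹ * (t * x) := by group
            _ = y * t⁻¹ * x * t := by rw [← h8, mul_assoc, mul_assoc, mul_assoc]
            _ = x * (y * t⁻¹) * t := by rw [h7]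
            _ = x * y := by group
      have h7 : (centralizer ({t} : Set G)).relIndex (D ⊓ centralizer (D : Set G)) ≤ 2 :=
        relIndex_le_two hz hJz hJ (inf_le_left.trans (hDC.trans hCJ)) (hCJ htC)
      have h8 : Nat.card (D ⊓ centralizer (D : Set G) : Subgroup G) ≤
          2 * Nat.card (C ⊓ centralizer (C : Set G) : Subgroup G) := by
        have e1 := card_mul_relIndex' (A := centralizer ({t} : Set G) ⊓ (D ⊓ centralizer (D : Set G)))
          (B := D ⊓ centralizer (D : Set G)) inf_le_right
        rw [inf_relIndex_right] at e1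
        have e2 : Nat.card (centralizer ({t} : Set G) ⊓ (D ⊓ centralizer (D : Set G)) : Subgroup G) ≤
            Nat.card (C ⊓ centralizer (C : Set G) : Subgroup G) :=
          Nat.le_of_dvd Nat.card_pos (card_dvd_of_le h6)
        rw [← e1, mul_comm 2]
        exact Nat.mul_le_mul e2 h7
      calc Nat.card W * Nat.card W ≤ Nat.card D * Nat.card (D ⊓ centralizer (D : Set G) : Subgroup G) := h5
        _ ≤ Nat.card D * (2 * Nat.card (C ⊓ centralizer (C : Set G) : Subgroup G)) := Nat.mul_le_mul_left _ h8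
        _ = (Nat.card D * 2) * Nat.card (C ⊓ centralizer (C : Set G) : Subgroup G) := by ring
        _ = Nat.card C * Nat.card (C ⊓ centralizer (C : Set G) : Subgroup G) := by rw [h4]

/-- `|W|² ≤ |J| |Z(J)|` -/
theorem card_sq_le [Finite G] {z : G} {J : Subgroup G} (hz : orderOf z = 2) (hJz : J ≤ Ce z)
    (hJ : ⁅J, J⁆ = zpowers z) {W : Subgroup G} (hW : W ≤ J) (hab : ∀ x ∈ W, ∀ y ∈ W, x * y = y * x) :
    Nat.card W * Nat.card W ≤ Nat.card J * Nat.card (J ⊓ centralizer (J : Set G) : Subgroup G) :=
  card_sq_le_aux hz hJz (fun x hx y hy => by rw [← hJ]; exact commutator_mem_commutator hx hy) hab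
    (Nat.card J) J rfl hW le_rfl

/-- the bound used in `Pre.setup` -/
theorem card_le_of_comm [Finite G] {z : G} {J : Subgroup G} (hz : orderOf z = 2) (hJz : J ≤ Ce z)
    (hJ : ⁅J, J⁆ = zpowers z)
    (hc : Nat.card J * Nat.card (J ⊓ centralizer (J : Set G) : Subgroup G) ≤ 2 ^ 12) (W : Subgroup G)
    (hW : W ≤ J) (hab : ∀ x ∈ W, ∀ y ∈ W, x * y = y * x) : Nat.card W ≤ 2 ^ 6 := by
  have h1 := (card_sq_le hz hJz hJ hW hab).trans hc
  nlinarith

end Cfsg.Agent.H316.Red
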