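import Cfsg.Agent.H316.RedInst
import Cfsg.Agent.S0270
import Cfsg.Agent.S0814
import Cfsg.Agent.CTwoTab.Card

/-!
# `PSp₄(3)` and its automorphism group (helper316)
-/

set_option autoImplicit false

namespace Cfsg.Agent.H316.Red

open Subgroup
open scoped commutatorElement

variable {F : Type*} [Field F] [Fintype F]

theorem card_psp (hF : Fintype.card F = 3) : Nat.card (Cfsg.PSp 2 F) = 25920 :=
  Cfsg.Agent.CTwoTab.card_psp_four_three hF

theorem simple_psp (hF : Fintype.card F = 3) : IsSimpleGroup (Cfsg.PSp 2 F) :=
  Cfsg.Agent.S0270.result 2 le_rfl (fun _ => by omega)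

theorem card_aut (hF : Fintype.card F = 3) : Nat.card (MulAut (Cfsg.PSp 2 F)) = 51840 := by
  have : Fact (Nat.Prime 3) := ⟨Nat.prime_three⟩
  have h := Cfsg.Agent.S0814.result (F := F) 3 1 le_rfl (by rw [hF]; norm_num) 2 le_rfl (fun _ => by norm_num)
  rw [card_psp hF] at h
  rw [h]
  norm_num

section gen

variable {S : Type*} [Group S]

theorem not_comm [Finite S] (hc : Nat.card S = 25920) [hs : IsSimpleGroup S] : ¬ ∀ x y : S, x * y = y * x := by
  intro hcomm
  let _ : CommGroup S := { (inferInstance : Group S) with mul_comm := hcomm }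
  have h1 : (Nat.card S).Prime := IsSimpleGroup.prime_card
  rw [hc] at h1
  exact absurd h1 (by norm_num)

theorem center_eq_bot [Finite S] (hc : Nat.card S = 25920) [hs : IsSimpleGroup S] : center S = ⊥ := by
  rcases (inferInstance : (center S).Normal).eq_bot_or_eq_top with h | h
  · exact h
  · exfalso
    apply not_comm hc
    intro x y
    have : y ∈ center S := by rw [h]; exact mem_top y
    exact mem_center_iff.1 this x

theorem perfect_of_simple [Finite S] (hc : Nat.card S = 25920) [hs : IsSimpleGroup S] :
    _root_.commutator S = ⊤ := by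
  rcases (inferInstance : (_root_.commutator S).Normal).eq_bot_or_eq_top with h | h
  · exfalso
    apply not_comm hc
    intro x y
    have h1 : ⁅x, y⁆ ∈ _root_.commutator S := commutator_mem_commutator (mem_top x) (mem_top y)
    rw [h, mem_bot] at h1
    exact commutatorElement_eq_one_iff_mul_comm.1 h1
  · exact h

theorem qdata_self [Finite S] (hc : Nat.card S = 25920) [hs : IsSimpleGroup S] : QData S (⊤ : Subgroup S) where
  norm := inferInstance
  perf := perfect_of_simple hc
  ne := top_ne_bot
  min := fun N hN => by
    rcases hN.eq_bot_or_eq_top with h | h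
    · exact Or.inl h
    · exact Or.inr (by rw [h])
  solv := by
    intro _
    have : Subsingleton (S ⧸ (⊤ : Subgroup S)) := QuotientGroup.subsingleton_quotient_top
    infer_instance
  card := by rw [card_top, hc]

theorem qdata_mulAut [Finite S] (hc : Nat.card S = 25920) (ha : Nat.card (MulAut S) = 51840)
    [hs : IsSimpleGroup S] : QData (MulAut S) (MulAut.conj (G := S)).range := by
  have hker : (MulAut.conj (G := S)).ker = ⊥ := by
    rw [eq_bot_iff, ← center_eq_bot hc]
    intro x hx
    rw [mem_center_iff]
    intro g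
    have h1 : MulAut.conj x g = g := by rw [MonoidHom.mem_ker.1 hx]; rfl
    rw [MulAut.conj_apply, mul_inv_eq_iff_eq_mul] at h1
    exact h1.symm
  have hinj : Function.Injective (MulAut.conj (G := S)) := (MonoidHom.ker_eq_bot_iff _).1 hker
  have hcardS : Nat.card (MulAut.conj (G := S)).range = 25920 := by
    rw [← hc]
    exact (Nat.card_congr (MonoidHom.ofInjective hinj).toEquiv).symm
  have hconj : ∀ (α : MulAut S) (s : S), α * MulAut.conj s * α⁻¹ = MulAut.conj (α s) := by
    intro α s
    ext t
    simp [MulAut.mul_apply, MulAut.conj_apply, MulAut.inv_def]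
  have hnorm : (MulAut.conj (G := S)).range.Normal := by
    refine ⟨?_⟩
    rintro _ ⟨s, rfl⟩ α
    exact ⟨α s, (hconj α s).symm⟩
  have hidx : (MulAut.conj (G := S)).range.index = 2 := by
    have h1 := card_mul_index (MulAut.conj (G := S)).range
    rw [hcardS, ha] at h1
    omega
  refine
    { norm := hnorm
      perf := ?_
      ne := ?_
      min := ?_
      solv := ?_
      card := hcardS }
  · rw [MonoidHom.range_eq_map, ← map_commutator]
    congr 1
    exact perfect_of_simple hc
  · intro h
    rw [h, card_bot] at hcardS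
    omega
  · intro N hN
    by_cases hdis : N ⊓ (MulAut.conj (G := S)).range = ⊥
    · left
      rw [eq_bot_iff]
      intro α hα
      rw [mem_bot]
      have h1 : ∀ s : S, α s = s := by
        intro s
        have h2 : α * MulAut.conj s * α⁻¹ * (MulAut.conj s)⁻¹ ∈ N ⊓ (MulAut.conj (G := S)).range := by
          refine mem_inf.2 ⟨?_, ?_⟩
          · have := N.mul_mem hα (hN.conj_mem α⁻¹ (N.inv_mem hα) (MulAut.conj s))
            have e : α * (MulAut.conj s * α⁻¹ * (MulAut.conj s)⁻¹) = α * MulAut.conj s * α⁻¹ * (MulAut.conj s)⁻¹ := by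
              group
            rwa [e] at this
          · exact mul_mem (hnorm.conj_mem _ ⟨s, rfl⟩ α) (inv_mem ⟨s, rfl⟩)
        rw [hdis, mem_bot, mul_inv_eq_one, hconj] at h2
        exact hinj h2
      ext s
      exact h1 s
    · right
      have h1 : (N.comap (MulAut.conj (G := S))).Normal := hN.comap _
      rcases h1.eq_bot_or_eq_top with h2 | h2
      · exfalso
        apply hdis
        rw [eq_bot_iff]
        rintro _ ⟨h3, s, rfl⟩
        have h4 : s ∈ N.comap (MulAut.conj (G := S)) := h3
        rw [h2, mem_bot] at h4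
        rw [h4, map_one]
        exact one_mem _
      · rintro _ ⟨s, rfl⟩
        have h4 : s ∈ N.comap (MulAut.conj (G := S)) := by rw [h2]; exact mem_top s
        exact h4
  · intro hn
    have h1 : Nat.card (MulAut S ⧸ (MulAut.conj (G := S)).range) = 2 := hidx
    have : Fact (Nat.Prime 2) := ⟨Nat.prime_two⟩
    have : Finite (MulAut S ⧸ (MulAut.conj (G := S)).range) := Nat.finite_of_card_ne_zero (by omega)
    have h2 : IsPGroup 2 (MulAut S ⧸ (MulAut.conj (G := S)).range) := IsPGroup.of_card (n := 1) (by rw [h1, pow_one])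
    have := h2.isNilpotent
    infer_instance

end gen

theorem qdata_psp (hF : Fintype.card F = 3) : QData (Cfsg.PSp 2 F) (⊤ : Subgroup (Cfsg.PSp 2 F)) := by
  have := simple_psp hF
  exact qdata_self (card_psp hF)

theorem qdata_aut (hF : Fintype.card F = 3) :
    QData (MulAut (Cfsg.PSp 2 F)) (MulAut.conj (G := Cfsg.PSp 2 F)).range := by
  have := simple_psp hF
  exact qdata_mulAut (card_psp hF) (card_aut hF)

end Cfsg.Agent.H316.Red
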