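import Cfsg.Agent.H316.KMain

/-!
# S3230 and S3231 (helper316)
-/

set_option autoImplicit false

namespace Cfsg.Agent.H316.Fin

open Subgroup Cfsg Cfsg.Agent.H316.Red

universe u

/-- `O_2(G)` is central in `O_2(C(z))` when its order is at most 2 -/
theorem core_le {G : Type*} [Group G] [Finite G] {z : G} {J X : Subgroup G} (h : Setup z J X) (hz : Ce z ≠ ⊤) :
    pCore 2 G ≤ J ∧ (∀ x ∈ pCore 2 G, ∀ g : G, g * x = x * g) ∧ z ∉ pCore 2 G := by
  have : Fact (Nat.Prime 2) := ⟨Nat.prime_two⟩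
  obtain ⟨h1, h2⟩ := h.twoCore hz
  have hn : (pCore 2 G).Normal := Cfsg.Agent.Lib.Cores.pCore_normal 2
  have hcen : ∀ x ∈ pCore 2 G, ∀ g : G, g * x = x * g := fun x hx g =>
    commute_of_card_le_two h1 (fun y hy => hn.conj_mem y hy g) hx
  refine ⟨?_, hcen, h2⟩
  apply h.J_max
  · intro x hx
    exact mem_Ce.2 (hcen x hx z).symm
  · rw [normalizer_eq_top_iff.2 hn]; exact le_top
  · exact Cfsg.Agent.Lib.Cores.pCore_isPGroup 2

/-- the common part of S3230 and S3231 -/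
theorem common {G : Type u} [Group G] [Finite G] {z : G} {J X : Subgroup G} (h : Setup z J X)
    (hX : 2 ^ 13 * 405 ∣ Nat.card X) {a : ℕ} (hH : Nat.card (Ce z) = 2 ^ a * 405) (ha : 15 ≤ a) (ha' : a ≤ 17)
    (hcen : Ce z ≠ ⊤ → pCore 2 G = ⊥)
    (hS : ∀ (X : Type u) [Group X] [Finite X] [IsSimpleGroup X], IsKnownSimple' X) :
    Ce z ⊔ oddCore G = ⊤ ∨ ∃ M : Subgroup G, M.Normal ∧ centralizer (M : Set G) = ⊥ ∧
      ((a ≤ 16 ∧ M.index = 2 ^ (a - 15) ∧ ∃ (F : Type) (_ : Field F) (_ : Fintype F), Fintype.card F = 4 ∧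
        Nonempty (M ≃* PSU 6 F 2)) ∨ (a = 17 ∧ M = ⊤ ∧ Spor.IsoFi22 M)) := by
  by_cases hz : Ce z = ⊤
  · left; rw [hz, top_sup_eq]
  rcases h.oddCore_eq_bot with h1 | h1
  · exact Or.inl h1
  right
  obtain ⟨M, hM, hsimp, hc, k, hk, hi, hD⟩ := h.main hX hH h1 (hcen hz) hz
  have := hsimp
  exact ⟨M, hM, hc, Kill.final hM hc (hS M) hD hk hi ha ha'⟩

theorem psu_congr {F K : Type*} [Field F] [Fintype F] [Field K] [Fintype K] (hF : Fintype.card F = 4)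
    (hK : Fintype.card K = 4) {M : Type*} [Group M] (e : M ≃* PSU 6 F 2) : Nonempty (M ≃* PSU 6 K 2) := by
  obtain ⟨f⟩ := Cfsg.Agent.SporadicStructure.PsuMatch.psu_iso_of_card (hF.trans hK.symm) 6 2
  exact ⟨e.trans f⟩

section

variable {G : Type u} [Group G] [Finite G] {z : G} {Q : Type*} [Group Q] {φ : Ce z →* Q}

theorem card_Ce {n : ℕ} (hφ : Function.Surjective φ) (hker : φ.ker = pCore 2 (Ce z))
    (hJc : Nat.card (pCore 2 (Ce z)) = n) : Nat.card (Ce z) = n * Nat.card Q := by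
  rw [← Subgroup.card_mul_index φ.ker, Subgroup.index_ker, hker, hJc, MonoidHom.range_eq_top.2 hφ, card_top]

/-- the extraspecial case -/
theorem caseE (hz : orderOf z = 2) (hJ : Cfsg.IsExtraspecial 2 (Cfsg.pCore 2 (Ce z)))
    (hJc : Nat.card (Cfsg.pCore 2 (Ce z)) = 2 ^ 9)
    (hCJ : centralizer (Cfsg.pCore 2 (Ce z) : Set (Ce z)) ≤ Cfsg.pCore 2 (Ce z))
    (hφ : Function.Surjective φ) (hker : φ.ker = Cfsg.pCore 2 (Ce z)) {S : Subgroup Q} (D : QData Q S)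
    {b : ℕ} (hb : b ≤ 1) (hQ : Nat.card Q = 2 ^ b * 25920)
    (hS : ∀ (X : Type u) [Group X] [Finite X] [IsSimpleGroup X], IsKnownSimple' X) :
    Ce z ⊔ oddCore G = ⊤ ∨ ∃ M : Subgroup G, M.Normal ∧ centralizer (M : Set G) = ⊥ ∧
      M.index = 2 ^ b ∧ ∃ (F : Type) (_ : Field F) (_ : Fintype F), Fintype.card F = 4 ∧
        Nonempty (M ≃* PSU 6 F 2) := by
  obtain ⟨h, hX, hcJ⟩ := setup_E hz hJ hJc hCJ hφ hker D
  have hH : Nat.card (Ce z) = 2 ^ (15 + b) * 405 := by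
    rw [card_Ce hφ hker hJc, hQ, pow_add]; ring
  have hcen : Ce z ≠ ⊤ → pCore 2 G = ⊥ := by
    intro hz'
    obtain ⟨h1, h2, h3⟩ := core_le h hz'
    rw [eq_bot_iff]
    intro x hx
    rcases hcJ x (h1 hx) (fun y _ => (h2 x hx y).symm) with h4 | h4
    · exact mem_bot.2 h4
    · rw [h4] at hx; exact absurd hx h3
  rcases common h hX hH (by omega) (by omega) hcen hS with h1 | ⟨M, hM, hc, h1⟩
  · exact Or.inl h1
  · rcases h1 with ⟨-, h2, h3⟩ | ⟨h2, -, -⟩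
    · right
      refine ⟨M, hM, hc, ?_, h3⟩
      rw [h2]; congr 1; omega
    · omega

end

theorem mk_hom {H Q : Type*} [Group H] [Group Q] {N : Subgroup H} [N.Normal] (e : (H ⧸ N) ≃* Q) :
    ∃ φ : H →* Q, Function.Surjective φ ∧ φ.ker = N := by
  refine ⟨e.toMonoidHom.comp (QuotientGroup.mk' N), ?_, ?_⟩
  · exact e.surjective.comp (QuotientGroup.mk'_surjective N)
  · ext x
    rw [MonoidHom.mem_ker]
    show e (QuotientGroup.mk' N x) = 1 ↔ _
    rw [map_eq_one_iff e e.injective]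
    exact QuotientGroup.eq_one_iff x

theorem result3230 {G : Type u} [Group G] [Finite G] (z : G) (hz : orderOf z = 2)
    {F : Type*} [Field F] [Fintype F] (hF : Fintype.card F = 3) {K : Type*} [Field K] [Fintype K]
    (hK : Fintype.card K = 4)
    (hJ : Cfsg.IsExtraspecial 2 ↥(Cfsg.pCore 2 ↥(Subgroup.centralizer ({z} : Set G))))
    (hJc : Nat.card ↥(Cfsg.pCore 2 ↥(Subgroup.centralizer ({z} : Set G))) = 2 ^ 9)
    (hCJ : Subgroup.centralizer ((Cfsg.pCore 2 ↥(Subgroup.centralizer ({z} : Set G))) :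
      Set ↥(Subgroup.centralizer ({z} : Set G))) ≤ Cfsg.pCore 2 ↥(Subgroup.centralizer ({z} : Set G)))
    [hJn : (Cfsg.pCore 2 ↥(Subgroup.centralizer ({z} : Set G))).Normal]
    (e : (↥(Subgroup.centralizer ({z} : Set G)) ⧸ Cfsg.pCore 2 ↥(Subgroup.centralizer ({z} : Set G))) ≃*
      Cfsg.PSp 2 F)
    (hS : ∀ (X : Type u) [Group X] [Finite X] [IsSimpleGroup X], IsKnownSimple' X) :
    Nonempty (G ≃* Cfsg.PSU 6 K 2) ∨ Subgroup.centralizer ({z} : Set G) ⊔ Cfsg.oddCore G = ⊤ := by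
  obtain ⟨φ, hφ, hker⟩ := mk_hom e
  rcases caseE hz hJ hJc hCJ hφ hker (qdata_psp hF) (b := 0) (by omega) (by rw [card_psp hF]; norm_num) hS with
    h1 | ⟨M, hM, hc, hi, F', _, _, hF', ⟨f⟩⟩
  · exact Or.inr h1
  · left
    have h2 : M = ⊤ := by rw [← index_eq_one, hi]; rfl
    obtain ⟨f'⟩ := psu_congr hF' hK f
    subst h2
    exact ⟨Subgroup.topEquiv.symm.trans f'⟩

theorem result3231 {G : Type u} [Group G] [Finite G] (z : G) (hz : orderOf z = 2)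
    {F : Type*} [Field F] [Fintype F] (hF : Fintype.card F = 3) {K : Type*} [Field K] [Fintype K]
    (hK : Fintype.card K = 4)
    (hJ : Cfsg.IsExtraspecial 2 ↥(Cfsg.pCore 2 ↥(Subgroup.centralizer ({z} : Set G))))
    (hJc : Nat.card ↥(Cfsg.pCore 2 ↥(Subgroup.centralizer ({z} : Set G))) = 2 ^ 9)
    (hCJ : Subgroup.centralizer ((Cfsg.pCore 2 ↥(Subgroup.centralizer ({z} : Set G))) :
      Set ↥(Subgroup.centralizer ({z} : Set G))) ≤ Cfsg.pCore 2 ↥(Subgroup.centralizer ({z} : Set G)))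
    [hJn : (Cfsg.pCore 2 ↥(Subgroup.centralizer ({z} : Set G))).Normal]
    (e : (↥(Subgroup.centralizer ({z} : Set G)) ⧸ Cfsg.pCore 2 ↥(Subgroup.centralizer ({z} : Set G))) ≃*
      MulAut (Cfsg.PSp 2 F))
    (hS : ∀ (X : Type u) [Group X] [Finite X] [IsSimpleGroup X], IsKnownSimple' X) :
    (∃ G₀ : Subgroup G, G₀.index = 2 ∧ Nonempty (↥G₀ ≃* Cfsg.PSU 6 K 2) ∧
      Subgroup.centralizer (G₀ : Set G) = ⊥) ∨
      Subgroup.centralizer ({z} : Set G) ⊔ Cfsg.oddCore G = ⊤ := by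
  obtain ⟨φ, hφ, hker⟩ := mk_hom e
  rcases caseE hz hJ hJc hCJ hφ hker (qdata_aut hF) (b := 1) le_rfl (by rw [card_aut hF]; norm_num) hS with
    h1 | ⟨M, hM, hc, hi, F', _, _, hF', ⟨f⟩⟩
  · exact Or.inr h1
  · left
    exact ⟨M, hi, psu_congr hF' hK f, hc⟩

end Cfsg.Agent.H316.Fin
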