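import Cfsg.Agent.H316.KMain
import Cfsg.Agent.H816.Elim
import Cfsg.Agent.KFacts.FiTT.Final
import Cfsg.Agent.KFacts.CoTwo.RLarge
import Cfsg.Agent.S2136

/-!
# Elimination for S3233, part 1: `A_n`, `Fi₂₂`, `Co₂`, `Th`, `Sp₈(2)` (helper316)
-/

set_option autoImplicit false

namespace Cfsg.Agent.H316.Kill23

open Subgroup Cfsg Equiv Nat
open Cfsg.Agent.H316.Kill (card_centralizer_perm card_centralizer_map center_SL toMA toMA_injective)

/-- `c` is divisible by `405` but not by `7` or `25` -/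
structure Cn (c : ℕ) : Prop where
  dvd : 405 ∣ c
  not7 : ¬ 7 ∣ c
  not25 : ¬ 25 ∣ c

theorem not_dvd_of {p k m : ℕ} (hp : Nat.Coprime p 2) (hm : ¬ p ∣ m) : ¬ p ∣ 2 ^ k * m := fun h =>
  hm ((Nat.Coprime.pow_right k hp).dvd_of_dvd_mul_left h)

theorem cn_of {k a : ℕ} (ha : a = 4 ∨ a = 5) : Cn (2 ^ k * (3 ^ a * 5)) := by
  rcases ha with rfl | rfl
  · exact ⟨Dvd.dvd.mul_left (by norm_num) _, not_dvd_of (by norm_num) (by norm_num),
      not_dvd_of (by norm_num) (by norm_num)⟩
  · exact ⟨Dvd.dvd.mul_left (by norm_num) _, not_dvd_of (by norm_num) (by norm_num),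
      not_dvd_of (by norm_num) (by norm_num)⟩

theorem Cn.double {c : ℕ} (h : Cn c) : Cn (c * 2) :=
  ⟨Dvd.dvd.mul_right h.dvd 2,
    fun h7 => h.not7 (Nat.Coprime.dvd_of_dvd_mul_right (show Nat.Coprime 7 2 by norm_num) h7),
    fun h7 => h.not25 (Nat.Coprime.dvd_of_dvd_mul_right (show Nat.Coprime 25 2 by norm_num) h7)⟩

theorem arith {m r : ℕ} (h : Cn (r ! * 2 ^ m * m !)) : False := by
  obtain ⟨h405, h7, h25⟩ := h
  have hm : m ≤ 6 := by
    by_contra hlt
    exact h7 (Dvd.dvd.mul_left ((Nat.Prime.dvd_factorial (by norm_num)).2 (by omega)) _)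
  have hr : r ≤ 6 := by
    by_contra hlt
    apply h7
    rw [mul_assoc]
    exact Dvd.dvd.mul_right ((Nat.Prime.dvd_factorial (by norm_num)).2 (by omega)) _
  clear h7
  interval_cases m <;> interval_cases r <;> revert h405 h25 <;> decide

/-- **Alternating groups.** -/
theorem alt {M : Type*} [Group M] {n : ℕ} (hn : 5 ≤ n) (e : M ≃* alternatingGroup (Fin n)) {t : M} (ht : orderOf t = 2)
    (hc : Cn (Nat.card (centralizer ({t} : Set M)))) : False := by
  set A : Subgroup (Perm (Fin n)) := alternatingGroup (Fin n) with hA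
  set g : Perm (Fin n) := (e t : Perm (Fin n)) with hg
  have hgo : orderOf g = 2 := by
    rw [hg, Subgroup.orderOf_coe, ← ht]; exact e.orderOf_eq t
  obtain ⟨m, hm, hcm⟩ := card_centralizer_perm hgo
  set C : Subgroup (Perm (Fin n)) := centralizer ({g} : Set (Perm (Fin n))) with hC
  have h1 : Nat.card (A ⊓ C : Subgroup (Perm (Fin n))) = Nat.card (centralizer ({t} : Set M)) := by
    have h2 : ((centralizer ({t} : Set M)).map e.toMonoidHom).map A.subtype = A ⊓ C := by
      ext x
      constructor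
      · rintro ⟨_, ⟨y, hy, rfl⟩, rfl⟩
        refine mem_inf.2 ⟨(e y).2, ?_⟩
        rw [hC, mem_centralizer_singleton_iff]
        have h3 : y * t = t * y := mem_centralizer_singleton_iff.1 hy
        have h4 := congrArg (fun w => ((e w : alternatingGroup (Fin n)) : Perm (Fin n))) h3
        simpa using h4
      · rintro ⟨hx, hxc⟩
        refine ⟨⟨x, hx⟩, ⟨e.symm ⟨x, hx⟩, ?_, e.apply_symm_apply _⟩, rfl⟩
        rw [SetLike.mem_coe, mem_centralizer_singleton_iff]
        apply e.injective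
        rw [map_mul, map_mul, e.apply_symm_apply]
        apply Subtype.ext
        exact mem_centralizer_singleton_iff.1 hxc
    rw [← h2, card_map_of_injective A.subtype_injective, card_map_of_injective e.injective]
  have h2 : A.relIndex C ∣ 2 := by
    have h3 : A.relIndex C ∣ A.index := relIndex_dvd_index_of_normal A C
    have h4 : A.index = 2 := by
      have : Nontrivial (Fin n) := Fin.nontrivial_iff_two_le.2 (by omega)
      exact alternatingGroup.index_eq_two
    rwa [h4] at h3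
  have h3 : Nat.card (A ⊓ C : Subgroup (Perm (Fin n))) * A.relIndex C = Nat.card C := by
    have := Subgroup.relIndex_mul_relIndex (⊥ : Subgroup (Perm (Fin n))) (A ⊓ C) C bot_le inf_le_right
    rwa [relIndex_bot_left, relIndex_bot_left, inf_relIndex_right] at this
  rw [h1, hcm] at h3
  rcases (Nat.dvd_prime Nat.prime_two).1 h2 with h4 | h4
  · rw [h4, mul_one] at h3
    exact arith (h3 ▸ hc)
  · rw [h4] at h3
    exact arith (h3 ▸ hc.double)

/-- **`Sp₈(2)`** -/
theorem kill_psp {M : Type*} [Group M] {F : Type*} [Field F] [Fintype F] (hF : Fintype.card F = 2)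
    (e : M ≃* Cfsg.PSp 4 F) {t : M} (ht : orderOf t = 2)
    (hc : Cn (Nat.card (centralizer ({t} : Set M)))) : False := by
  have : Fact (Nat.Prime 2) := ⟨Nat.prime_two⟩
  have hchar : CharP F 2 := charP_of_card_eq_prime hF
  have hcen : center (Matrix.symplecticGroup (Fin 4) F) = ⊥ := by
    have h1 := Cfsg.Agent.S0246.result (F := F) hF 4 (by norm_num)
    norm_num at h1
    exact h1
  have hbij : Function.Bijective (QuotientGroup.mk' (center (Matrix.symplecticGroup (Fin 4) F))) := by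
    refine ⟨?_, QuotientGroup.mk'_surjective _⟩
    rw [← MonoidHom.ker_eq_bot_iff, QuotientGroup.ker_mk', hcen]
  let e2 : Matrix.symplecticGroup (Fin 4) F ≃* Cfsg.PSp 4 F := MulEquiv.ofBijective _ hbij
  let E : M ≃* Matrix.symplecticGroup (Fin 4) F := e.trans e2.symm
  set T : Matrix.symplecticGroup (Fin 4) F := E t with hT
  have hTo : orderOf T = 2 := by rw [hT, ← ht]; exact E.orderOf_eq t
  have hT2 : T ^ 2 = 1 := by rw [← hTo]; exact pow_orderOf_eq_one T
  have hT1 : T ≠ 1 := by
    intro h; rw [h, orderOf_one] at hTo; omega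
  have hcT : Nat.card (centralizer ({T} : Set (Matrix.symplecticGroup (Fin 4) F))) =
      Nat.card (centralizer ({t} : Set M)) := card_centralizer_map E t
  rw [← hcT] at hc
  obtain ⟨h405, h7, -⟩ := hc
  -- the rank
  obtain ⟨s, hs⟩ : ∃ s, ((T : Matrix (Fin 4 ⊕ Fin 4) (Fin 4 ⊕ Fin 4) F) - 1).rank = s := ⟨_, rfl⟩
  have hs8 : s ≤ 8 := by
    rw [← hs]
    refine (Matrix.rank_le_card_width _).trans ?_
    simp
  rcases Nat.even_or_odd s with hev | hodd
  · by_cases halt : ∀ v : Fin 4 ⊕ Fin 4 → F,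
      Cfsg.sympForm 4 F v ((T : Matrix (Fin 4 ⊕ Fin 4) (Fin 4 ⊕ Fin 4) F).mulVec v) = 0
    · have h := Cfsg.Agent.S2681.result hF T hT2 hT1 hs hev halt
      rw [h] at h405 h7
      clear h hcT hs halt
      interval_cases s <;> revert hev h405 h7 <;> simp [Fin.prod_univ_succ]
    · push Not at halt
      have h := Cfsg.Agent.S2682.result hF T hT2 hs hev halt
      rw [h] at h405 h7
      clear h hcT hs halt
      interval_cases s <;> revert hev h405 h7 <;> simp [Fin.prod_univ_succ]
  · have h := Cfsg.Agent.S2680.result hF T hT2 hs hodd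
    rw [h] at h405 h7
    clear h hcT hs
    interval_cases s <;> revert hodd h405 h7 <;> simp [Fin.prod_univ_succ]

/-- **`Th`** -/
theorem th {M : Type*} [Group M] (h : Spor.IsoTh M) {t : M} (ht : orderOf t = 2)
    (hc : Cn (Nat.card (centralizer ({t} : Set M)))) : False := by
  obtain ⟨e⟩ := h
  have h1 := Cfsg.Agent.MonsterX.ThOneClass.card_centralizer (s := e t) (by rw [← ht]; exact e.orderOf_eq t)
  rw [card_centralizer_map] at h1
  exact hc.not7 (by rw [h1]; norm_num)

/-! ### 2-central involutions -/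

section Central

variable {M : Type*} [Group M] [Finite M]

theorem exists_sylow {t : M} {k u m : ℕ} (hm : Odd m) (hM : Nat.card M = 2 ^ k * m)
    (hc : Nat.card (centralizer ({t} : Set M)) = 2 ^ k * u) :
    ∃ P : Sylow 2 M, (P : Subgroup M) ≤ centralizer ({t} : Set M) := by
  have : Fact (Nat.Prime 2) := ⟨Nat.prime_two⟩
  obtain ⟨K, hK⟩ := Sylow.exists_subgroup_card_pow_prime (G := centralizer ({t} : Set M)) 2 (n := k)
    (by rw [hc]; exact Dvd.intro _ rfl)
  have hKM : Nat.card (K.map (centralizer ({t} : Set M)).subtype) = 2 ^ k := by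
    rw [card_map_of_injective (subtype_injective _), hK]
  obtain ⟨P, hP⟩ := (IsPGroup.of_card hKM).exists_le_sylow
  obtain ⟨j, hj⟩ := IsPGroup.iff_card.1 P.isPGroup'
  have h1 : Nat.card P ∣ 2 ^ k * m := by rw [← hM]; exact card_subgroup_dvd_card _
  rw [hj] at h1
  have h2 : 2 ^ j ∣ 2 ^ k := (Nat.Coprime.pow_left j (Nat.coprime_two_left.2 hm)).dvd_of_dvd_mul_right h1
  have h3 : Nat.card P ≤ Nat.card (K.map (centralizer ({t} : Set M)).subtype) := by
    rw [hKM, hj]; exact Nat.le_of_dvd (by positivity) h2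
  refine ⟨P, ?_⟩
  rw [← Subgroup.eq_of_le_of_card_ge hP h3]
  exact map_subtype_le _

theorem mem_of_central {t : M} (ht : orderOf t = 2) {P : Sylow 2 M}
    (hP : (P : Subgroup M) ≤ centralizer ({t} : Set M)) : t ∈ P := by
  have : Fact (Nat.Prime 2) := ⟨Nat.prime_two⟩
  have h1 : IsPGroup 2 (zpowers t) := IsPGroup.of_card (n := 1) (by rw [Nat.card_zpowers, ht, pow_one])
  have h2 : IsPGroup 2 ((P : Subgroup M) ⊔ zpowers t : Subgroup M) := by
    apply IsPGroup.to_sup_of_normal_right' P.isPGroup' h1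
    intro s hs
    have hst := mem_centralizer_singleton_iff.1 (hP hs)
    rw [mem_normalizer_iff]
    have hcon : ∀ j : ℤ, s * t ^ j * s⁻¹ = t ^ j := fun j => by
      rw [← conj_zpow, hst, mul_inv_cancel_right]
    intro r
    constructor
    · rintro ⟨j, rfl⟩
      exact ⟨j, (hcon j).symm⟩
    · rintro ⟨j, hj⟩
      refine ⟨j, ?_⟩
      have h3 : s * t ^ j * s⁻¹ = s * r * s⁻¹ := by rw [hcon]; exact hj
      exact mul_left_cancel (mul_right_cancel h3)
  have h3 := P.is_maximal' h2 le_sup_left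
  have h4 : t ∈ ((P : Subgroup M) ⊔ zpowers t : Subgroup M) := (le_sup_right : zpowers t ≤ _) (mem_zpowers t)
  rw [h3] at h4
  exact h4

end Central

/-! ### `Fi₂₂` -/

open Cfsg.Agent.KFacts.FiTT in
theorem card_cent_fi22 {K : Type*} [Group K] [Finite K] {d d' : K} {R : Subgroup K} (h : Facts K d d' R) :
    Nat.card (centralizer ({d * d'} : Set K)) = 2 ^ 17 * 405 := by
  obtain ⟨F, _, _, hF, f, hf, hker⟩ := h.quoR
  have h1 : Nat.card (centralizer ({d, d'} : Set K)) = 2 ^ 10 * 25920 := by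
    have e1 := f.ker.card_eq_card_quotient_mul_card_subgroup
    rw [Nat.card_congr (QuotientGroup.quotientKerEquivOfSurjective f hf).toEquiv] at e1
    have e2 : Nat.card f.ker = Nat.card R := by
      refine Nat.card_congr
        { toFun := fun x => ⟨((x : centralizer ({d, d'} : Set K)) : K), (hker _).1 (MonoidHom.mem_ker.1 x.2)⟩
          invFun := fun x => ⟨⟨x, h.R_le x.2⟩, MonoidHom.mem_ker.2 ((hker _).2 x.2)⟩
          left_inv := fun _ => rfl
          right_inv := fun _ => rfl }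
    have e3 : Nat.card (PSU 4 F 2) = 25920 := by
      have h0 := Cfsg.Agent.S0280.result (F := F) (q := 2) (by rw [hF]; norm_num) 4 (by norm_num)
      have e1 : Nat.gcd 4 (2 + 1) = 1 := by decide
      have e2 : (2 : ℕ) ^ (4 * (4 - 1) / 2) * ∏ i ∈ Finset.range 4,
          (if Even i then 2 ^ (i + 1) + 1 else 2 ^ (i + 1) - 1) = 77760 := by decide
      rw [e1, e2] at h0
      omega
    rw [e1, e2, e3, h.R_card, mul_comm]
  have hmem : ∀ {x : K}, x ∈ centralizer ({d, d'} : Set K) ↔ x * d = d * x ∧ x * d' = d' * x := by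
    intro x
    rw [mem_centralizer_iff]
    constructor
    · intro hx
      exact ⟨(hx d (by simp)).symm, (hx d' (by simp)).symm⟩
    · rintro ⟨h1, h2⟩ y hy
      rcases hy with rfl | hy
      · exact h1.symm
      · rw [Set.mem_singleton_iff.1 hy]; exact h2.symm
  have hle : centralizer ({d, d'} : Set K) ≤ centralizer ({d * d'} : Set K) := by
    intro x hx
    obtain ⟨h1, h2⟩ := hmem.1 hx
    rw [mem_centralizer_singleton_iff, ← mul_assoc, h1, mul_assoc, h2, ← mul_assoc]
  have h2 : (centralizer ({d, d'} : Set K)).relIndex (centralizer ({d * d'} : Set K)) = 2 := by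
    obtain ⟨p, hp1, hp2⟩ := h.swap
    have hpz : p ∈ centralizer ({d * d'} : Set K) := by
      rw [mem_centralizer_singleton_iff]
      have e1 : p * d = d' * p := mul_inv_eq_iff_eq_mul.1 hp1
      have e2 : p * d' = d * p := mul_inv_eq_iff_eq_mul.1 hp2
      rw [← mul_assoc, e1, mul_assoc, e2, ← mul_assoc, h.comm]
    rw [relIndex, index_eq_two_iff]
    refine ⟨⟨p, hpz⟩, fun b => ?_⟩
    have e1 : p * d = d' * p := mul_inv_eq_iff_eq_mul.1 hp1
    have e2 : p * d' = d * p := mul_inv_eq_iff_eq_mul.1 hp2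
    rw [mem_subgroupOf, mem_subgroupOf, hmem, hmem]
    rcases h.cz b (mem_centralizer_singleton_iff.1 b.2) with ⟨h3, h4⟩ | ⟨h3, h4⟩
    · right
      refine ⟨⟨h3, h4⟩, ?_⟩
      rintro ⟨h5, -⟩
      apply h.ne
      have h6 : (b : K) * p * d = d * (b * p) := h5
      rw [mul_assoc, e1, ← mul_assoc, h4, ← mul_assoc] at h6
      exact (mul_right_cancel (mul_right_cancel h6)).symm
    · left
      have e3 : (b : K) * d = d' * b := mul_inv_eq_iff_eq_mul.1 h3
      have e4 : (b : K) * d' = d * b := mul_inv_eq_iff_eq_mul.1 h4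
      refine ⟨⟨?_, ?_⟩, ?_⟩
      · show (b : K) * p * d = d * (b * p)
        rw [mul_assoc, e1, ← mul_assoc, e4, mul_assoc]
      · show (b : K) * p * d' = d' * (b * p)
        rw [mul_assoc, e2, ← mul_assoc, e3, mul_assoc]
      · rintro ⟨h5, -⟩
        apply h.ne
        rw [e3] at h5
        exact (mul_right_cancel h5).symm
  have h3 := relIndex_mul_relIndex (⊥ : Subgroup K) (centralizer ({d, d'} : Set K))
    (centralizer ({d * d'} : Set K)) bot_le hle
  rw [relIndex_bot_left, relIndex_bot_left, h1, h2] at h3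
  rw [← h3]
  norm_num

/-- **the 2-central involutions of `Fi₂₂`** -/
theorem fi22 {M : Type*} [Group M] [Finite M] (h : Spor.IsoFi22 M) {t : M} (ht : orderOf t = 2)
    (hP : ∃ P : Sylow 2 M, (P : Subgroup M) ≤ centralizer ({t} : Set M)) :
    Nat.card (centralizer ({t} : Set M)) = 2 ^ 17 * 405 := by
  have : Fact (Nat.Prime 2) := ⟨Nat.prime_two⟩
  obtain ⟨d, d', R, hf⟩ := Cfsg.Agent.KFacts.FiTT.has_of_iso h
  obtain ⟨P, hP⟩ := hP
  -- a Sylow subgroup of `C(z)`
  obtain ⟨S, hS⟩ : ∃ S : Sylow 2 M, (S : Subgroup M) ≤ centralizer ({d * d'} : Set M) := by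
    have h1 := card_cent_fi22 hf
    have h2 := hf.card
    exact exists_sylow (k := 17) (m := 492567075) (u := 405) (by decide) (by rw [h2]; norm_num) h1
  obtain ⟨g, hg⟩ := MulAction.exists_smul_eq M P S
  have htP : t ∈ (P : Subgroup M) := mem_of_central ht hP
  have hgP : ∀ x, x ∈ (P : Subgroup M) → g * x * g⁻¹ ∈ (S : Subgroup M) := by
    intro x hx
    rw [← hg]
    exact ⟨x, hx, rfl⟩
  have hgS : ∀ y, y ∈ (S : Subgroup M) → g⁻¹ * y * g ∈ (P : Subgroup M) := by
    intro y hy
    rw [← hg] at hy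
    obtain ⟨x, hx, rfl⟩ := hy
    have : g⁻¹ * (MulAut.conj g x) * g = x := by rw [MulAut.conj_apply]; group
    change g⁻¹ * (MulAut.conj g x) * g ∈ (P : Subgroup M)
    rw [this]; exact hx
  rcases hf.center_S S hS (g * t * g⁻¹) (hgP t htP) (fun y hy => by
    have h1 := mem_centralizer_singleton_iff.1 (hP (hgS y hy))
    -- `(g⁻¹ y g) t = t (g⁻¹ y g)`
    calc g * t * g⁻¹ * y = g * (t * (g⁻¹ * y * g)) * g⁻¹ := by group
      _ = g * ((g⁻¹ * y * g) * t) * g⁻¹ := by rw [h1]
      _ = y * (g * t * g⁻¹) := by group) with h1 | h1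
  · exfalso
    have h2 : t = 1 := by
      have : g * t = g := by rw [mul_inv_eq_one] at h1; exact h1
      exact mul_eq_left.1 this
    rw [h2, orderOf_one] at ht
    omega
  · rw [Cfsg.Agent.H816.Elim.card_cent_of_isConj (isConj_iff.2 ⟨g, h1⟩), card_cent_fi22 hf]

/-! ### `Co₂` -/

/-- **the 2-central involutions of `Co₂`** -/
theorem co2 {M : Type*} [Group M] [Finite M] (h : Spor.IsoCo2 M) {t : M} (ht : orderOf t = 2)
    (hP : ∃ P : Sylow 2 M, (P : Subgroup M) ≤ centralizer ({t} : Set M)) :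
    7 ∣ Nat.card (centralizer ({t} : Set M)) := by
  have : Fact (Nat.Prime 2) := ⟨Nat.prime_two⟩
  obtain ⟨e⟩ := h
  have hfin : Finite Spor.Co2 := Finite.of_equiv M e.toEquiv
  have hL := Cfsg.Agent.KFacts.CoTwo.RLarge.large
  obtain ⟨P, hP⟩ := hP
  have hconj := (Cfsg.Agent.H816.Elim.large_tran hL).2
  have h1 := hconj (e t) (by rw [← ht]; exact e.orderOf_eq t) (by
    have hs : Function.Surjective (e.toMonoidHom : M →* Spor.Co2) := e.surjective
    refine ⟨P.mapSurjective hs, ?_⟩
    rw [Sylow.coe_mapSurjective hs P]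
    rintro _ ⟨x, hx, rfl⟩
    have h2 := mem_centralizer_singleton_iff.1 (hP hx)
    rw [mem_centralizer_singleton_iff]
    show e x * e t = e t * e x
    rw [← map_mul, h2, map_mul])
  obtain ⟨u, hu, -, hc9, ⟨E⟩⟩ := Cfsg.Agent.S2136.result
  have hcu : Nat.card (centralizer ({u} : Set Spor.Co2)) = 2 ^ 18 * 2835 := by
    have h2 := (Cfsg.pCore 2 ↥(centralizer ({u} : Set Spor.Co2))).card_eq_card_quotient_mul_card_subgroup
    rw [hc9, Nat.card_congr E.toEquiv] at h2
    have h3 := Cfsg.Agent.S0245.result (F := ZMod 2) (q := 2) (by simp) 3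
    rw [h3] at h2
    rw [h2]
    simp [Finset.prod_range_succ]
  have hcard : Nat.card Spor.Co2 = 2 ^ 18 * 161382375 := by
    rw [NotCT.Orders.co2 (K := Spor.Co2) ⟨MulEquiv.refl _⟩]
    norm_num
  have h2 := hconj u hu (exists_sylow (k := 18) (u := 2835) (m := 161382375) (by decide) hcard hcu)
  rw [← card_centralizer_map e t, ← Cfsg.Agent.H816.Elim.card_cent_of_isConj h1,
    Cfsg.Agent.H816.Elim.card_cent_of_isConj h2, hcu]
  norm_num

end Cfsg.Agent.H316.Kill23
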