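import Cfsg.Agent.H316.RedBase
import Cfsg.Prelude.Def_Classical

/-!
# Alternating groups have no involution centralizer of order `2^k 405` (helper316)
-/

set_option autoImplicit false

namespace Cfsg.Agent.H316.Kill

open Subgroup Equiv Nat

/-- order of the centralizer of an involution of `S_n` -/
theorem card_centralizer_perm {n : ℕ} {g : Perm (Fin n)} (hg : orderOf g = 2) :
    ∃ m, 2 * m ≤ n ∧ Nat.card (centralizer ({g} : Set (Perm (Fin n)))) = (n - 2 * m)! * 2 ^ m * m ! := by
  obtain ⟨k, hk⟩ := Equiv.Perm.cycleType_prime_order (σ := g) (by rw [hg]; exact Nat.prime_two)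
  refine ⟨k + 1, ?_, ?_⟩
  · have h1 := Equiv.Perm.sum_cycleType_le g
    rw [hk, hg, Multiset.sum_replicate, smul_eq_mul, Fintype.card_fin] at h1
    omega
  · rw [Equiv.Perm.nat_card_centralizer, hk, hg, Multiset.sum_replicate, Multiset.prod_replicate,
      Multiset.toFinset_replicate, if_neg (by omega), Finset.prod_singleton, Multiset.count_replicate_self,
      Fintype.card_fin, smul_eq_mul, mul_comm (k + 1) 2]

theorem arith {m r j : ℕ} (h : r ! * 2 ^ m * m ! = 2 ^ j * 405) : False := by
  have h7 : ¬ 7 ∣ 2 ^ j * 405 := by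
    intro h7
    rcases (Nat.Prime.dvd_mul (by norm_num)).1 h7 with h8 | h8
    · have := (Nat.Prime.dvd_of_dvd_pow (by norm_num) h8)
      norm_num at this
    · norm_num at h8
  have hm : m ≤ 6 := by
    by_contra hlt
    apply h7
    rw [← h]
    exact Dvd.dvd.mul_left ((Nat.Prime.dvd_factorial (by norm_num)).2 (by omega)) _
  have hr : r ≤ 6 := by
    by_contra hlt
    apply h7
    rw [← h, mul_assoc]
    exact Dvd.dvd.mul_right ((Nat.Prime.dvd_factorial (by norm_num)).2 (by omega)) _
  have h405 : 405 ∣ r ! * 2 ^ m * m ! := by rw [h]; exact Dvd.intro_left _ rfl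
  have h25 : ¬ 25 ∣ r ! * 2 ^ m * m ! := by
    rw [h]
    intro h25
    have h1 : 25 ∣ 2 ^ j * 405 := h25
    have h2 : 5 ∣ 2 ^ j * 81 := by
      have : 5 * 5 ∣ 5 * (2 ^ j * 81) := by
        have e : 5 * (2 ^ j * 81) = 2 ^ j * 405 := by ring
        rw [e]; exact h1
      exact Nat.dvd_of_mul_dvd_mul_left (by norm_num) this
    rcases (Nat.Prime.dvd_mul (by norm_num)).1 h2 with h8 | h8
    · have := (Nat.Prime.dvd_of_dvd_pow (by norm_num) h8)
      norm_num at this
    · norm_num at h8
  clear h h7
  interval_cases m <;> interval_cases r <;> revert h405 h25 <;> decide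

/-- **Alternating groups.** -/
theorem alt {M : Type*} [Group M] (h : Cfsg.IsAlternating M) {t : M} (ht : orderOf t = 2) {k : ℕ}
    (hc : Nat.card (centralizer ({t} : Set M)) = 2 ^ k * 405) : False := by
  obtain ⟨n, hn, ⟨e⟩⟩ := h
  set A : Subgroup (Perm (Fin n)) := alternatingGroup (Fin n) with hA
  set g : Perm (Fin n) := (e t : Perm (Fin n)) with hg
  have hgo : orderOf g = 2 := by
    rw [hg, Subgroup.orderOf_coe, ← ht]; exact e.orderOf_eq t
  obtain ⟨m, hm, hcm⟩ := card_centralizer_perm hgo
  set C : Subgroup (Perm (Fin n)) := centralizer ({g} : Set (Perm (Fin n))) with hC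
  -- the centralizer in `A_n`
  have h1 : Nat.card (A ⊓ C : Subgroup (Perm (Fin n))) = 2 ^ k * 405 := by
    rw [← hc]
    have h2 : ((centralizer ({t} : Set M)).map e.toMonoidHom).map A.subtype = A ⊓ C := by
      ext x
      constructor
      · rintro ⟨_, ⟨y, hy, rfl⟩, rfl⟩
        refine mem_inf.2 ⟨(e y).2, ?_⟩
        rw [hC, mem_centralizer_singleton_iff]
        have h3 : y * t = t * y := mem_centralizer_singleton_iff.1 hy
        have h4 := congrArg (fun w => ((e w : alternatingGroup (Fin n)) : Perm (Fin n))) h3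
        simpa using h4
      · rintro ⟨hx, hxc⟩
        refine ⟨⟨x, hx⟩, ⟨e.symm ⟨x, hx⟩, ?_, e.apply_symm_apply _⟩, rfl⟩
        rw [SetLike.mem_coe, mem_centralizer_singleton_iff]
        apply e.injective
        rw [map_mul, map_mul, e.apply_symm_apply]
        apply Subtype.ext
        exact mem_centralizer_singleton_iff.1 hxc
    rw [← h2, card_map_of_injective A.subtype_injective, card_map_of_injective e.injective]
  have h2 : A.relIndex C ∣ 2 := by
    have h3 : A.relIndex C ∣ A.index := relIndex_dvd_index_of_normal A C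
    have h4 : A.index = 2 := by
      have : Nontrivial (Fin n) := Fin.nontrivial_iff_two_le.2 (by omega)
      exact alternatingGroup.index_eq_two
    rwa [h4] at h3
  have h3 : Nat.card (A ⊓ C : Subgroup (Perm (Fin n))) * A.relIndex C = Nat.card C := by
    have := Subgroup.relIndex_mul_relIndex (⊥ : Subgroup (Perm (Fin n))) (A ⊓ C) C bot_le inf_le_right
    rwa [relIndex_bot_left, relIndex_bot_left, inf_relIndex_right] at this
  rw [h1, hcm] at h3
  rcases (Nat.dvd_prime Nat.prime_two).1 h2 with h4 | h4
  · rw [h4, mul_one] at h3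
    exact arith h3.symm
  · rw [h4] at h3
    have h5 : (n - 2 * m)! * 2 ^ m * m ! = 2 ^ (k + 1) * 405 := by rw [← h3]; ring
    exact arith h5

end Cfsg.Agent.H316.Kill
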