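import Cfsg.Prelude.Def_LieTypeChar
import Cfsg.Prelude.Def_Sz
import Cfsg.Agent.S0243
import Cfsg.Agent.S0245
import Cfsg.Agent.S0246
import Cfsg.Agent.S0280
import Cfsg.Agent.S0293
import Cfsg.Agent.S0294
import Cfsg.Agent.S1059
import Cfsg.Agent.S1062
import Cfsg.Agent.S1063
import Cfsg.Agent.S1064
import Cfsg.Agent.S1065
import Cfsg.Agent.S1066
import Cfsg.Agent.S1067
import Cfsg.Agent.S1068

/-!
# Groups of Lie type in characteristic 2 with `13 ≤ log₂ |G|₂ ≤ 17`, `81 ∣ |G|` (helper316)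

`lie` : such a group is `L₆(2)`, `Sp₈(2)`, `U₆(2)` or a Suzuki group.
-/

set_option autoImplicit false

namespace Cfsg.Agent.H316.Kill

open Cfsg

/-- `c = 2^k m`, `m` odd, `13 ≤ k ≤ 17` and `81 ∣ c` -/
structure Nk (c k : ℕ) : Prop where
  ge : 13 ≤ k
  le : k ≤ 17
  odd : ∃ m, Odd m ∧ c = 2 ^ k * m
  dvd : 81 ∣ c

theorem pow_eq {n k u v : ℕ} (hu : Odd u) (hv : Odd v) (h : 2 ^ n * u = 2 ^ k * v) : n = k := by
  have h1 : 2 ^ n ∣ 2 ^ k := by
    have : 2 ^ n ∣ 2 ^ k * v := ⟨u, h.symm⟩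
    exact (Nat.Coprime.pow_left n (Nat.coprime_two_left.2 hv)).dvd_of_dvd_mul_right this
  have h2 : 2 ^ k ∣ 2 ^ n := by
    have : 2 ^ k ∣ 2 ^ n * u := ⟨v, h⟩
    exact (Nat.Coprime.pow_left k (Nat.coprime_two_left.2 hu)).dvd_of_dvd_mul_right this
  exact Nat.pow_right_injective le_rfl (Nat.dvd_antisymm h1 h2)

theorem Nk.pin {c k d N u : ℕ} (h : Nk c k) (hd : Odd d) (hu : Odd u) (he : d * c = 2 ^ N * u) : N = k := by
  obtain ⟨m, hm, rfl⟩ := h.odd
  refine pow_eq hu (hd.mul hm) ?_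
  rw [← he]; ring

theorem Nk.big {c k d w : ℕ} (h : Nk c k) (hd : Odd d) (he : d * c = w) (hw : 2 ^ 18 ∣ w) : False := by
  obtain ⟨m, hm, rfl⟩ := h.odd
  have h1 : 2 ^ 18 ∣ 2 ^ k * (d * m) := by
    have : 2 ^ k * (d * m) = w := by rw [← he]; ring
    rw [this]; exact hw
  have h2 : 2 ^ 18 ∣ 2 ^ k :=
    (Nat.Coprime.pow_left 18 (Nat.coprime_two_left.2 (hd.mul hm))).dvd_of_dvd_mul_right h1
  have h3 := (Nat.pow_dvd_pow_iff_le_right (by norm_num)).1 h2
  have := h.le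
  omega

theorem Nk.dvd_mul {c k d : ℕ} (h : Nk c k) : 81 ∣ d * c := Dvd.dvd.mul_left h.dvd d

theorem exists_pow {F : Type*} [Field F] [Fintype F] [CharP F 2] : ∃ f : ℕ, 1 ≤ f ∧ Fintype.card F = 2 ^ f := by
  obtain ⟨n, -, hn⟩ := FiniteField.card F 2
  exact ⟨n, n.2, hn⟩

theorem odd_sub {f : ℕ} (hf : 1 ≤ f) : Odd (2 ^ f - 1) := by
  have h1 : 1 ≤ 2 ^ f := Nat.one_le_two_pow
  obtain ⟨g, rfl⟩ := Nat.exists_eq_add_of_le hf
  rw [Nat.odd_sub h1, pow_add]
  simp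

theorem odd_add {f : ℕ} (hf : 1 ≤ f) : Odd (2 ^ f + 1) := by
  obtain ⟨g, rfl⟩ := Nat.exists_eq_add_of_le hf
  rw [pow_add]
  simp

theorem odd_sub' {f e : ℕ} (hf : 1 ≤ f) (he : 1 ≤ e) : Odd ((2 ^ f) ^ e - 1) := by
  rw [← pow_mul]; exact odd_sub (Nat.mul_pos hf he)

theorem odd_add' {f e : ℕ} (hf : 1 ≤ f) (he : 1 ≤ e) : Odd ((2 ^ f) ^ e + 1) := by
  rw [← pow_mul]; exact odd_add (Nat.mul_pos hf he)

theorem odd_gcd {a b : ℕ} (h : Odd b) : Odd (Nat.gcd a b) := Odd.of_dvd_nat h (Nat.gcd_dvd_right _ _)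

theorem odd_prod {s : Finset ℕ} {g : ℕ → ℕ} (h : ∀ i ∈ s, Odd (g i)) : Odd (∏ i ∈ s, g i) := by
  induction s using Finset.cons_induction with
  | empty => exact odd_one
  | cons a s ha ih =>
    rw [Finset.prod_cons]
    exact (h a (Finset.mem_cons_self a s)).mul (ih fun i hi => h i (Finset.mem_cons_of_mem hi))

/-! ### linear groups -/

theorem psl_two_part (q n : ℕ) :
    ∏ i ∈ Finset.range n, (q ^ n - q ^ i) = q ^ (n * (n - 1) / 2) * ∏ i ∈ Finset.range n, (q ^ (n - i) - 1) := by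
  rw [← Finset.sum_range_id, ← Finset.prod_pow_eq_pow_sum, ← Finset.prod_mul_distrib]
  refine Finset.prod_congr rfl fun i hi => ?_
  rw [Finset.mem_range] at hi
  rw [Nat.mul_sub, mul_one, ← pow_add, Nat.add_sub_cancel' hi.le]

theorem psl {F : Type*} [Field F] [Fintype F] {f n k : ℕ} (hF : Fintype.card F = 2 ^ f) (hf : 1 ≤ f) (hn : 2 ≤ n)
    (h : Nk (Nat.card (Matrix.ProjectiveSpecialLinearGroup (Fin n) F)) k) : n = 6 ∧ f = 1 := by
  have h0 := Cfsg.Agent.S0243.result (F := F) hF n hn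
  rw [← mul_assoc] at h0
  have hd : Odd (Nat.gcd n (2 ^ f - 1) * (2 ^ f - 1)) := (odd_gcd (odd_sub hf)).mul (odd_sub hf)
  have h1 := h0
  rw [Fin.prod_univ_eq_prod_range (fun i => (2 ^ f) ^ n - (2 ^ f) ^ i) n,
    psl_two_part, ← pow_mul] at h1
  have hu : Odd (∏ i ∈ Finset.range n, ((2 ^ f) ^ (n - i) - 1)) := by
    refine odd_prod fun i hi => ?_
    rw [Finset.mem_range] at hi
    exact odd_sub' hf (by omega)
  have hk := h.pin hd hu h1
  have hge := h.ge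
  have hle := h.le
  have h81 : 81 ∣ ∏ i : Fin n, ((2 ^ f) ^ n - (2 ^ f) ^ (i : ℕ)) := by
    rw [← h0]; exact h.dvd_mul
  have hn6 : n ≤ 6 := by
    by_contra hlt
    have h1 : 7 * 6 ≤ n * (n - 1) := Nat.mul_le_mul (by omega) (by omega)
    have h2 : 21 ≤ n * (n - 1) / 2 := by omega
    have h3 : 1 * 21 ≤ f * (n * (n - 1) / 2) := Nat.mul_le_mul hf h2
    omega
  clear h0 h1 hu hd h
  interval_cases n
  · exfalso
    have : f = k := by omega
    subst this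
    interval_cases f <;> revert h81 <;> rw [Fin.prod_univ_two] <;> norm_num
  · exfalso
    have : f = 5 := by omega
    subst this
    revert h81
    rw [Fin.prod_univ_three]
    norm_num
  · omega
  · omega
  · exact ⟨rfl, by omega⟩

/-! ### symplectic groups -/

theorem psp {F : Type*} [Field F] [Fintype F] {f m k : ℕ} (hF : Fintype.card F = 2 ^ f) (hf : 1 ≤ f) (hm : 2 ≤ m)
    (h : Nk (Nat.card (PSp m F)) k) : m = 4 ∧ f = 1 := by
  have h1 := Cfsg.Agent.S0245.result (F := F) hF m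
  have h2 := Cfsg.Agent.S0246.result (F := F) hF m (by omega)
  have h3 := Subgroup.card_eq_card_quotient_mul_card_subgroup
    (Subgroup.center (Matrix.symplecticGroup (Fin m) F))
  rw [h1, h2, mul_comm (Nat.card _), ← pow_mul] at h3
  have hd : Odd (Nat.gcd 2 (2 ^ f - 1)) := odd_gcd (odd_sub hf)
  have hu : Odd (∏ i ∈ Finset.range m, ((2 ^ f) ^ (2 * (i + 1)) - 1)) :=
    odd_prod fun i hi => odd_sub' hf (by omega)
  have hk := h.pin hd hu h3.symm
  have hge := h.ge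
  have hle := h.le
  have hm4 : m ≤ 4 := by
    by_contra hlt
    have h1 : 5 ^ 2 ≤ m ^ 2 := Nat.pow_le_pow_left (by omega) 2
    have h3 : 1 * 5 ^ 2 ≤ f * m ^ 2 := Nat.mul_le_mul hf h1
    omega
  have h81 : 81 ∣ 2 ^ (f * m ^ 2) * ∏ i ∈ Finset.range m, ((2 ^ f) ^ (2 * (i + 1)) - 1) := by
    rw [h3]; exact h.dvd_mul
  clear h1 h2 h3 hu hd h
  interval_cases m
  · exfalso
    have : f = 4 := by omega
    subst this
    revert h81
    rw [Finset.prod_range_succ, Finset.prod_range_one]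
    norm_num
  · omega
  · exact ⟨rfl, by omega⟩

/-! ### unitary groups -/

theorem psu {F : Type*} [Field F] [Fintype F] {f n k : ℕ} (hF : Fintype.card F = (2 ^ f) ^ 2) (hf : 1 ≤ f)
    (hn : 3 ≤ n) (h : Nk (Nat.card (PSU n F (2 ^ f))) k) : n = 6 ∧ f = 1 := by
  have h0 := Cfsg.Agent.S0280.result (F := F) hF n (by omega)
  rw [← mul_assoc] at h0
  have hd : Odd (Nat.gcd n (2 ^ f + 1) * (2 ^ f + 1)) := (odd_gcd (odd_add hf)).mul (odd_add hf)
  have h1 := h0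
  rw [← pow_mul] at h1
  have hu : Odd (∏ i ∈ Finset.range n, (if Even i then (2 ^ f) ^ (i + 1) + 1 else (2 ^ f) ^ (i + 1) - 1)) := by
    refine odd_prod fun i hi => ?_
    split_ifs
    · exact odd_add' hf (by omega)
    · exact odd_sub' hf (by omega)
  have hk := h.pin hd hu h1
  have hge := h.ge
  have hle := h.le
  have hn6 : n ≤ 6 := by
    by_contra hlt
    have h1 : 7 * 6 ≤ n * (n - 1) := Nat.mul_le_mul (by omega) (by omega)
    have h2 : 21 ≤ n * (n - 1) / 2 := by omega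
    have h3 : 1 * 21 ≤ f * (n * (n - 1) / 2) := Nat.mul_le_mul hf h2
    omega
  have h81 := h.dvd
  clear h1 hu hd h
  interval_cases n
  · exfalso
    have : f = 5 := by omega
    subst this
    rw [Finset.prod_range_succ, Finset.prod_range_succ, Finset.prod_range_one] at h0
    norm_num at h0
    have h2 : Nat.card (PSU 3 F 32) = 366157135872 := by omega
    norm_num at h81
    rw [h2] at h81
    omega
  · omega
  · omega
  · exact ⟨rfl, by omega⟩

/-! ### orthogonal groups -/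

theorem plus {F : Type*} [Field F] [Fintype F] {f m k : ℕ} (hF : Fintype.card F = 2 ^ f) (hf : 1 ≤ f) (hm : 4 ≤ m)
    (h : Nk (Nat.card (POmega F (quadFormPlus m F))) k) : False := by
  have h0 := Cfsg.Agent.S0293.result (F := F) hF m hm
  have hd : Odd (Nat.gcd 4 ((2 ^ f) ^ m - 1)) := odd_gcd (odd_sub' hf (by omega))
  rw [mul_assoc, ← pow_mul 2 f (m * (m - 1))] at h0
  have hu : Odd (((2 ^ f) ^ m - 1) * ∏ i ∈ Finset.range (m - 1), ((2 ^ f) ^ (2 * (i + 1)) - 1)) :=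
    (odd_sub' hf (by omega)).mul (odd_prod fun i hi => odd_sub' hf (by omega))
  have hk := h.pin hd hu h0
  have hge := h.ge
  have hle := h.le
  have h4 : m < 5 := by
    by_contra hlt
    have h1 : 5 * 4 ≤ m * (m - 1) := Nat.mul_le_mul (by omega) (by omega)
    have h3 : 1 * 20 ≤ f * (m * (m - 1)) := Nat.mul_le_mul hf h1
    omega
  have h5 : m = 4 := by omega
  subst h5
  omega

theorem minus {F : Type*} [Field F] [Fintype F] {f m k : ℕ} (hF : Fintype.card F = 2 ^ f) (hf : 1 ≤ f) (hm : 4 ≤ m)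
    (a b : F) (hab : ∀ z₁ z₂ : F, z₁ ^ 2 + a * z₁ * z₂ + b * z₂ ^ 2 = 0 → z₁ = 0 ∧ z₂ = 0)
    (h : Nk (Nat.card (POmega F (quadFormMinus (m - 1) F a b))) k) : False := by
  have h0 := Cfsg.Agent.S0294.result (F := F) hF m hm a b hab
  have hd : Odd (Nat.gcd 4 ((2 ^ f) ^ m + 1)) := odd_gcd (odd_add' hf (by omega))
  rw [mul_assoc, ← pow_mul 2 f (m * (m - 1))] at h0
  have hu : Odd (((2 ^ f) ^ m + 1) * ∏ i ∈ Finset.range (m - 1), ((2 ^ f) ^ (2 * (i + 1)) - 1)) :=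
    (odd_add' hf (by omega)).mul (odd_prod fun i hi => odd_sub' hf (by omega))
  have hk := h.pin hd hu h0
  have hge := h.ge
  have hle := h.le
  have h4 : m < 5 := by
    by_contra hlt
    have h1 : 5 * 4 ≤ m * (m - 1) := Nat.mul_le_mul (by omega) (by omega)
    have h3 : 1 * 20 ≤ f * (m * (m - 1)) := Nat.mul_le_mul hf h1
    omega
  have h5 : m = 4 := by omega
  subst h5
  omega

/-! ### exceptional groups -/

theorem pow_le {q e N : ℕ} (hq : 2 ∣ q) (he : e ≤ N) : 2 ^ e ∣ q ^ N :=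
  (pow_dvd_pow _ he).trans (pow_dvd_pow_of_dvd hq _)

theorem exc {F : Type} [Field F] [Fintype F] [CharP F 2] {K : Type*} [Group K]
    (h : (3 ≤ Fintype.card F ∧ Nonempty (K ≃* Lie.chevG2.group F)) ∨ Nonempty (K ≃* Lie.chevF4.group F) ∨
      Nonempty (K ≃* Lie.chevE6.group F) ∨ Nonempty (K ≃* Lie.chevE7.group F) ∨ Nonempty (K ≃* Lie.chevE8.group F))
    {k : ℕ} (hk : Nk (Nat.card K) k) : False := by
  obtain ⟨f, hf, hF⟩ := exists_pow (F := F)
  have h2 : 2 ∣ 2 ^ f := dvd_pow_self _ (by omega)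
  rcases h with ⟨h3, ⟨e⟩⟩ | ⟨⟨e⟩⟩ | ⟨⟨e⟩⟩ | ⟨⟨e⟩⟩ | ⟨⟨e⟩⟩
  · have h0 := Cfsg.Agent.S1059.result hF
    rw [← Nat.card_congr e.toEquiv, mul_assoc] at h0
    have h1 : 1 * Nat.card K = 2 ^ (f * 6) * (((2 ^ f) ^ 2 - 1) * ((2 ^ f) ^ 6 - 1)) := by
      rw [pow_mul 2 f 6, one_mul]; exact h0
    have hp := hk.pin (d := 1) odd_one
      ((odd_sub' (e := 2) hf (by norm_num)).mul (odd_sub' (e := 6) hf (by norm_num))) h1
    have hge := hk.ge
    have hle := hk.le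
    omega
  · have h0 := Cfsg.Agent.S1062.result hF
    rw [← Nat.card_congr e.toEquiv] at h0
    refine hk.big (d := 1) odd_one ((one_mul _).trans h0) ?_
    exact (pow_le h2 (show 18 ≤ 24 by norm_num)).trans (by simp only [mul_assoc]; exact dvd_mul_right _ _)
  · have h0 := Cfsg.Agent.S1063.result hF
    rw [← Nat.card_congr e.toEquiv] at h0
    refine hk.big (odd_gcd (odd_sub hf)) h0 ?_
    exact (pow_le h2 (show 18 ≤ 36 by norm_num)).trans (by simp only [mul_assoc]; exact dvd_mul_right _ _)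
  · have h0 := Cfsg.Agent.S1064.result hF
    rw [← Nat.card_congr e.toEquiv] at h0
    refine hk.big (odd_gcd (odd_sub hf)) h0 ?_
    exact (pow_le h2 (show 18 ≤ 63 by norm_num)).trans (by simp only [mul_assoc]; exact dvd_mul_right _ _)
  · have h0 := Cfsg.Agent.S1065.result hF
    rw [← Nat.card_congr e.toEquiv] at h0
    refine hk.big (d := 1) odd_one ((one_mul _).trans h0) ?_
    exact (pow_le h2 (show 18 ≤ 120 by norm_num)).trans (by simp only [mul_assoc]; exact dvd_mul_right _ _)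

theorem two_dvd_of {K : Type*} [Field K] [Fintype K] [CharP K 2] {q n : ℕ} (h : Fintype.card K = q ^ n) : 2 ∣ q := by
  obtain ⟨f, hf, hF⟩ := exists_pow (F := K)
  refine Nat.prime_two.dvd_of_dvd_pow (n := n) ?_
  rw [← h, hF]
  exact dvd_pow_self _ (by omega)

/-- `q = 2^f` if `|K| = q^n` -/
theorem exists_pow' {K : Type*} [Field K] [Fintype K] [CharP K 2] {q n : ℕ} (hn : n ≠ 0)
    (h : Fintype.card K = q ^ n) : ∃ f, 1 ≤ f ∧ q = 2 ^ f := by
  obtain ⟨g, hg, hG⟩ := exists_pow (F := K)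
  have h1 : q ^ n = 2 ^ g := by rw [← h, hG]
  obtain ⟨f, -, hf⟩ := (Nat.dvd_prime_pow Nat.prime_two).1 (show q ∣ 2 ^ g by rw [← h1]; exact dvd_pow_self _ hn)
  refine ⟨f, ?_, hf⟩
  rcases Nat.eq_zero_or_pos f with h0 | h0
  · subst h0
    have h2 := two_dvd_of h
    rw [hf] at h2
    norm_num at h2
  · exact h0

theorem twisted {F : Type} [Field F] [Fintype F] [CharP F 2] {K : Type*} [Group K] {q : ℕ} (hq : IsPrimePow q)
    (h : (Fintype.card F = q ^ 2 ∧ Nonempty (K ≃* Lie.twistedE6 F q)) ∨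
      (Fintype.card F = q ^ 3 ∧ Nonempty (K ≃* Lie.twistedD4 F q))) {k : ℕ} (hk : Nk (Nat.card K) k) : False := by
  rcases h with ⟨h3, ⟨e⟩⟩ | ⟨h3, ⟨e⟩⟩
  · have h2 := two_dvd_of h3
    have h0 := Cfsg.Agent.S1066.result hq h3
    rw [← Nat.card_congr e.toEquiv] at h0
    refine hk.big (odd_gcd ?_) h0 ?_
    · exact Even.add_one (even_iff_two_dvd.2 h2)
    · exact (pow_le h2 (show 18 ≤ 36 by norm_num)).trans (by simp only [mul_assoc]; exact dvd_mul_right _ _)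
  · obtain ⟨f, hf, rfl⟩ := exists_pow' (by norm_num) h3
    have h0 := Cfsg.Agent.S1067.result hq h3
    rw [← Nat.card_congr e.toEquiv, mul_assoc, mul_assoc] at h0
    have h1 : 1 * Nat.card K =
        2 ^ (f * 12) * (((2 ^ f) ^ 2 - 1) * (((2 ^ f) ^ 6 - 1) * ((2 ^ f) ^ 8 + (2 ^ f) ^ 4 + 1))) := by
      rw [pow_mul 2 f 12, one_mul]; exact h0
    have ho : Odd ((2 ^ f) ^ 8 + (2 ^ f) ^ 4 + 1) := by
      refine Even.add_one ?_
      refine Even.add ?_ ?_ <;>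
      · rw [even_iff_two_dvd, ← pow_mul]
        exact dvd_pow_self _ (by omega)
    have hp := hk.pin (d := 1) odd_one ((odd_sub' (e := 2) hf (by norm_num)).mul
      ((odd_sub' (e := 6) hf (by norm_num)).mul ho)) h1
    have hge := hk.ge
    have hle := hk.le
    omega

theorem twoF4 {K : Type*} [Group K] (h : Lie.Iso2F4 K) {k : ℕ} (hk : Nk (Nat.card K) k) : False := by
  obtain ⟨F, _, _, m, hm, hF, ⟨e⟩⟩ := h
  have h0 := Cfsg.Agent.S1068.result hF
  rw [← Nat.card_congr e.toEquiv] at h0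
  refine hk.big (d := 1) odd_one ((one_mul _).trans h0) ?_
  have h1 : 2 ^ 18 ∣ (2 ^ (2 * m + 1)) ^ 12 := by
    rw [← pow_mul]; exact pow_dvd_pow _ (by omega)
  exact h1.trans (by simp only [mul_assoc]; exact dvd_mul_right _ _)

/-- **The table.** -/
theorem lie {K : Type*} [Group K] (h : IsLieTypeChar 2 K) {k : ℕ} (hk : Nk (Nat.card K) k) :
    (∃ (F : Type) (_ : Field F) (_ : Fintype F), Fintype.card F = 2 ∧
      (Nonempty (K ≃* Matrix.ProjectiveSpecialLinearGroup (Fin 6) F) ∨ Nonempty (K ≃* PSp 4 F))) ∨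
    (∃ (F : Type) (_ : Field F) (_ : Fintype F), Fintype.card F = 4 ∧ Nonempty (K ≃* PSU 6 F 2)) ∨
    Lie.IsoSuzuki K := by
  rcases h with h | h | h | h | h | h | h | h | h | h | h
  · obtain ⟨F, _, _, _, n, hn, h4, ⟨e⟩⟩ := h
    obtain ⟨f, hf, hF⟩ := exists_pow (F := F)
    rw [Nat.card_congr e.toEquiv] at hk
    obtain ⟨rfl, rfl⟩ := psl hF hf hn hk
    exact Or.inl ⟨F, inferInstance, inferInstance, hF, Or.inl ⟨e⟩⟩
  · obtain ⟨F, _, _, _, m, hm, h4, ⟨e⟩⟩ := h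
    obtain ⟨f, hf, hF⟩ := exists_pow (F := F)
    rw [Nat.card_congr e.toEquiv] at hk
    obtain ⟨rfl, rfl⟩ := psp hF hf hm hk
    exact Or.inl ⟨F, inferInstance, inferInstance, hF, Or.inr ⟨e⟩⟩
  · obtain ⟨F, _, _, _, n, q, hq, hn, h3, ⟨e⟩⟩ := h
    obtain ⟨f, hf, rfl⟩ := exists_pow' (by norm_num) hq
    rw [Nat.card_congr e.toEquiv] at hk
    obtain ⟨rfl, rfl⟩ := psu hq hf hn hk
    exact Or.inr (Or.inl ⟨F, inferInstance, inferInstance, by rw [hq]; norm_num, ⟨e⟩⟩)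
  · obtain ⟨F, _, _, _, m, -, ho, -⟩ := h
    exfalso
    obtain ⟨f, hf, hF⟩ := exists_pow (F := F)
    rw [hF] at ho
    exact (Nat.not_odd_iff_even.2 (even_iff_two_dvd.2 (dvd_pow_self _ (by omega)))) ho
  · obtain ⟨F, _, _, _, m, hm, ⟨e⟩⟩ := h
    exfalso
    obtain ⟨f, hf, hF⟩ := exists_pow (F := F)
    rw [Nat.card_congr e.toEquiv] at hk
    exact plus hF hf hm hk
  · obtain ⟨F, _, _, _, m, a, b, hm, hab, ⟨e⟩⟩ := h
    exfalso
    obtain ⟨f, hf, hF⟩ := exists_pow (F := F)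
    rw [Nat.card_congr e.toEquiv] at hk
    exact minus hF hf hm a b hab hk
  · obtain ⟨F, _, _, _, h⟩ := h
    exact (exc h hk).elim
  · obtain ⟨F, _, _, _, q, hq, h⟩ := h
    exact (twisted hq h hk).elim
  · exact Or.inr (Or.inr h.2)
  · exact (twoF4 h.2 hk).elim
  · exact absurd h.1 (by norm_num)

end Cfsg.Agent.H316.Kill
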