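import Cfsg.Agent.H316.RedStmt
import Cfsg.Agent.J2.ExtQuot

/-!
# Passing to the quotient by a central subgroup of order 2 (helper316)

`R` a central subgroup of order 2 of `G`, not containing `z`, contained in `J = O_2(C(z))`.
* `mem_Ce_mk` : `C(z R) = C(z)/R`;
* `comap_pCore` : `O_2(C(z R)) = J/R`;
* `centralizer_le` : `C(J/R) ≤ J/R`;
* `exists_phi` : `C(zR)/O_2 ≅ C(z)/O_2`;
* `extraspecial` : if `J = A × E` then `J/R ≅ E`;
* `oddCore_eq` : `O(G/R) = 1` if `O(G) = 1`.
-/

set_option autoImplicit false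

namespace Cfsg.Agent.H316.Quo

open Subgroup Cfsg Cfsg.Agent.H316.Red
open scoped commutatorElement

universe u

/-- `O(G/R) = 1` if `O(G) = 1` -/
theorem oddCore_eq {G : Type*} [Group G] [Finite G] {R : Subgroup G} [R.Normal] (hR : Nat.card R = 2)
    (hcen : ∀ x ∈ R, ∀ g : G, g * x = x * g) (hO : oddCore G = ⊥) : oddCore (G ⧸ R) = ⊥ := by
  have : Fact (Nat.Prime 2) := ⟨Nat.prime_two⟩
  have hn : (oddCore (G ⧸ R)).Normal := Cfsg.Agent.Lib.Cores.pPrimeCore_normal 2
  have hodd : Odd (Nat.card (oddCore (G ⧸ R))) :=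
    Nat.coprime_two_right.mp (Cfsg.Agent.Lib.Cores.pPrimeCore_coprime (G := G ⧸ R) 2)
  set O' : Subgroup G := (oddCore (G ⧸ R)).comap (QuotientGroup.mk' R) with hO'
  have hO'n : O'.Normal := hn.comap _
  have hRO : R ≤ O' := by
    intro x hx
    rw [hO', mem_comap]
    have : QuotientGroup.mk' R x = 1 := (QuotientGroup.eq_one_iff x).2 hx
    rw [this]; exact one_mem _
  -- the quotient of `O'` by `R`
  set R' : Subgroup O' := R.subgroupOf O' with hR'
  have hR'c : Nat.card R' = 2 := by rw [← hR]; exact Nat.card_congr (subgroupOfEquivOfLe hRO).toEquiv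
  set f : O' →* oddCore (G ⧸ R) := ((QuotientGroup.mk' R).comp O'.subtype).codRestrict _ (fun x => x.2) with hf
  have hfs : Function.Surjective f := by
    rintro ⟨y, hy⟩
    obtain ⟨g, rfl⟩ := QuotientGroup.mk'_surjective R y
    exact ⟨⟨g, hy⟩, rfl⟩
  have hfk : f.ker = R' := by
    ext x
    rw [MonoidHom.mem_ker, hR', mem_subgroupOf, Subtype.ext_iff]
    exact QuotientGroup.eq_one_iff (x : G)
  have hidx : R'.index = Nat.card (oddCore (G ⧸ R)) := by
    rw [← hfk, Subgroup.index_ker, MonoidHom.range_eq_top.2 hfs, card_top]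
  have hcop : Nat.Coprime (Nat.card R') R'.index := by
    rw [hR'c, hidx]; exact Nat.coprime_two_left.2 hodd
  obtain ⟨K, hK⟩ := exists_right_complement'_of_coprime hcop
  have hKodd : Odd (Nat.card K) := by
    have h1 := hK.card_mul
    have h2 := Subgroup.card_mul_index R'
    rw [← h2, hidx] at h1
    have h3 := Nat.eq_of_mul_eq_mul_left (by rw [hR'c]; norm_num) h1
    rw [h3]; exact hodd
  -- `K` is the set of elements of odd order
  have hmem : ∀ x : O', Odd (orderOf x) → x ∈ K := by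
    intro x hx
    obtain ⟨⟨⟨r, hr⟩, ⟨k, hk⟩⟩, hrk⟩ := hK.surjective x
    have hrk' : r * k = x := hrk
    have hcomm : Commute r k := Subtype.ext (hcen r hr k).symm
    have hrr : r * r = 1 := by
      have h2 : (⟨r, hr⟩ : R') ^ 2 = 1 := by rw [← hR'c]; exact pow_card_eq_one'
      rw [sq] at h2
      exact congrArg Subtype.val h2
    have h1 : k ^ Nat.card K = 1 := by
      have := pow_card_eq_one' (x := (⟨k, hk⟩ : K))
      exact congrArg Subtype.val this
    have h2 : x ^ (Nat.card K * orderOf x) = 1 := by rw [mul_comm, pow_mul, pow_orderOf_eq_one, one_pow]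
    have h3 : r ^ (Nat.card K * orderOf x) = 1 := by
      rw [← hrk'] at h2
      rw [hcomm.mul_pow, pow_mul k, h1, one_pow, mul_one] at h2
      rw [hrk'] at h2
      exact h2
    have h4 : r = 1 := by
      obtain ⟨m, hm⟩ := hKodd.mul hx
      rw [hm, pow_succ, pow_mul, sq, hrr, one_pow, one_mul] at h3
      exact h3
    rw [← hrk', h4, one_mul]; exact hk
  -- hence normal in `G`
  have hKn : (K.map O'.subtype).Normal := by
    constructor
    rintro _ ⟨k, hk, rfl⟩ g
    have h1 : g * (k : G) * g⁻¹ ∈ O' := hO'n.conj_mem _ k.2 g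
    refine ⟨⟨_, h1⟩, ?_, rfl⟩
    apply hmem
    have h2 : orderOf (⟨g * (k : G) * g⁻¹, h1⟩ : O') = orderOf k := by
      rw [Subgroup.orderOf_mk, ← Subgroup.orderOf_coe k]
      exact orderOf_injective (MulAut.conj g).toMonoidHom (MulAut.conj g).injective (k : G)
    rw [h2]
    have h3 : orderOf k ∣ Nat.card K := by
      rw [← Subgroup.orderOf_mk k hk]; exact orderOf_dvd_natCard _
    exact Odd.of_dvd_nat hKodd h3
  have hKle : K.map O'.subtype ≤ oddCore G := by
    apply Cfsg.Agent.Lib.Cores.le_pPrimeCore hKn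
    rw [card_map_of_injective O'.subtype_injective]
    exact Nat.coprime_two_right.mpr hKodd
  rw [hO, le_bot_iff, Subgroup.map_eq_bot_iff_of_injective _ O'.subtype_injective] at hKle
  have h1 := hK.card_mul
  have h2 := Subgroup.card_mul_index R'
  rw [← h2, hidx, hKle, card_bot] at h1
  have h3 := Nat.eq_of_mul_eq_mul_left (by rw [hR'c]; norm_num) h1
  exact card_eq_one.1 h3.symm

section

variable {G : Type*} [Group G] [Finite G] {z : G} {X : Subgroup G} (h : Setup z (Jz z) X)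
  {R : Subgroup G} [R.Normal] (hR : Nat.card R = 2) (hcen : ∀ x ∈ R, ∀ g : G, g * x = x * g) (hzR : z ∉ R)
  (hRJ : R ≤ Jz z)

include h hcen hRJ

theorem mem_Ce_mk {g : G} : QuotientGroup.mk' R g ∈ Ce (QuotientGroup.mk' R z) ↔ g ∈ Ce z := by
  constructor
  · intro hg
    rw [mem_Ce, ← map_mul, ← map_mul] at hg
    have h1 : (g * z) * (z * g)⁻¹ ∈ R := by
      have h2 : QuotientGroup.mk' R ((g * z) * (z * g)⁻¹) = 1 := by
        rw [map_mul, map_inv, hg, mul_inv_cancel]
      exact (QuotientGroup.eq_one_iff _).1 h2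
    have h2 : g * z * g⁻¹ = ((g * z) * (z * g)⁻¹) * z := by group
    have hJC : Jz z ≤ Ce z := h.J_le
    have hz1 : ∀ x ∈ Jz z, x * z = z * x := fun x hx => mem_Ce.1 (hJC hx)
    refine h.key_abelian (W := Jz z ⊓ centralizer (Jz z : Set G)) inf_le_left ?_ ?_ ?_
    · refine le_normalizer_inf h.J_norm ?_
      intro c hc
      rw [mem_normalizer_iff]
      have hcJ := mem_normalizer_iff.1 (h.J_norm hc)
      have key : ∀ c : G, (∀ x, x ∈ Jz z ↔ c * x * c⁻¹ ∈ Jz z) → ∀ x, x ∈ centralizer (Jz z : Set G) →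
          c * x * c⁻¹ ∈ centralizer (Jz z : Set G) := by
        intro c hc x hx
        rw [mem_centralizer_iff] at hx ⊢
        intro y hy
        have h3 : c⁻¹ * y * c ∈ Jz z := by
          rw [SetLike.mem_coe] at hy
          rw [hc]
          have : c * (c⁻¹ * y * c) * c⁻¹ = y := by group
          rwa [this]
        have h4 := hx _ h3
        calc y * (c * x * c⁻¹) = c * ((c⁻¹ * y * c) * x) * c⁻¹ := by group
          _ = c * (x * (c⁻¹ * y * c)) * c⁻¹ := by rw [h4]
          _ = c * x * c⁻¹ * y := by group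
      intro x
      refine ⟨key c hcJ x, fun hx => ?_⟩
      have hc' : ∀ x, x ∈ Jz z ↔ c⁻¹ * x * c⁻¹⁻¹ ∈ Jz z :=
        mem_normalizer_iff.1 (inv_mem (h.J_norm hc))
      have h3 := key c⁻¹ hc' _ hx
      have h4 : c⁻¹ * (c * x * c⁻¹) * c⁻¹⁻¹ = x := by group
      rwa [h4] at h3
    · rintro x ⟨hx, -⟩ y ⟨-, hy⟩
      exact mem_centralizer_iff.1 hy x hx
    · rw [h2]
      exact mul_mem (mem_inf.2 ⟨hRJ h1, mem_centralizer_iff.2 fun y _ => hcen _ h1 y⟩)
        (mem_inf.2 ⟨h.z_mem_J, mem_centralizer_iff.2 fun y hy => hz1 y hy⟩)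
  · intro hg
    rw [mem_Ce] at hg ⊢
    rw [← map_mul, ← map_mul, hg]

/-- the map `C(z) → C(zR)` -/
def pi : Ce z →* Ce (QuotientGroup.mk' R z) :=
  ((QuotientGroup.mk' R).comp (Ce z).subtype).codRestrict _ (fun x => (mem_Ce_mk h hcen hRJ).2 x.2)

theorem pi_surj : Function.Surjective (pi h hcen hRJ) := by
  rintro ⟨y, hy⟩
  obtain ⟨g, rfl⟩ := QuotientGroup.mk'_surjective R y
  exact ⟨⟨g, (mem_Ce_mk h hcen hRJ).1 hy⟩, rfl⟩

theorem pi_ker : (pi h hcen hRJ).ker = R.subgroupOf (Ce z) := by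
  ext x
  rw [MonoidHom.mem_ker, mem_subgroupOf, Subtype.ext_iff]
  exact QuotientGroup.eq_one_iff (x : G)

include hR

theorem card_ker : Nat.card (pi h hcen hRJ).ker = 2 := by
  rw [pi_ker, ← hR]
  exact Nat.card_congr (subgroupOfEquivOfLe (hRJ.trans h.J_le)).toEquiv

theorem comap_pCore : (pCore 2 (Ce (QuotientGroup.mk' R z))).comap (pi h hcen hRJ) = pCore 2 (Ce z) := by
  have : Fact (Nat.Prime 2) := ⟨Nat.prime_two⟩
  have hk : IsPGroup 2 (pi h hcen hRJ).ker := IsPGroup.of_card (n := 1) (by rw [card_ker h hR hcen hRJ, pow_one])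
  apply le_antisymm
  · apply Cfsg.Agent.Lib.Cores.le_pCore
    · exact (Cfsg.Agent.Lib.Cores.pCore_normal 2).comap _
    · exact (Cfsg.Agent.Lib.Cores.pCore_isPGroup 2).comap_of_ker_isPGroup _ hk
  · rw [← map_le_iff_le_comap]
    apply Cfsg.Agent.Lib.Cores.le_pCore
    · exact (Cfsg.Agent.Lib.Cores.pCore_normal 2).map _ (pi_surj h hcen hRJ)
    · exact (Cfsg.Agent.Lib.Cores.pCore_isPGroup 2).map _

theorem card_pCore : Nat.card (pCore 2 (Ce z)) = 2 * Nat.card (pCore 2 (Ce (QuotientGroup.mk' R z))) := by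
  have h1 : (pCore 2 (Ce z)).index = (pCore 2 (Ce (QuotientGroup.mk' R z))).index := by
    rw [← comap_pCore h hR hcen hRJ, index_comap_of_surjective _ (pi_surj h hcen hRJ)]
  have h2 : Nat.card (Ce z) = 2 * Nat.card (Ce (QuotientGroup.mk' R z)) := by
    have h3 := Subgroup.card_mul_index (pi h hcen hRJ).ker
    rw [Subgroup.index_ker, MonoidHom.range_eq_top.2 (pi_surj h hcen hRJ), card_top, card_ker h hR hcen hRJ] at h3
    exact h3.symm
  have h3 := Subgroup.card_mul_index (pCore 2 (Ce z))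
  have h4 := Subgroup.card_mul_index (pCore 2 (Ce (QuotientGroup.mk' R z)))
  rw [h2, ← h4, h1, ← mul_assoc] at h3
  exact Nat.eq_of_mul_eq_mul_right (Nat.pos_of_ne_zero index_ne_zero_of_finite) h3

theorem centralizer_le : centralizer (pCore 2 (Ce (QuotientGroup.mk' R z)) : Set (Ce (QuotientGroup.mk' R z))) ≤
    pCore 2 (Ce (QuotientGroup.mk' R z)) := by
  set π := pi h hcen hRJ with hπ
  set C' : Subgroup (Ce z) := (centralizer (pCore 2 (Ce (QuotientGroup.mk' R z)) :
    Set (Ce (QuotientGroup.mk' R z)))).comap π with hC'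
  have hpn : (pCore 2 (Ce (QuotientGroup.mk' R z))).Normal := Cfsg.Agent.Lib.Cores.pCore_normal 2
  have hC'n : C'.Normal := by
    rw [hC']
    exact Normal.comap inferInstance _
  have hcm := comap_pCore h hR hcen hRJ
  -- `[C', J] ≤ R`
  have hcomm : ∀ y ∈ C', ∀ j ∈ pCore 2 (Ce z), ((j * y * j⁻¹ * y⁻¹ : Ce z) : G) ∈ R := by
    intro y hy j hj
    have h1 : π j ∈ pCore 2 (Ce (QuotientGroup.mk' R z)) := by
      rw [← hcm] at hj; exact hj
    have h2 := mem_centralizer_iff.1 (hy : π y ∈ _) (π j) h1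
    have h3 : j * y * j⁻¹ * y⁻¹ ∈ π.ker := by
      rw [MonoidHom.mem_ker, map_mul, map_mul, map_mul, map_inv, map_inv, h2]; group
    rw [hπ, pi_ker, mem_subgroupOf] at h3
    exact h3
  have key : C'.map (Ce z).subtype ≤ Jz z := by
    have hn : Ce z ≤ normalizer ((C'.map (Ce z).subtype : Subgroup G) : Set G) := by
      intro c hc
      rw [mem_normalizer_iff]
      intro x
      constructor
      · rintro ⟨y, hy, rfl⟩
        exact ⟨⟨c, hc⟩ * y * ⟨c, hc⟩⁻¹, hC'n.conj_mem y hy _, rfl⟩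
      · rintro ⟨y, hy, hyx⟩
        refine ⟨⟨c, hc⟩⁻¹ * y * ⟨c, hc⟩, ?_, ?_⟩
        · have := hC'n.conj_mem y hy (⟨c, hc⟩⁻¹)
          rwa [inv_inv] at this
        · have h1 : (y : G) = c * x * c⁻¹ := hyx
          show c⁻¹ * (y : G) * c = x
          rw [h1]; group
    rcases h.dich (C'.map (Ce z).subtype) (map_subtype_le _) hn with h1 | h1
    · exact h1
    · exfalso
      apply h.X_not
      have h2 : X ≤ centralizer (Jz z : Set G) := by
        apply perfect_centralizes h.X_perfect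
        intro x hx a ha y hy
        obtain ⟨x', hx', rfl⟩ := h1 hx
        obtain ⟨a', ha', rfl⟩ := ha
        have h3 := hcomm x' hx' a' ha'
        have h4 : ⁅((Ce z).subtype a'), ((Ce z).subtype x')⁆ ∈ R := by
          rw [commutatorElement_def]; exact h3
        exact hcen _ h4 y
      intro x hx
      exact h.J_cent ⟨h.X_le hx, h2 hx⟩
  intro y hy
  obtain ⟨x, rfl⟩ := pi_surj h hcen hRJ y
  have h1 : x ∈ C' := hy
  have h2 : (x : G) ∈ Jz z := key ⟨x, h1, rfl⟩
  obtain ⟨h3, h4⟩ := mem_Jz.1 h2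
  have h5 : x ∈ pCore 2 (Ce z) := h4
  rw [← hcm] at h5
  exact h5

theorem exists_phi {Q : Type*} [Group Q] {φ : Ce z →* Q} (hφ : Function.Surjective φ)
    (hker : φ.ker = pCore 2 (Ce z)) :
    ∃ ψ : Ce (QuotientGroup.mk' R z) →* Q, Function.Surjective ψ ∧
      ψ.ker = pCore 2 (Ce (QuotientGroup.mk' R z)) := by
  have hle : (pi h hcen hRJ).ker ≤ φ.ker := by
    rw [hker, pi_ker]
    intro x hx
    obtain ⟨h3, h4⟩ := mem_Jz.1 (hRJ (mem_subgroupOf.1 hx))
    exact h4
  set ψ := MonoidHom.liftOfSurjective (pi h hcen hRJ) (pi_surj h hcen hRJ) ⟨φ, hle⟩ with hψ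
  have hψφ : ∀ x, ψ (pi h hcen hRJ x) = φ x := fun x =>
    MonoidHom.liftOfRightInverse_comp_apply _ _ _ ⟨φ, hle⟩ x
  refine ⟨ψ, ?_, ?_⟩
  · intro q
    obtain ⟨x, hx⟩ := hφ q
    exact ⟨_, (hψφ x).trans hx⟩
  · ext y
    obtain ⟨x, rfl⟩ := pi_surj h hcen hRJ y
    rw [MonoidHom.mem_ker, hψφ, ← MonoidHom.mem_ker, hker, ← comap_pCore h hR hcen hRJ, mem_comap]

omit hcen hRJ hR h in
theorem orderOf_mk (hz : orderOf z = 2) (hzR : z ∉ R) : orderOf (QuotientGroup.mk' R z) = 2 := by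
  have : Fact (Nat.Prime 2) := ⟨Nat.prime_two⟩
  apply orderOf_eq_prime
  · rw [← map_pow, ← hz, pow_orderOf_eq_one, map_one]
  · intro h1
    exact hzR ((QuotientGroup.eq_one_iff z).1 h1)

include hzR in
theorem extraspecial {A E : Subgroup (Ce z)} (hAE : IsInternalDirectProduct A E (pCore 2 (Ce z)))
    (hA : Nat.card A = 2) (hE : IsExtraspecial 2 E) {zc : Ce z} (hzc : (zc : G) = z)
    (hJ' : ⁅pCore 2 (Ce z), pCore 2 (Ce z)⁆ = zpowers zc) :
    IsExtraspecial 2 (pCore 2 (Ce (QuotientGroup.mk' R z))) := by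
  have hzo : orderOf zc = 2 := by rw [← Subgroup.orderOf_coe, hzc]; exact h.hz
  have hcm := comap_pCore h hR hcen hRJ
  set π := pi h hcen hRJ with hπ
  have hmem : ∀ x : E, π (x : Ce z) ∈ pCore 2 (Ce (QuotientGroup.mk' R z)) := by
    intro x
    have h1 := hAE.2.1 x.2
    rw [← hcm] at h1
    exact h1
  set f : E →* pCore 2 (Ce (QuotientGroup.mk' R z)) := (π.comp E.subtype).codRestrict _ hmem with hf
  have hinj : Function.Injective f := by
    rw [injective_iff_map_eq_one]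
    intro x hx
    have h1 : (x : Ce z) ∈ π.ker := congrArg Subtype.val hx
    rw [hπ, pi_ker, mem_subgroupOf] at h1
    have h2 : (x : Ce z) ∈ (center E).map E.subtype := by
      refine ⟨x, ?_, rfl⟩
      rw [SetLike.mem_coe, mem_center_iff]
      intro y
      exact Subtype.ext (Subtype.ext (hcen _ h1 _))
    rw [center_eq hAE hE hzo hJ', mem_zpowers_two hzo] at h2
    rcases h2 with h2 | h2
    · exact Subtype.ext h2
    · rw [h2, hzc] at h1; exact absurd h1 hzR
  have hcard : Nat.card E = Nat.card (pCore 2 (Ce (QuotientGroup.mk' R z))) := by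
    have h1 := card_prod hAE
    rw [hA, card_pCore h hR hcen hRJ] at h1
    exact (Nat.eq_of_mul_eq_mul_left two_pos h1).symm
  have hbij : Function.Bijective f := by
    rw [Nat.bijective_iff_injective_and_card]
    exact ⟨hinj, hcard⟩
  exact Cfsg.Agent.J2.ExtQuot.isExtraspecial_of_equiv (MulEquiv.ofBijective f hbij) hE

end

end Cfsg.Agent.H316.Quo
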