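import Cfsg.Agent.H316.RedBase
import Cfsg.Prelude.Def_CaseTheorems
import Cfsg.Agent.Lib.SylowNormalInf
import Cfsg.Agent.Lib.KleinGen
import Cfsg.Agent.Lib.InvolutionKernel

/-!
# Reduction for involutions with `O_2(C(z))` of extraspecial-like type: the cores (helper316)

* `oddCore_eq_bot` : `G = C(z) O(G)` or `O(G) = 1`;
* `twoCore` : if `z` is not central then `O_2(G)` has order at most 2 and is centralised by `C(z)`
  (so it is `1` or `⟨z₁⟩`, `z₁ ∈ Z(J)`, `z₁ ≠ z`).
-/

set_option autoImplicit false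

namespace Cfsg.Agent.H316.Red

open Subgroup
open scoped commutatorElement
open Cfsg.Agent.GH.C2GrowG (mem_normalizer_of conj_mem exists_mem_normalizer)

variable {G : Type*} [Group G]

namespace Setup

variable {z : G} {J X : Subgroup G} (h : Setup z J X)
include h

/-- a group normalised by `C(z)`, of odd order, inside `C(z)` is trivial -/
theorem inf_odd [Finite G] {O : Subgroup G} (hn : O.Normal) (hodd : Odd (Nat.card O)) : O ⊓ Ce z = ⊥ := by
  have hz : z ∉ O := by
    intro hz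
    have h1 : orderOf z ∣ Nat.card O := by
      rw [← Subgroup.orderOf_mk z hz]; exact orderOf_dvd_natCard _
    rw [h.hz] at h1
    exact (Nat.not_even_iff_odd.2 hodd) (even_iff_two_dvd.2 h1)
  have h1 := h.small (O ⊓ Ce z) inf_le_right
    (le_normalizer_inf (by rw [normalizer_eq_top_iff.2 hn]; exact le_top) le_normalizer)
    (fun hx => hz hx.1)
  have h2 : Nat.card (O ⊓ Ce z : Subgroup G) ∣ Nat.card O := card_dvd_of_le inf_le_left
  have h3 : Odd (Nat.card (O ⊓ Ce z : Subgroup G)) := Odd.of_dvd_nat hodd h2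
  apply card_eq_one.1
  rcases h3 with ⟨k, hk⟩
  omega

theorem inverts [Finite G] {O : Subgroup G} (hn : O.Normal) (hodd : Odd (Nat.card O)) {o : G} (ho : o ∈ O) :
    z * o * z⁻¹ = o⁻¹ := by
  obtain ⟨c, hc, k, hk, hzc, hzk, rfl⟩ := Cfsg.Agent.Lib.KleinGen.exists_centralizer_mul_inverted O hodd z
    h.zz (fun x hx => hn.conj_mem x hx z) ho
  have h1 : c ∈ O ⊓ Ce z := ⟨hc, mem_Ce.2 hzc.symm⟩
  rw [h.inf_odd hn hodd, mem_bot] at h1
  rw [h1, one_mul]; exact hzk

/-- `G = C(z) O(G)` or `O(G) = 1` -/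
theorem oddCore_eq_bot [Finite G] : Ce z ⊔ Cfsg.oddCore G = ⊤ ∨ Cfsg.oddCore G = ⊥ := by
  classical
  have : Fact (Nat.Prime 2) := ⟨Nat.prime_two⟩
  by_cases hO1 : Cfsg.oddCore G = ⊥
  · exact Or.inr hO1
  left
  set O : Subgroup G := Cfsg.oddCore G with hOdef
  have hOn : O.Normal := Cfsg.Agent.Lib.Cores.pPrimeCore_normal 2
  have hOodd : Odd (Nat.card O) :=
    Nat.coprime_two_right.mp (Cfsg.Agent.Lib.Cores.pPrimeCore_coprime (G := G) 2)
  have hinv : ∀ o ∈ O, z * o * z⁻¹ = o⁻¹ := fun o ho => h.inverts hOn hOodd ho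
  have hOle : ∀ N : Subgroup G, N.Normal → Odd (Nat.card N) → N ≤ O := fun N hN hodd =>
    Cfsg.Agent.Lib.Cores.le_pPrimeCore hN (Nat.coprime_two_right.mpr hodd)
  -- the centralizer `K` of `O`
  set K : Subgroup G := centralizer (O : Set G) with hKdef
  have hKn : K.Normal := by rw [hKdef]; infer_instance
  have hzK : z ∉ K := by
    intro hz
    apply hO1
    rw [eq_bot_iff]
    intro o ho
    have h1 : o * z = z * o := mem_centralizer_iff.1 hz o ho
    have h2 : z * o * z⁻¹ = o := by rw [← h1, mul_inv_cancel_right]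
    have h3 : o = o⁻¹ := h2.symm.trans (hinv o ho)
    have h4 : o * o = 1 := by nth_rewrite 2 [h3]; exact mul_inv_cancel o
    have h5 : orderOf o ∣ 2 := orderOf_dvd_of_pow_eq_one (by rw [pow_two]; exact h4)
    have h6 : orderOf o ∣ Nat.card O := by
      rw [← Subgroup.orderOf_mk o ho]; exact orderOf_dvd_natCard _
    have h7 : Odd (orderOf o) := Odd.of_dvd_nat hOodd h6
    rcases (Nat.dvd_prime Nat.prime_two).1 h5 with h8 | h8
    · exact mem_bot.2 (orderOf_eq_one_iff.1 h8)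
    · rw [h8] at h7; exact absurd h7 (by decide)
  -- a Sylow 2-subgroup containing `J`
  obtain ⟨Q, hQ⟩ := h.J_two.exists_le_sylow
  set P : Subgroup G := (Q : Subgroup G) ⊓ K with hPdef
  have hPtwo : IsPGroup 2 P := Q.isPGroup'.to_le inf_le_left
  have hKtop : normalizer (K : Set G) = ⊤ := normalizer_eq_top_iff.2 hKn
  have hJP : J ≤ normalizer (P : Set G) :=
    le_normalizer_inf (hQ.trans le_normalizer) (by rw [hKtop]; exact le_top)
  have hKC : Nat.card (K ⊓ Ce z : Subgroup G) ≤ 2 :=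
    h.small _ inf_le_right (le_normalizer_inf (by rw [hKtop]; exact le_top) le_normalizer)
      (fun hx => hzK hx.1)
  have hPC : Nat.card (P ⊓ Ce z : Subgroup G) ≤ 2 := by
    refine le_trans ?_ hKC
    exact Nat.le_of_dvd Nat.card_pos (card_dvd_of_le (inf_le_inf_right _ inf_le_right))
  have hPle : P ≤ Ce z := h.le_of_small hPtwo hJP hPC
  have hPK : P ≤ K ⊓ Ce z := le_inf inf_le_right hPle
  have hPcard : Nat.card P ≤ 2 := by
    rw [inf_eq_left.2 hPle] at hPC; exact hPC
  -- `C(z)` centralises `K ⊓ C(z)`, hence `P`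
  have hXP : ∀ x ∈ X, ∀ p ∈ P, x * p = p * x := fun x hx p hp =>
    commute_of_card_le_two hKC (fun y hy => ⟨hKn.conj_mem y hy.1 x,
      (Ce z).mul_mem ((Ce z).mul_mem (h.X_le hx) hy.2) ((Ce z).inv_mem (h.X_le hx))⟩) (hPK hp)
  -- `K z` is central in `G / K`
  have hcen : ∀ g : G, g * z * g⁻¹ * z⁻¹ ∈ K := by
    intro g
    rw [hKdef, mem_centralizer_iff]
    intro o ho
    have e1 : z⁻¹ * o * z⁻¹⁻¹ = o⁻¹ := by rw [h.z_inv]; exact hinv o ho
    have ho' : g⁻¹ * o⁻¹ * g ∈ O := by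
      have := hOn.conj_mem o⁻¹ (inv_mem ho) g⁻¹
      rwa [inv_inv] at this
    have e2 := hinv _ ho'
    have e3 : g * z * g⁻¹ * z⁻¹ * o * (g * z * g⁻¹ * z⁻¹)⁻¹ = o := by
      calc g * z * g⁻¹ * z⁻¹ * o * (g * z * g⁻¹ * z⁻¹)⁻¹
          = g * (z * (g⁻¹ * (z⁻¹ * o * z⁻¹⁻¹) * g) * z⁻¹) * g⁻¹ := by group
        _ = g * (z * (g⁻¹ * o⁻¹ * g) * z⁻¹) * g⁻¹ := by rw [e1]
        _ = g * (g⁻¹ * o⁻¹ * g)⁻¹ * g⁻¹ := by rw [e2]
        _ = o := by group
    exact (mul_inv_eq_iff_eq_mul.1 e3).symm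
  -- Frattini argument
  set N1 : Subgroup G := K ⊔ zpowers z with hN1
  have hmemN1 : ∀ x, x ∈ N1 ↔ x ∈ K ∨ x * z ∈ K := by
    intro x
    constructor
    · intro hx
      obtain ⟨k, hk, y, hy, rfl⟩ := mem_sup_of_normal_left.1 hx
      rcases (mem_zpowers_two h.hz).1 hy with rfl | rfl
      · left; rwa [mul_one]
      · right; rwa [mul_assoc, h.zz, mul_one]
    · rintro (hx | hx)
      · exact mem_sup_left hx
      · have : x = x * z * z := by rw [mul_assoc, h.zz, mul_one]
        rw [this]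
        exact mul_mem (mem_sup_left hx) (mem_sup_right (mem_zpowers z))
  have hN1n : N1.Normal := by
    refine ⟨fun x hx g => ?_⟩
    rw [hmemN1] at hx ⊢
    rcases hx with hx | hx
    · exact Or.inl (hKn.conj_mem x hx g)
    · right
      have e : g * x * g⁻¹ * z = g * (x * z) * g⁻¹ * (g * z * g⁻¹ * z⁻¹) := by
        rw [h.z_inv]
        calc g * x * g⁻¹ * z = g * x * (z * z) * g⁻¹ * z := by rw [h.zz, mul_one]
          _ = _ := by group
      rw [e]
      exact mul_mem (hKn.conj_mem _ hx g) (hcen g)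
  have hF := Cfsg.Agent.Lib.SylowNormalInf.normalizer_inf_sup_eq_top Q N1
  -- the normalizer of `D = Q ⊓ N1` is contained in `C(z)`
  have hzQ : z ∈ (Q : Subgroup G) := hQ h.z_mem_J
  have hmemD : ∀ x ∈ (Q : Subgroup G) ⊓ N1, x ∈ P ∨ x * z ∈ P := by
    rintro x ⟨hxQ, hxN⟩
    rcases (hmemN1 x).1 hxN with hx | hx
    · exact Or.inl ⟨hxQ, hx⟩
    · exact Or.inr ⟨mul_mem hxQ hzQ, hx⟩
  have hnorm : normalizer (((Q : Subgroup G) ⊓ N1 : Subgroup G) : Set G) ≤ Ce z := by
    intro g hg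
    apply h.key
    intro x hx
    rw [mem_Ce]
    have h1 : g * z * g⁻¹ ∈ (Q : Subgroup G) ⊓ N1 :=
      (mem_normalizer_iff.1 hg z).1 ⟨hzQ, mem_sup_right (mem_zpowers z)⟩
    rcases hmemD _ h1 with h2 | h2
    · exact hXP x hx _ h2
    · have e1 := hXP x hx _ h2
      have e2 : x * z = z * x := mem_Ce.1 (h.X_le hx)
      have e3 : g * z * g⁻¹ = (g * z * g⁻¹ * z) * z := by rw [mul_assoc (g * z * g⁻¹), h.zz, mul_one]
      rw [e3, ← mul_assoc, e1, mul_assoc, e2, ← mul_assoc]
  -- `K ≤ C(z) O`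
  have hKle : K ≤ Ce z ⊔ O := by
    have hcard : Nat.card P * (Q : Subgroup G).relIndex K = Nat.card K :=
      Cfsg.Agent.Lib.SylowNormalInf.card_inf_mul_relIndex (Q : Subgroup G) K
    have hnd : ¬ 2 ∣ (Q : Subgroup G).relIndex K :=
      Cfsg.Agent.Lib.SylowNormalInf.not_dvd_relIndex Q K
    have hpos : 0 < Nat.card P := Nat.card_pos
    have hP12 : Nat.card P = 1 ∨ Nat.card P = 2 := by omega
    rcases hP12 with hP1 | hP2
    · rw [hP1, one_mul] at hcard
      rw [hcard] at hnd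
      have : Odd (Nat.card K) := by
        rw [← Nat.not_even_iff_odd, even_iff_two_dvd]; exact hnd
      exact (hOle K hKn this).trans le_sup_right
    · -- an involution `p` of `P`
      have hPne : P ≠ ⊥ := by
        intro hb
        rw [hb, card_bot] at hP2
        omega
      obtain ⟨a0, ha0⟩ := (P.ne_bot_iff_exists_ne_one).1 hPne
      obtain ⟨p, hp, hp1⟩ : ∃ p : G, p ∈ P ∧ p ≠ 1 := ⟨a0.1, a0.2, fun h1 => ha0 (Subtype.ext h1)⟩
      have hpK : p ∈ K := hp.2
      have hpp : p * p = 1 := by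
        by_contra hne
        have := eq_of_card_le_two hPcard (mul_mem hp hp) hp hne hp1
        exact hp1 (mul_eq_left.1 this)
      have h4 : ¬ 4 ∣ Nat.card (centralizer ({(⟨p, hpK⟩ : K)} : Set K)) := by
        intro h4
        have h5 : 4 ∣ Nat.card K := h4.trans (card_subgroup_dvd_card _)
        rw [← hcard, hP2] at h5
        apply hnd
        omega
      obtain ⟨K0, hK0n, hK0odd, hK0i, hK0m⟩ := Cfsg.Agent.Lib.InvolutionKernel.exists_odd_index_two
        (X := K) (t := ⟨p, hpK⟩) (Subtype.ext hpp) (fun h1 => hp1 (congrArg Subtype.val h1)) h4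
      have hK0 : K0.map K.subtype ≤ O := by
        apply hOle
        · refine ⟨?_⟩
          rintro _ ⟨x, hx, rfl⟩ g
          refine ⟨⟨g * x * g⁻¹, hKn.conj_mem x x.2 g⟩, ?_, rfl⟩
          rw [SetLike.mem_coe, hK0m] at hx ⊢
          have : orderOf (⟨g * x * g⁻¹, hKn.conj_mem x x.2 g⟩ : K) = orderOf x := by
            rw [Subgroup.orderOf_mk, ← Subgroup.orderOf_coe x]
            exact (MulAut.conj g).orderOf_eq (x : G)
          rw [this]; exact hx
        · rw [card_map_of_injective K.subtype_injective]; exact hK0odd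
      intro k hk
      have htK0 : (⟨p, hpK⟩ : K) ∉ K0 := by
        rw [hK0m]
        have : orderOf (⟨p, hpK⟩ : K) = 2 :=
          orderOf_eq_prime (by rw [sq]; exact Subtype.ext hpp) (fun h1 => hp1 (congrArg Subtype.val h1))
        rw [this]; decide
      by_cases hk0 : (⟨k, hk⟩ : K) ∈ K0
      · exact mem_sup_right (hK0 ⟨_, hk0, rfl⟩)
      · have h6 : (⟨k, hk⟩ : K) * ⟨p, hpK⟩ ∈ K0 := by
          rw [mul_mem_iff_of_index_two hK0i]
          exact ⟨fun h => absurd h hk0, fun h => absurd h htK0⟩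
        have h7 : k * p ∈ O := hK0 ⟨_, h6, rfl⟩
        have h8 : k = k * p * p := by rw [mul_assoc, hpp, mul_one]
        rw [h8]
        exact mul_mem (mem_sup_right h7) (mem_sup_left (hPle hp))
  rw [eq_top_iff, ← hF]
  refine sup_le (hnorm.trans le_sup_left) (sup_le hKle ?_)
  rw [zpowers_le]
  exact mem_sup_left z_mem_Ce

/-- **The 2-core.** If `z` is not central, `O_2(G)` has order at most 2 and does not contain `z`. -/
theorem twoCore [Finite G] (hz : Ce z ≠ ⊤) :
    Nat.card (Cfsg.pCore 2 G) ≤ 2 ∧ z ∉ Cfsg.pCore 2 G := by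
  have : Fact (Nat.Prime 2) := ⟨Nat.prime_two⟩
  set R : Subgroup G := Cfsg.pCore 2 G with hRdef
  have hRn : R.Normal := Cfsg.Agent.Lib.Cores.pCore_normal 2
  have hRtop : normalizer (R : Set G) = ⊤ := normalizer_eq_top_iff.2 hRn
  have hRp : IsPGroup 2 R := Cfsg.Agent.Lib.Cores.pCore_isPGroup 2
  set N : Subgroup G := R ⊓ Ce z with hN
  have hHN : Ce z ≤ normalizer (N : Set G) := le_normalizer_inf (by rw [hRtop]; exact le_top) le_normalizer
  have hNp : IsPGroup 2 N := hRp.to_le inf_le_left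
  have hNJ : N ≤ J := h.J_max N inf_le_right hHN hNp
  -- whatever normalises `N` and lies in `C(z)`...
  have grow : normalizer (N : Set G) ≤ Ce z → False := by
    intro hle
    have hRN : R ≤ N := by
      by_contra hne
      obtain ⟨r, hrR, hrN, hrn⟩ := exists_mem_normalizer hRp hNp
        (inf_le_left.trans (le_normalizer : R ≤ normalizer (R : Set G))) hne
      exact hrN ⟨hrR, hle hrn⟩
    have e : N = R := le_antisymm inf_le_left hRN
    apply hz
    rw [eq_top_iff]
    have : normalizer (N : Set G) = ⊤ := by rw [e]; exact hRtop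
    rw [← this]; exact hle
  by_cases hzR : z ∈ R
  · exfalso
    have hzN : z ∈ N := ⟨hzR, z_mem_Ce⟩
    by_cases hab : ∀ x ∈ N, ∀ y ∈ N, x * y = y * x
    · -- `N` abelian
      have hXN : X ≤ centralizer (N : Set G) := h.act N hNJ hHN hab
      set C : Subgroup G := centralizer (N : Set G) with hC
      have hCH : C ≤ Ce z := by
        intro c hc
        exact mem_Ce.2 (mem_centralizer_iff.1 hc z hzN).symm
      have hNC : normalizer (N : Set G) ≤ normalizer (C : Set G) := by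
        rw [le_normalizer_iff]
        intro g hg c hc
        rw [hC, mem_centralizer_iff]
        intro n hn
        have h1 : g⁻¹ * n * g ∈ N := by
          have := (mem_normalizer_iff.1 (inv_mem hg) n).1 hn
          rwa [inv_inv] at this
        have h2 := mem_centralizer_iff.1 hc _ h1
        calc n * (g * c * g⁻¹) = g * ((g⁻¹ * n * g) * c) * g⁻¹ := by group
          _ = g * (c * (g⁻¹ * n * g)) * g⁻¹ := by rw [h2]
          _ = g * c * g⁻¹ * n := by group
      have hHC : Ce z ≤ normalizer (C : Set G) := hHN.trans hNC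
      have hD := h.pCore_eq hCH hHC
      have hDna : ¬ ∀ x ∈ C ⊓ J, ∀ y ∈ C ⊓ J, x * y = y * x := by
        intro hab'
        exact h.inf_not_abelian fun x hx y hy => hab' x ⟨hXN hx.1, hx.2⟩ y ⟨hXN hy.1, hy.2⟩
      apply grow
      intro g hg
      refine h.mem_Ce_of_normalizer inf_le_right hDna ?_
      rw [← hD]
      exact normalizer_le_normalizer_map _ (Cfsg.Agent.Lib.Cores.pCore_characteristic 2) (hNC hg)
    · apply grow
      intro g hg
      exact h.mem_Ce_of_normalizer hNJ hab hg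
  · have hc : Nat.card (R ⊓ Ce z : Subgroup G) ≤ 2 := h.small N inf_le_right hHN (fun hx => hzR hx.1)
    have hle := h.le_of_small hRp (by rw [hRtop]; exact le_top) hc
    rw [inf_eq_left.2 hle] at hc
    exact ⟨hc, hzR⟩

omit h in
/-- `M ≤ O(G) (Q ∩ M)` when `Q ∩ M` has order at most 2, `Q` a Sylow 2-subgroup -/
theorem le_oddCore_sup [Finite G] (Q : Sylow 2 G) (M : Subgroup G) (hM : M.Normal)
    (hc : Nat.card ((Q : Subgroup G) ⊓ M : Subgroup G) ≤ 2) :
    M ≤ Cfsg.oddCore G ⊔ ((Q : Subgroup G) ⊓ M) := by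
  classical
  have : Fact (Nat.Prime 2) := ⟨Nat.prime_two⟩
  set P : Subgroup G := (Q : Subgroup G) ⊓ M with hPdef
  have hOle : ∀ N : Subgroup G, N.Normal → Odd (Nat.card N) → N ≤ Cfsg.oddCore G := fun N hN hodd =>
    Cfsg.Agent.Lib.Cores.le_pPrimeCore hN (Nat.coprime_two_right.mpr hodd)
  have hcard : Nat.card P * (Q : Subgroup G).relIndex M = Nat.card M :=
    Cfsg.Agent.Lib.SylowNormalInf.card_inf_mul_relIndex (Q : Subgroup G) M
  have hnd : ¬ 2 ∣ (Q : Subgroup G).relIndex M :=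
    Cfsg.Agent.Lib.SylowNormalInf.not_dvd_relIndex Q M
  have hpos : 0 < Nat.card P := Nat.card_pos
  have hP12 : Nat.card P = 1 ∨ Nat.card P = 2 := by omega
  rcases hP12 with hP1 | hP2
  · rw [hP1, one_mul] at hcard
    rw [hcard] at hnd
    have : Odd (Nat.card M) := by
      rw [← Nat.not_even_iff_odd, even_iff_two_dvd]; exact hnd
    exact (hOle M hM this).trans le_sup_left
  · -- an involution `p` of `P`
    have hPne : P ≠ ⊥ := by
      intro hb
      rw [hb, card_bot] at hP2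
      omega
    obtain ⟨a0, ha0⟩ := (P.ne_bot_iff_exists_ne_one).1 hPne
    obtain ⟨p, hp, hp1⟩ : ∃ p : G, p ∈ P ∧ p ≠ 1 := ⟨a0.1, a0.2, fun h1 => ha0 (Subtype.ext h1)⟩
    have hpK : p ∈ M := hp.2
    have hpp : p * p = 1 := by
      by_contra hne
      have := eq_of_card_le_two hc (mul_mem hp hp) hp hne hp1
      exact hp1 (mul_eq_left.1 this)
    have h4 : ¬ 4 ∣ Nat.card (centralizer ({(⟨p, hpK⟩ : M)} : Set M)) := by
      intro h4
      have h5 : 4 ∣ Nat.card M := h4.trans (card_subgroup_dvd_card _)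
      rw [← hcard, hP2] at h5
      apply hnd
      omega
    obtain ⟨K0, hK0n, hK0odd, hK0i, hK0m⟩ := Cfsg.Agent.Lib.InvolutionKernel.exists_odd_index_two
      (X := M) (t := ⟨p, hpK⟩) (Subtype.ext hpp) (fun h1 => hp1 (congrArg Subtype.val h1)) h4
    have hK0 : K0.map M.subtype ≤ Cfsg.oddCore G := by
      apply hOle
      · refine ⟨?_⟩
        rintro _ ⟨x, hx, rfl⟩ g
        refine ⟨⟨g * x * g⁻¹, hM.conj_mem x x.2 g⟩, ?_, rfl⟩
        rw [SetLike.mem_coe, hK0m] at hx ⊢
        have : orderOf (⟨g * x * g⁻¹, hM.conj_mem x x.2 g⟩ : M) = orderOf x := by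
          rw [Subgroup.orderOf_mk, ← Subgroup.orderOf_coe x]
          exact (MulAut.conj g).orderOf_eq (x : G)
        rw [this]; exact hx
      · rw [card_map_of_injective M.subtype_injective]; exact hK0odd
    intro k hk
    have htK0 : (⟨p, hpK⟩ : M) ∉ K0 := by
      rw [hK0m]
      have : orderOf (⟨p, hpK⟩ : M) = 2 :=
        orderOf_eq_prime (by rw [sq]; exact Subtype.ext hpp) (fun h1 => hp1 (congrArg Subtype.val h1))
      rw [this]; decide
    by_cases hk0 : (⟨k, hk⟩ : M) ∈ K0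
    · exact mem_sup_left (hK0 ⟨_, hk0, rfl⟩)
    · have h6 : (⟨k, hk⟩ : M) * ⟨p, hpK⟩ ∈ K0 := by
        rw [mul_mem_iff_of_index_two hK0i]
        exact ⟨fun h => absurd h hk0, fun h => absurd h htK0⟩
      have h7 : k * p ∈ Cfsg.oddCore G := hK0 ⟨_, h6, rfl⟩
      have h8 : k = k * p * p := by rw [mul_assoc, hpp, mul_one]
      rw [h8]
      exact mul_mem (mem_sup_left h7) (mem_sup_right hp)

/-- every nontrivial normal subgroup contains `z` if `O(G) = 1 = O_2(G)` -/
theorem z_mem_of_normal [Finite G] (hO : Cfsg.oddCore G = ⊥) (h2 : Cfsg.pCore 2 G = ⊥) {M : Subgroup G}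
    (hM : M.Normal) (hne : M ≠ ⊥) : z ∈ M := by
  by_contra hzM
  have : Fact (Nat.Prime 2) := ⟨Nat.prime_two⟩
  obtain ⟨Q, hQ⟩ := h.J_two.exists_le_sylow
  have hMtop : normalizer (M : Set G) = ⊤ := normalizer_eq_top_iff.2 hM
  have hMC : Nat.card (M ⊓ Ce z : Subgroup G) ≤ 2 :=
    h.small _ inf_le_right (le_normalizer_inf (by rw [hMtop]; exact le_top) le_normalizer)
      (fun hx => hzM hx.1)
  have hPC : Nat.card ((Q : Subgroup G) ⊓ M ⊓ Ce z : Subgroup G) ≤ 2 := by
    refine le_trans ?_ hMC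
    exact Nat.le_of_dvd Nat.card_pos (card_dvd_of_le (inf_le_inf_right _ inf_le_right))
  have hPle := h.le_of_small (P := (Q : Subgroup G) ⊓ M) (Q.isPGroup'.to_le inf_le_left)
    (le_normalizer_inf (hQ.trans le_normalizer) (by rw [hMtop]; exact le_top)) hPC
  rw [inf_eq_left.2 hPle] at hPC
  have h3 := le_oddCore_sup Q M hM hPC
  rw [hO, bot_sup_eq] at h3
  have h4 : IsPGroup 2 M := Q.isPGroup'.to_le (h3.trans inf_le_left)
  have h5 := Cfsg.Agent.Lib.Cores.le_pCore hM h4
  rw [h2, le_bot_iff] at h5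
  exact hne h5

end Setup

end Cfsg.Agent.H316.Red
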