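import Cfsg.Agent.H316.RedBase
import Cfsg.Agent.S0144

/-!
# Perfect groups acting on small sections (helper316)

* `perfect_quot` : a perfect subgroup normalising `A ≤ B` with `|B : A| ≤ 4` acts trivially on `B / A`;
* `Setup.centralizes_of_relIndex` : `X` centralises a normal subgroup `T ≤ J` of `C(z)` with an abelian subgroup
  `C_T(a)` (`a ∈ T`).
-/

set_option autoImplicit false

namespace Cfsg.Agent.H316.Red

open Subgroup
open scoped commutatorElement

variable {G : Type*} [Group G]

/-- A homomorphism of a perfect group to a solvable group is trivial. -/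
theorem hom_eq_one {P H : Type*} [Group P] [Group H] (hG : commutator P = ⊤) (hH : Group.IsSolvable H)
    (f : P →* H) (g : P) : f g = 1 := by
  obtain ⟨m, hm⟩ := hH.solvable
  have h1 : ∀ j : ℕ, derivedSeries P j = ⊤ := by
    intro j
    induction j with
    | zero => rfl
    | succ j ih =>
      show ⁅derivedSeries P j, derivedSeries P j⁆ = ⊤
      rw [ih]
      exact hG
  have h2 : (derivedSeries P m).map f ≤ derivedSeries H m := map_derivedSeries_le_derivedSeries f m
  rw [h1 m, hm] at h2
  have h3 : f g ∈ (⊥ : Subgroup H) := h2 (Subgroup.mem_map_of_mem f (Subgroup.mem_top g))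
  exact Subgroup.mem_bot.1 h3

theorem commutator_eq_top {X : Subgroup G} (hX : ⁅X, X⁆ = X) : _root_.commutator X = ⊤ := by
  apply Subgroup.map_injective X.subtype_injective
  rw [commutator_def, Subgroup.map_commutator, ← MonoidHom.range_eq_map, Subgroup.range_subtype, hX]

theorem solvable_perm_of_le {β : Type*} [Fintype β] [DecidableEq β] (h : Fintype.card β ≤ 4) :
    Group.IsSolvable (Equiv.Perm β) := by
  have h1 : Nat.card (Equiv.Perm β) = (Fintype.card β).factorial := by
    rw [Nat.card_perm, Nat.card_eq_fintype_card]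
  have h2 : ∃ a b : ℕ, Nat.card (Equiv.Perm β) = 2 ^ a * 3 ^ b := by
    rw [h1]
    set m := Fintype.card β
    interval_cases m
    · exact ⟨0, 0, rfl⟩
    · exact ⟨0, 0, rfl⟩
    · exact ⟨1, 0, rfl⟩
    · exact ⟨1, 1, rfl⟩
    · exact ⟨3, 1, rfl⟩
  obtain ⟨a, b, hab⟩ := h2
  exact Cfsg.Agent.S0144.result 2 3 a b Nat.prime_two Nat.prime_three hab

/-- conjugation action of `X` on `B / A` -/
@[reducible] def quotAction {X A B : Subgroup G} (hXA : X ≤ normalizer (A : Set G))
    (hXB : X ≤ normalizer (B : Set G)) : MulAction X (B ⧸ A.subgroupOf B) where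
  smul x := Quotient.map' (fun b => ⟨x * b * x⁻¹, (mem_normalizer_iff.1 (hXB x.2) b).1 b.2⟩) (by
    intro a b hab
    rw [QuotientGroup.leftRel_apply] at hab ⊢
    rw [mem_subgroupOf] at hab ⊢
    have h1 := (mem_normalizer_iff.1 (hXA x.2) _).1 hab
    have h2 : (x : G) * ((a⁻¹ * b : B) : G) * (x : G)⁻¹ =
        (x * (a : G) * (x : G)⁻¹)⁻¹ * (x * (b : G) * (x : G)⁻¹) := by
      simp only [coe_mul, coe_inv]; group
    rw [h2] at h1
    exact h1)
  one_smul := by
    rintro ⟨b⟩
    show Quotient.mk'' _ = Quotient.mk'' _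
    congr 1
    apply Subtype.ext
    show ((1 : X) : G) * (b : G) * ((1 : X) : G)⁻¹ = b
    simp
  mul_smul := by
    rintro x y ⟨b⟩
    show Quotient.mk'' _ = Quotient.mk'' _
    congr 1
    apply Subtype.ext
    show ((x * y : X) : G) * (b : G) * ((x * y : X) : G)⁻¹ = x * (y * b * (y : G)⁻¹) * (x : G)⁻¹
    simp only [coe_mul]; group

/-- a perfect subgroup acts trivially on sections with at most four elements -/
theorem perfect_quot [Finite G] {X A B : Subgroup G} (hX : ⁅X, X⁆ = X)
    (hXA : X ≤ normalizer (A : Set G)) (hXB : X ≤ normalizer (B : Set G)) (hc : A.relIndex B ≤ 4)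
    {x : G} (hx : x ∈ X) {b : G} (hb : b ∈ B) : b⁻¹ * (x * b * x⁻¹) ∈ A := by
  classical
  let _ := quotAction hXA hXB
  let _ : Fintype (B ⧸ A.subgroupOf B) := Fintype.ofFinite _
  have h4 : Fintype.card (B ⧸ A.subgroupOf B) ≤ 4 := by
    rw [← Nat.card_eq_fintype_card]; exact hc
  have hs := solvable_perm_of_le h4
  have h1 := hom_eq_one (commutator_eq_top hX) hs (MulAction.toPermHom X (B ⧸ A.subgroupOf B)) ⟨x, hx⟩
  have h2 : (⟨x, hx⟩ : X) • (QuotientGroup.mk ⟨b, hb⟩ : B ⧸ A.subgroupOf B) = QuotientGroup.mk ⟨b, hb⟩ :=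
    congrArg (fun σ : Equiv.Perm (B ⧸ A.subgroupOf B) => σ (QuotientGroup.mk ⟨b, hb⟩)) h1
  have h3 : (QuotientGroup.mk (⟨x * b * x⁻¹, (mem_normalizer_iff.1 (hXB hx) b).1 hb⟩ : B) : B ⧸ A.subgroupOf B)
      = QuotientGroup.mk ⟨b, hb⟩ := h2
  have h5 := QuotientGroup.eq.1 h3.symm
  rw [mem_subgroupOf] at h5
  exact h5

/-- the same for commutators -/
theorem perfect_quot' [Finite G] {X A B : Subgroup G} (hX : ⁅X, X⁆ = X)
    (hXA : X ≤ normalizer (A : Set G)) (hXB : X ≤ normalizer (B : Set G)) (hc : A.relIndex B ≤ 4)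
    {x : G} (hx : x ∈ X) {b : G} (hb : b ∈ B) : ⁅b, x⁆ ∈ A := by
  have h1 := perfect_quot hX hXA hXB hc hx (B.inv_mem hb)
  rw [inv_inv] at h1
  have h2 : ⁅b, x⁆ = b * (x * b⁻¹ * x⁻¹) := by rw [commutatorElement_def]; group
  rw [h2]; exact h1

namespace Setup

variable {z : G} {J X : Subgroup G} (h : Setup z J X)
include h

/-- for `a ∈ J`, `|T : C_T(a)| ≤ 2` for `T ≤ J` -/
theorem relIndex_centralizer_le [Finite G] {T : Subgroup G} (hT : T ≤ J) {a : G} (ha : a ∈ J) :
    (centralizer ({a} : Set G)).relIndex T ≤ 2 := by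
  by_cases h1 : T ≤ centralizer ({a} : Set G)
  · rw [relIndex_eq_one.2 h1]; omega
  · obtain ⟨t, ht, hta⟩ := SetLike.not_le_iff_exists.1 h1
    have hcm : ∀ s ∈ T, ⁅s, a⁆ = 1 ∨ ⁅s, a⁆ = z := by
      intro s hs
      rw [← mem_zpowers_two h.hz, ← h.J_comm]
      exact commutator_mem_commutator (hT hs) ha
    have hz2 : ∀ s ∈ T, s * z = z * s := fun s hs => mem_Ce.1 (h.J_le (hT hs))
    have h2 : (centralizer ({a} : Set G)).relIndex T = 2 := by
      rw [relIndex_eq_two_iff]
      have hmc : ∀ s : G, s ∈ centralizer ({a} : Set G) ↔ ⁅s, a⁆ = 1 := by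
        intro s
        rw [mem_centralizer_singleton_iff, commutatorElement_eq_one_iff_mul_comm]
      refine ⟨t, ht, fun b hb => ?_⟩
      rw [hmc, hmc]
      have hta' : ⁅t, a⁆ = z := by
        rcases hcm t ht with h3 | h3
        · exact absurd ((hmc t).2 h3) hta
        · exact h3
      have e1 : ⁅b * t, a⁆ = ⁅b, a⁆ * z := by
        have e2 : ⁅b * t, a⁆ = b * ⁅t, a⁆ * b⁻¹ * ⁅b, a⁆ := by
          simp only [commutatorElement_def]; group
        rw [e2, hta', hz2 b hb, mul_inv_cancel_right]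
        rcases hcm b hb with h3 | h3 <;> rw [h3]
        · rw [mul_one, one_mul]
      rw [e1]
      rcases hcm b hb with h3 | h3
      · rw [h3, one_mul]
        right
        exact ⟨rfl, h.z_ne⟩
      · rw [h3, h.zz]
        left
        exact ⟨rfl, h.z_ne⟩
    omega

/-- If `T ≤ J` is normal in `C(z)` and `C_T(a)` is abelian for some `a ∈ T`, then `X` centralises `T`. -/
theorem centralizes_of_abelian [Finite G] {T : Subgroup G} (hT : T ≤ J) (hn : Ce z ≤ normalizer (T : Set G))
    {a : G} (ha : a ∈ T) (hab : ∀ x ∈ T ⊓ centralizer ({a} : Set G), ∀ y ∈ T ⊓ centralizer ({a} : Set G),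
      x * y = y * x) : X ≤ centralizer (T : Set G) := by
  set Z : Subgroup G := T ⊓ centralizer (T : Set G) with hZ
  have hZn : Ce z ≤ normalizer (Z : Set G) := by
    refine le_normalizer_inf hn ?_
    rw [le_normalizer_iff]
    intro g hg c hc
    rw [mem_centralizer_iff]
    intro n hn'
    have h1 : g⁻¹ * n * g ∈ T := by
      have := (mem_normalizer_iff.1 (hn (inv_mem hg)) n).1 hn'
      rwa [inv_inv] at this
    have h2 := mem_centralizer_iff.1 hc _ h1
    calc n * (g * c * g⁻¹) = g * ((g⁻¹ * n * g) * c) * g⁻¹ := by group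
      _ = g * (c * (g⁻¹ * n * g)) * g⁻¹ := by rw [h2]
      _ = g * c * g⁻¹ * n := by group
  have hXZ : X ≤ centralizer (Z : Set G) :=
    h.act Z (inf_le_left.trans hT) hZn (fun x hx y hy => (mem_centralizer_iff.1 hx.2 y hy.1).symm)
  have hc : Z.relIndex T ≤ 4 := by
    by_cases h1 : T ≤ centralizer ({a} : Set G)
    · have : T ≤ Z := by
        refine le_inf le_rfl fun x hx => mem_centralizer_iff.2 fun y hy => ?_
        exact hab y ⟨hy, h1 hy⟩ x ⟨hx, h1 hx⟩
      rw [relIndex_eq_one.2 this]; omega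
    · obtain ⟨t, ht, hta⟩ := SetLike.not_le_iff_exists.1 h1
      have h2 := h.relIndex_centralizer_le hT (hT ha)
      have h3 := h.relIndex_centralizer_le hT (hT ht)
      have h5 : (centralizer ({a} : Set G)).relIndex T = 2 := by
        have h6 : (centralizer ({a} : Set G)).relIndex T ≠ 1 := fun h6 => h1 (relIndex_eq_one.1 h6)
        have h7 : (centralizer ({a} : Set G)).relIndex T ≠ 0 := index_ne_zero_of_finite
        omega
      have h4 : (centralizer ({a} : Set G) ⊓ centralizer ({t} : Set G)) ⊓ T ≤ Z := by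
        rintro x ⟨⟨hxa, hxt⟩, hxT⟩
        refine ⟨hxT, mem_centralizer_iff.2 fun y hy => ?_⟩
        by_cases hya : y ∈ centralizer ({a} : Set G)
        · exact hab y ⟨hy, hya⟩ x ⟨hxT, hxa⟩
        · -- `y ∈ t C_T(a)`
          obtain ⟨s, hs, hxor⟩ := relIndex_eq_two_iff.1 h5
          have hy' : y * t⁻¹ ∈ centralizer ({a} : Set G) := by
            have e1 : y * s ∈ centralizer ({a} : Set G) := by
              rcases hxor y hy with h6 | h6
              · exact h6.1
              · exact absurd h6.1 hya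
            have e2 : t * s ∈ centralizer ({a} : Set G) := by
              rcases hxor t ht with h6 | h6
              · exact h6.1
              · exact absurd h6.1 hta
            have e3 := (centralizer ({a} : Set G)).mul_mem e1 ((centralizer ({a} : Set G)).inv_mem e2)
            have e4 : y * s * (t * s)⁻¹ = y * t⁻¹ := by group
            rwa [e4] at e3
          have h6 : y * t⁻¹ ∈ T := T.mul_mem hy (T.inv_mem ht)
          have h7 := hab (y * t⁻¹) ⟨h6, hy'⟩ x ⟨hxT, hxa⟩
          have h8 : x * t = t * x := mem_centralizer_singleton_iff.1 hxt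
          calc y * x = y * t⁻¹ * (t * x) := by group
            _ = y * t⁻¹ * x * t := by rw [← h8, mul_assoc, mul_assoc, mul_assoc]
            _ = x * (y * t⁻¹) * t := by rw [h7]
            _ = x * y := by group
      calc Z.relIndex T ≤ ((centralizer ({a} : Set G) ⊓ centralizer ({t} : Set G)) ⊓ T).relIndex T :=
            Nat.le_of_dvd (Nat.pos_of_ne_zero index_ne_zero_of_finite) (relIndex_dvd_of_le_left T h4)
        _ = (centralizer ({a} : Set G) ⊓ centralizer ({t} : Set G)).relIndex T := inf_relIndex_right _ _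
        _ ≤ (centralizer ({a} : Set G)).relIndex T * (centralizer ({t} : Set G)).relIndex T := relIndex_inf_le
        _ ≤ 4 := by nlinarith
  apply perfect_centralizes h.X_perfect
  intro x hx b hb y hy
  have h5 : ⁅b, x⁆ ∈ Z := perfect_quot' h.X_perfect (h.X_le.trans hZn) (h.X_le.trans hn) hc hx hb
  exact (mem_centralizer_iff.1 (hXZ hy) _ h5).symm

end Setup

end Cfsg.Agent.H316.Red
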