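import Cfsg.Agent.H316.RedCore
import Cfsg.Agent.H316.RedPerf
import Cfsg.Agent.S0215

/-!
# The residual `X` lies in every normal subgroup containing `z` (helper316)

* `Setup.exists_fused` : Glauberman's theorem: `z` has a conjugate `≠ z` in every Sylow 2-subgroup containing it
  (`O(G) = 1`, `z` not central);
* `Setup.X_le_of_normal` : `X ≤ M` for every normal subgroup `M` of `G` containing `z`;
* `Setup.sylow_le` : `C(z)` contains a Sylow 2-subgroup of `G`;
* `Setup.sup_eq_top` : `G = C(z) M` for every normal subgroup `M` containing `z`.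
-/

set_option autoImplicit false

namespace Cfsg.Agent.H316.Red

open Subgroup
open scoped commutatorElement
open Cfsg.Agent.GH.C2GrowG (mem_normalizer_of conj_mem exists_mem_normalizer)

variable {G : Type*} [Group G]

namespace Setup

variable {z : G} {J X : Subgroup G} (h : Setup z J X)
include h

theorem exists_fused [Finite G] (hO : Cfsg.oddCore G = ⊥) (hz : Ce z ≠ ⊤) (Q : Sylow 2 G)
    (hQ : z ∈ (Q : Subgroup G)) : ∃ g : G, g * z * g⁻¹ ∈ (Q : Subgroup G) ∧ g * z * g⁻¹ ≠ z := by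
  by_contra hcon
  push Not at hcon
  obtain ⟨N, hN, hodd, hcom⟩ := Cfsg.Agent.S0215.result Q z h.hz hQ hcon
  have h1 : N ≤ Cfsg.oddCore G := Cfsg.Agent.Lib.Cores.le_pPrimeCore hN (Nat.coprime_two_right.mpr hodd)
  rw [hO, le_bot_iff] at h1
  apply hz
  rw [eq_top_iff]
  intro g _
  have h2 := hcom g
  rw [h1, mem_bot] at h2
  rw [mem_Ce]
  have h3 : z * g * z⁻¹ = g := by
    have : z * g * z⁻¹ * g⁻¹ * g = 1 * g := by rw [h2]
    simpa using this
  exact (mul_inv_eq_iff_eq_mul.1 h3).symm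

/-- **`X` lies in every normal subgroup containing `z`.** -/
theorem X_le_of_normal [Finite G] (hO : Cfsg.oddCore G = ⊥) (hz : Ce z ≠ ⊤) {M : Subgroup G} (hM : M.Normal)
    (hzM : z ∈ M) : X ≤ M := by
  have : Fact (Nat.Prime 2) := ⟨Nat.prime_two⟩
  have hMtop : normalizer (M : Set G) = ⊤ := normalizer_eq_top_iff.2 hM
  set T : Subgroup G := M ⊓ Ce z with hTdef
  have hTn : Ce z ≤ normalizer (T : Set G) := le_normalizer_inf (by rw [hMtop]; exact le_top) le_normalizer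
  rcases h.dich T inf_le_right hTn with hTJ | hXT
  swap
  · exact hXT.trans inf_le_left
  exfalso
  obtain ⟨Q, hQ⟩ := h.J_two.exists_le_sylow
  set P : Subgroup G := (Q : Subgroup G) ⊓ M with hPdef
  have hP2 : IsPGroup 2 P := Q.isPGroup'.to_le inf_le_left
  have hT2 : IsPGroup 2 T := h.J_two.to_le hTJ
  have hTP : T ≤ P := le_inf (hTJ.trans hQ) inf_le_left
  have hTnP : T ≤ normalizer (P : Set G) := hTP.trans le_normalizer
  obtain ⟨g, hgQ, hgz⟩ := h.exists_fused hO hz Q (hQ h.z_mem_J)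
  have hgM : g * z * g⁻¹ ∈ M := hM.conj_mem z hzM g
  have hgP : g * z * g⁻¹ ∈ P := ⟨hgQ, hgM⟩
  by_cases hab : ∀ x ∈ T, ∀ y ∈ T, x * y = y * x
  · by_cases hPT : P ≤ T
    · exact hgz (mem_Ce'.1 (h.key_abelian hTJ hTn hab (hPT hgP)))
    · obtain ⟨r, hrP, hrT, hrn⟩ := exists_mem_normalizer hP2 hT2 hTnP hPT
      have h1 : r * z * r⁻¹ ∈ T := (mem_normalizer_iff.1 hrn z).1 ⟨hzM, z_mem_Ce⟩
      exact hrT ⟨hrP.2, h.key_abelian hTJ hTn hab h1⟩
  · have hPT : P ≤ T := by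
      by_contra hPT
      obtain ⟨r, hrP, hrT, hrn⟩ := exists_mem_normalizer hP2 hT2 hTnP hPT
      exact hrT ⟨hrP.2, h.mem_Ce_of_normalizer hTJ hab hrn⟩
    have hgT : g * z * g⁻¹ ∈ T := hPT hgP
    by_cases hD : ∀ x ∈ T ⊓ centralizer ({g * z * g⁻¹} : Set G),
        ∀ y ∈ T ⊓ centralizer ({g * z * g⁻¹} : Set G), x * y = y * x
    · have h1 := h.centralizes_of_abelian hTJ hTn hgT hD
      have h2 : X ≤ Ce (g * z * g⁻¹) := by
        intro x hx
        exact mem_Ce.2 (mem_centralizer_iff.1 (h1 hx) _ hgT).symm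
      exact hgz (mem_Ce'.1 (h.key h2))
    · push Not at hD
      obtain ⟨x, hx, y, hy, hxy⟩ := hD
      have hc : ∀ d ∈ T ⊓ centralizer ({g * z * g⁻¹} : Set G), g⁻¹ * d * g ∈ J := by
        intro d hd
        apply hTJ
        refine mem_inf.2 ⟨?_, ?_⟩
        · have := hM.conj_mem d hd.1.1 g⁻¹
          rwa [inv_inv] at this
        · rw [mem_Ce]
          have h3 : d * (g * z * g⁻¹) = (g * z * g⁻¹) * d := mem_centralizer_singleton_iff.1 hd.2
          calc g⁻¹ * d * g * z = g⁻¹ * (d * (g * z * g⁻¹)) * g := by group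
            _ = g⁻¹ * ((g * z * g⁻¹) * d) * g := by rw [h3]
            _ = z * (g⁻¹ * d * g) := by group
      have h4 : ⁅x, y⁆ ∈ zpowers z := by
        rw [← h.J_comm]; exact commutator_mem_commutator (hTJ hx.1) (hTJ hy.1)
      have h5 : ⁅x, y⁆ = z := by
        rcases (mem_zpowers_two h.hz).1 h4 with h6 | h6
        · exact absurd (commutatorElement_eq_one_iff_mul_comm.1 h6) hxy
        · exact h6
      have h7 : ⁅g⁻¹ * x * g, g⁻¹ * y * g⁆ ∈ zpowers z := by
        rw [← h.J_comm]; exact commutator_mem_commutator (hc x hx) (hc y hy)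
      have h8 : ⁅g⁻¹ * x * g, g⁻¹ * y * g⁆ = g⁻¹ * z * g := by
        rw [← h5, commutatorElement_def, commutatorElement_def]; group
      rw [h8] at h7
      rcases (mem_zpowers_two h.hz).1 h7 with h9 | h9
      · apply h.z_ne
        have : z = g * (g⁻¹ * z * g) * g⁻¹ := by group
        rw [this, h9]; group
      · apply hgz
        calc g * z * g⁻¹ = g * (g⁻¹ * z * g) * g⁻¹ := by rw [h9]
          _ = z := by group

/-- `Z(J) ∩ C(z)`: conjugates of `z` centralising `J` are trivial conjugates -/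
theorem mem_Ce_of_centralizer_J [Finite G] {g : G} (h1 : g * z * g⁻¹ ∈ Ce z)
    (h2 : g * z * g⁻¹ ∈ centralizer (J : Set G)) : g ∈ Ce z := by
  have h3 : g * z * g⁻¹ ∈ J ⊓ centralizer (J : Set G) := ⟨h.J_cent ⟨h1, h2⟩, h2⟩
  refine h.key_abelian (W := J ⊓ centralizer (J : Set G)) inf_le_left ?_ ?_ h3
  · refine le_normalizer_inf h.J_norm ?_
    rw [le_normalizer_iff]
    intro g hg c hc
    rw [mem_centralizer_iff]
    intro n hn'
    have h1 : g⁻¹ * n * g ∈ J := by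
      have := (mem_normalizer_iff.1 (h.J_norm (inv_mem hg)) n).1 hn'
      rwa [inv_inv] at this
    have h2 := mem_centralizer_iff.1 hc _ h1
    calc n * (g * c * g⁻¹) = g * ((g⁻¹ * n * g) * c) * g⁻¹ := by group
      _ = g * (c * (g⁻¹ * n * g)) * g⁻¹ := by rw [h2]
      _ = g * c * g⁻¹ * n := by group
  · intro x hx y hy
    exact (mem_centralizer_iff.1 hx.2 y hy.1).symm

/-- `C(z)` contains a Sylow 2-subgroup of `G`, containing `J` -/
theorem sylow_le [Finite G] : ∃ Q : Sylow 2 G, (Q : Subgroup G) ≤ Ce z ∧ J ≤ (Q : Subgroup G) := by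
  have : Fact (Nat.Prime 2) := ⟨Nat.prime_two⟩
  -- a Sylow subgroup of `C(z)`
  obtain ⟨S₀⟩ := (inferInstance : Nonempty (Sylow 2 (Ce z)))
  set S : Subgroup G := (S₀ : Subgroup (Ce z)).map (Ce z).subtype with hS
  have hSle : S ≤ Ce z := map_subtype_le _
  have hS2 : IsPGroup 2 S := S₀.isPGroup'.map _
  have hJS : J ≤ S := by
    have h1 : (J.subgroupOf (Ce z)).Normal := by
      rw [normal_subgroupOf_iff_le_normalizer h.J_le]; exact h.J_norm
    have h1' : IsPGroup 2 (J.subgroupOf (Ce z)) := h.J_two.comap_of_injective _ (subtype_injective _)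
    have h2 : J.subgroupOf (Ce z) ≤ (S₀ : Subgroup (Ce z)) := @IsPGroup.le_sylow_of_normal _ _ _ _ h1 h1' S₀
    have h3 := map_mono (f := (Ce z).subtype) h2
    rwa [subgroupOf_map_subtype, inf_eq_left.2 h.J_le] at h3
  -- maximality
  have hmax : ∀ P : Subgroup G, IsPGroup 2 P → P ≤ Ce z → S ≤ P → P ≤ S := by
    intro P hP hPle hSP
    have h1 : (S₀ : Subgroup (Ce z)) ≤ P.subgroupOf (Ce z) := by
      intro x hx
      rw [mem_subgroupOf]
      exact hSP ⟨x, hx, rfl⟩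
    have h2 : P.subgroupOf (Ce z) = S₀ := S₀.is_maximal' (hP.comap_of_injective _ (subtype_injective _)) h1
    rw [hS, ← h2, subgroupOf_map_subtype, inf_eq_left.2 hPle]
  obtain ⟨Q, hQ⟩ := hS2.exists_le_sylow
  refine ⟨Q, ?_, hJS.trans hQ⟩
  by_contra hne
  have hne' : ¬ (Q : Subgroup G) ≤ S := fun hle => hne (hle.trans hSle)
  obtain ⟨r, hrQ, hrS, hrn⟩ := exists_mem_normalizer Q.isPGroup' hS2 (hQ.trans le_normalizer) hne'
  -- `r ∈ C(z)`
  have hzS : z ∈ S := hJS h.z_mem_J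
  have hrz : r * z * r⁻¹ ∈ S := (mem_normalizer_iff.1 hrn z).1 hzS
  have hrzc : r * z * r⁻¹ ∈ centralizer (J : Set G) := by
    rw [mem_centralizer_iff]
    intro j hj
    have h1 : r⁻¹ * j * r ∈ S := by
      have := (mem_normalizer_iff.1 (inv_mem hrn) j).1 (hJS hj)
      rwa [inv_inv] at this
    have h2 : (r⁻¹ * j * r) * z = z * (r⁻¹ * j * r) := mem_Ce.1 (hSle h1)
    calc j * (r * z * r⁻¹) = r * ((r⁻¹ * j * r) * z) * r⁻¹ := by group
      _ = r * (z * (r⁻¹ * j * r)) * r⁻¹ := by rw [h2]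
      _ = r * z * r⁻¹ * j := by group
  have hr : r ∈ Ce z := h.mem_Ce_of_centralizer_J (hSle hrz) hrzc
  -- `S ⟨r⟩` is a 2-subgroup of `C(z)`
  have h5 : S ⊔ zpowers r ≤ (Q : Subgroup G) := sup_le hQ (zpowers_le.2 hrQ)
  have h6 := hmax (S ⊔ zpowers r) (Q.isPGroup'.to_le h5) (sup_le hSle (zpowers_le.2 hr)) le_sup_left
  exact hrS (h6 (mem_sup_right (mem_zpowers r)))

/-- **`G = C(z) M`** for every normal subgroup `M` containing `X`. -/
theorem sup_eq_top [Finite G] {M : Subgroup G} (hM : M.Normal) (hXM : X ≤ M) : Ce z ⊔ M = ⊤ := by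
  have : Fact (Nat.Prime 2) := ⟨Nat.prime_two⟩
  obtain ⟨Q, hQ, hJQ⟩ := h.sylow_le
  have hzM : z ∈ M := hXM h.z_mem_X
  have hMtop : normalizer (M : Set G) = ⊤ := normalizer_eq_top_iff.2 hM
  set T : Subgroup G := M ⊓ Ce z with hTdef
  have hTn : Ce z ≤ normalizer (T : Set G) := le_normalizer_inf (by rw [hMtop]; exact le_top) le_normalizer
  have hTJn : Ce z ≤ normalizer ((T ⊓ J : Subgroup G) : Set G) := le_normalizer_inf hTn h.J_norm
  set C : Subgroup G := T ⊓ centralizer ((T ⊓ J : Subgroup G) : Set G) with hC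
  have hCn : Ce z ≤ normalizer (C : Set G) := by
    refine le_normalizer_inf hTn ?_
    rw [le_normalizer_iff]
    intro g hg c hc
    rw [mem_centralizer_iff]
    intro n hn'
    have h1 : g⁻¹ * n * g ∈ T ⊓ J := by
      have := (mem_normalizer_iff.1 (hTJn (inv_mem hg)) n).1 hn'
      rwa [inv_inv] at this
    have h2 := mem_centralizer_iff.1 hc _ h1
    calc n * (g * c * g⁻¹) = g * ((g⁻¹ * n * g) * c) * g⁻¹ := by group
      _ = g * (c * (g⁻¹ * n * g)) * g⁻¹ := by rw [h2]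
      _ = g * c * g⁻¹ * n := by group
  have hCJ : C ≤ J := by
    rcases h.dich C (inf_le_left.trans inf_le_right) hCn with h1 | h1
    · exact h1
    · exfalso
      apply h.inf_not_abelian
      intro x hx y hy
      have h2 : y ∈ T ⊓ J := ⟨⟨hXM hy.1, h.X_le hy.1⟩, hy.2⟩
      exact (mem_centralizer_iff.1 (h1 hx.1).2 y h2).symm
  have hCab : ∀ x ∈ C, ∀ y ∈ C, x * y = y * x := fun x hx y hy =>
    (mem_centralizer_iff.1 hx.2 y ⟨hy.1, hCJ hy⟩).symm
  have hF := Cfsg.Agent.Lib.SylowNormalInf.normalizer_inf_sup_eq_top Q M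
  rw [eq_top_iff, ← hF]
  refine sup_le_sup_right ?_ _
  intro g hg
  -- `g z g⁻¹ ∈ C`
  have hTJ : T ⊓ J ≤ (Q : Subgroup G) ⊓ M := le_inf (inf_le_right.trans hJQ) (inf_le_left.trans inf_le_left)
  have hgz : g * z * g⁻¹ ∈ (Q : Subgroup G) ⊓ M := (mem_normalizer_iff.1 hg z).1 ⟨hJQ h.z_mem_J, hzM⟩
  refine h.key_abelian hCJ hCn hCab (mem_inf.2 ⟨mem_inf.2 ⟨hgz.2, hQ hgz.1⟩, ?_⟩)
  rw [mem_centralizer_iff]
  intro j hj
  have h1 : g⁻¹ * j * g ∈ (Q : Subgroup G) ⊓ M := by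
    have := (mem_normalizer_iff.1 (inv_mem hg) j).1 (hTJ hj)
    rwa [inv_inv] at this
  have h2 : (g⁻¹ * j * g) * z = z * (g⁻¹ * j * g) := mem_Ce.1 (hQ h1.1)
  calc j * (g * z * g⁻¹) = g * ((g⁻¹ * j * g) * z) * g⁻¹ := by group
    _ = g * (z * (g⁻¹ * j * g)) * g⁻¹ := by rw [h2]
    _ = g * z * g⁻¹ * j := by group

end Setup

end Cfsg.Agent.H316.Red
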