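import Cfsg.Agent.H316.RedPre

/-!
# `Red.Pre` from `C(z) / O_2(C(z)) ≅ Q` (helper316)

`QData Q S` : `S` is a perfect normal subgroup of `Q` of order 25920, `Q/S` is solvable, every nontrivial normal
subgroup of `Q` contains `S` (so `Q = PSp₄(3)` or `Aut(PSp₄(3))`).
* `Xr z` : the largest perfect subgroup of `C(z)`;
* `pre_of` : `Pre z J (Xr z)`;
* `card_Xr` : `2^13 * 405 ∣ |Xr z|`.
-/

set_option autoImplicit false

namespace Cfsg.Agent.H316.Red

open Subgroup
open scoped commutatorElement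

variable {G : Type*} [Group G]

structure QData (Q : Type*) [Group Q] (S : Subgroup Q) : Prop where
  norm : S.Normal
  perf : ⁅S, S⁆ = S
  ne : S ≠ ⊥
  min : ∀ N : Subgroup Q, N.Normal → N = ⊥ ∨ S ≤ N
  solv : ∀ [S.Normal], Group.IsSolvable (Q ⧸ S)
  card : Nat.card S = 25920

/-- the largest perfect subgroup of `C(z)` -/
def Xr (z : G) : Subgroup G := sSup {Y : Subgroup G | Y ≤ Ce z ∧ ⁅Y, Y⁆ = Y}

theorem Xr_le (z : G) : Xr z ≤ Ce z := sSup_le fun _ h => h.1

theorem Xr_max (z : G) {Y : Subgroup G} (h1 : Y ≤ Ce z) (h2 : ⁅Y, Y⁆ = Y) : Y ≤ Xr z := le_sSup ⟨h1, h2⟩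

theorem Xr_perfect (z : G) : ⁅Xr z, Xr z⁆ = Xr z := by
  apply le_antisymm (commutator_le_self _)
  conv_lhs => rw [Xr]
  refine sSup_le fun Y hY => ?_
  rw [← hY.2]
  exact commutator_mono (le_sSup hY) (le_sSup hY)

/-- a perfect subgroup of a solvable subgroup is trivial -/
theorem perfect_eq_bot {H : Type*} [Group H] {P S : Subgroup H} (hP : ⁅P, P⁆ = P) (hS : Group.IsSolvable S)
    (h : P ≤ S) : P = ⊥ := by
  rw [eq_bot_iff]
  intro x hx
  have h1 := hom_eq_one (commutator_eq_top hP) hS (inclusion h) ⟨x, hx⟩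
  rw [mem_bot]
  exact congrArg Subtype.val h1

/-- a perfect subgroup lies in a normal subgroup with solvable quotient -/
theorem perfect_le_of_solvable {H : Type*} [Group H] {P N : Subgroup H} [N.Normal] (hP : ⁅P, P⁆ = P)
    (hS : Group.IsSolvable (H ⧸ N)) : P ≤ N := by
  intro x hx
  have h1 := hom_eq_one (commutator_eq_top hP) hS ((QuotientGroup.mk' N).comp P.subtype) ⟨x, hx⟩
  exact (QuotientGroup.eq_one_iff x).1 h1

/-- a perfect subgroup of `N S`, `N` normal, `S` solvable, lies in `N` -/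
theorem perfect_le_of_sup {H : Type*} [Group H] {P N S : Subgroup H} [N.Normal] (hP : ⁅P, P⁆ = P)
    (hS : Group.IsSolvable S) (h : P ≤ N ⊔ S) : P ≤ N := by
  have h1 : P.map (QuotientGroup.mk' N) = ⊥ := by
    refine perfect_eq_bot (S := S.map (QuotientGroup.mk' N)) (by rw [← map_commutator, hP]) ?_ ?_
    · exact Group.isSolvable_of_surjective (f := (QuotientGroup.mk' N).subgroupMap S)
        ((QuotientGroup.mk' N).subgroupMap_surjective S)
    · have h2 := map_mono (f := QuotientGroup.mk' N) h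
      rw [Subgroup.map_sup, QuotientGroup.map_mk'_self, bot_sup_eq] at h2
      exact h2
  rw [Subgroup.map_eq_bot_iff, QuotientGroup.ker_mk'] at h1
  exact h1

/-- a minimal preimage of a perfect subgroup is perfect -/
theorem exists_perfect_preimage {H Q : Type*} [Group H] [Finite H] [Group Q] {φ : H →* Q}
    (hφ : Function.Surjective φ) {S : Subgroup Q} (hS : ⁅S, S⁆ = S) :
    ∃ Y : Subgroup H, ⁅Y, Y⁆ = Y ∧ Y.map φ = S := by
  have hne : {Y : Subgroup H | Y.map φ = S}.Nonempty := ⟨S.comap φ, map_comap_eq_self_of_surjective hφ S⟩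
  obtain ⟨Y, hY⟩ := (Set.toFinite {Y : Subgroup H | Y.map φ = S}).exists_minimal hne
  refine ⟨Y, ?_, hY.1⟩
  have h1 : (⁅Y, Y⁆ : Subgroup H).map φ = S := by
    have h2 : Y.map φ = S := hY.1
    rw [map_commutator, h2, hS]
  exact le_antisymm (commutator_le_self Y) (hY.2 h1 (commutator_le_self Y))

section

variable {z : G} {Q : Type*} [Group Q] {S : Subgroup Q} {φ : Ce z →* Q}

/-- `J = O_2(C(z))` as a subgroup of `G` -/
abbrev Jz (z : G) : Subgroup G := (Cfsg.pCore 2 (Ce z)).map (Ce z).subtype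

theorem mem_Jz {x : G} : x ∈ Jz z ↔ ∃ h : x ∈ Ce z, (⟨x, h⟩ : Ce z) ∈ Cfsg.pCore 2 (Ce z) := by
  constructor
  · rintro ⟨y, hy, rfl⟩
    exact ⟨y.2, hy⟩
  · rintro ⟨h, hx⟩
    exact ⟨_, hx, rfl⟩

theorem pre_of [Finite G] (hz : orderOf z = 2) (hφ : Function.Surjective φ)
    (hker : φ.ker = Cfsg.pCore 2 (Ce z)) (D : QData Q S)
    (hJ' : ⁅Jz z, Jz z⁆ = zpowers z)
    (hCJ : centralizer (Cfsg.pCore 2 (Ce z) : Set (Ce z)) ≤ Cfsg.pCore 2 (Ce z)) : Pre z (Jz z) (Xr z) := by
  have : Fact (Nat.Prime 2) := ⟨Nat.prime_two⟩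
  have hSn := D.norm
  obtain ⟨Y, hY1, hY2⟩ := exists_perfect_preimage hφ D.perf
  have hYX : Y.map (Ce z).subtype ≤ Xr z := Xr_max z (map_subtype_le _) (by rw [← map_commutator, hY1])
  have hdvd : 81 ∣ Nat.card (Ce z) := by
    have h1 : Nat.card S ∣ Nat.card (Ce z) := by
      have h2 : Nat.card (Y.map φ) ∣ Nat.card Y := card_map_dvd Y φ
      rw [hY2] at h2
      exact h2.trans (card_subgroup_dvd_card Y)
    rw [D.card] at h1
    exact (by norm_num : 81 ∣ 25920).trans h1
  have hJp : IsPGroup 2 (Cfsg.pCore 2 (Ce z)) := Cfsg.Agent.Lib.Cores.pCore_isPGroup 2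
  have hJsol : Group.IsSolvable (Cfsg.pCore 2 (Ce z)) := by
    have := hJp.isNilpotent
    infer_instance
  refine
    { hz := hz
      J_le := map_subtype_le _
      J_norm := (le_normalizer : Ce z ≤ _).trans
        (normalizer_le_normalizer_map _ (Cfsg.Agent.Lib.Cores.pCore_characteristic 2))
      J_two := hJp.map _
      J_max := ?_
      J_cent := ?_
      J_comm := hJ'
      X_le := Xr_le z
      X_perfect := Xr_perfect z
      X_max := fun Y h1 h2 => Xr_max z h1 h2
      X_not := ?_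
      dich := ?_
      dvd := hdvd }
  · intro N hN hn hp
    have h1 : (N.subgroupOf (Ce z)).Normal := by
      rw [normal_subgroupOf_iff_le_normalizer hN]; exact hn
    have h2 : N.subgroupOf (Ce z) ≤ Cfsg.pCore 2 (Ce z) :=
      Cfsg.Agent.Lib.Cores.le_pCore h1 (hp.comap_of_injective _ (subtype_injective _))
    have h3 := map_mono (f := (Ce z).subtype) h2
    rwa [subgroupOf_map_subtype, inf_eq_left.2 hN] at h3
  · rintro x ⟨hx, hxc⟩
    refine mem_Jz.2 ⟨hx, hCJ ?_⟩
    rw [mem_centralizer_iff]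
    intro j hj
    apply Subtype.ext
    exact mem_centralizer_iff.1 hxc (j : G) ⟨j, hj, rfl⟩
  · intro hle
    apply D.ne
    rw [eq_bot_iff, ← hY2]
    rintro _ ⟨y, hy, rfl⟩
    obtain ⟨h1, h2⟩ := mem_Jz.1 (hle (hYX ⟨y, hy, rfl⟩))
    rw [← hker] at h2
    exact h2
  · intro N hN hn
    have h1 : (N.subgroupOf (Ce z)).Normal := by
      rw [normal_subgroupOf_iff_le_normalizer hN]; exact hn
    have h2 : ((N.subgroupOf (Ce z)).map φ).Normal := h1.map φ hφ
    rcases D.min _ h2 with h3 | h3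
    · left
      rw [Subgroup.map_eq_bot_iff, hker] at h3
      have h4 := map_mono (f := (Ce z).subtype) h3
      rwa [subgroupOf_map_subtype, inf_eq_left.2 hN] at h4
    · right
      have h4 : (Xr z).subgroupOf (Ce z) ≤ N.subgroupOf (Ce z) ⊔ Cfsg.pCore 2 (Ce z) := by
        have h5 : ((Xr z).subgroupOf (Ce z)).map φ ≤ S := by
          apply perfect_le_of_solvable (N := S) _ D.solv
          rw [← map_commutator]
          congr 1
          apply map_injective (Ce z).subtype_injective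
          rw [map_commutator, subgroupOf_map_subtype, inf_eq_left.2 (Xr_le z), Xr_perfect]
        intro x hx
        have h6 : φ x ∈ (N.subgroupOf (Ce z)).map φ := h3 (h5 ⟨x, hx, rfl⟩)
        obtain ⟨n, hn, hnx⟩ := h6
        have h7 : n⁻¹ * x ∈ φ.ker := by rw [MonoidHom.mem_ker, map_mul, map_inv, hnx, inv_mul_cancel]
        rw [hker] at h7
        have h8 : x = n * (n⁻¹ * x) := by group
        rw [h8]
        exact mul_mem (mem_sup_left hn) (mem_sup_right h7)
      have h5 : (Xr z).subgroupOf (Ce z) ≤ N.subgroupOf (Ce z) := by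
        refine perfect_le_of_sup ?_ hJsol h4
        apply map_injective (Ce z).subtype_injective
        rw [map_commutator, subgroupOf_map_subtype, inf_eq_left.2 (Xr_le z), Xr_perfect]
      have h6 := map_mono (f := (Ce z).subtype) h5
      rwa [subgroupOf_map_subtype, subgroupOf_map_subtype, inf_eq_left.2 hN, inf_eq_left.2 (Xr_le z)] at h6

/-- `2^13 * 405 ∣ |X|` -/
theorem card_Xr [Finite G] (hφ : Function.Surjective φ) (hker : φ.ker = Cfsg.pCore 2 (Ce z)) (D : QData Q S)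
    (hS : Setup z (Jz z) (Xr z)) (hP : Pre z (Jz z) (Xr z)) (hsq : ∀ x ∈ Jz z, x * x ∈ zpowers z) :
    2 ^ 13 * 405 ∣ Nat.card (Xr z) := by
  have : Fact (Nat.Prime 2) := ⟨Nat.prime_two⟩
  obtain ⟨Y, hY1, hY2⟩ := exists_perfect_preimage hφ D.perf
  have hYX : Y.map (Ce z).subtype ≤ Xr z := Xr_max z (map_subtype_le _) (by rw [← map_commutator, hY1])
  set X' : Subgroup (Ce z) := (Xr z).subgroupOf (Ce z) with hX'
  have hYX' : Y ≤ X' := by
    intro y hy
    rw [hX', mem_subgroupOf]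
    exact hYX ⟨y, hy, rfl⟩
  have h1 : Nat.card X' = Nat.card (Xr z) := by
    have h5 : X'.map (Ce z).subtype = Xr z := by
      rw [hX', subgroupOf_map_subtype, inf_eq_left.2 (Xr_le z)]
    rw [← h5, card_map_of_injective (Ce z).subtype_injective]
  -- `|X'| = |X' ∩ J| |φ(X')|`
  set f : X' →* Q := φ.comp X'.subtype with hf
  have h2 : Nat.card f.ker * Nat.card f.range = Nat.card X' := by
    rw [← Subgroup.index_ker, Subgroup.card_mul_index]
  have h3 : Nat.card S ∣ Nat.card f.range := by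
    apply card_dvd_of_le
    rw [← hY2]
    rintro _ ⟨y, hy, rfl⟩
    exact ⟨⟨y, hYX' hy⟩, rfl⟩
  have h4 : Nat.card f.ker = Nat.card (Xr z ⊓ Jz z : Subgroup G) := by
    have h5 : (f.ker.map X'.subtype).map (Ce z).subtype = Xr z ⊓ Jz z := by
      ext x
      constructor
      · rintro ⟨_, ⟨y, hy, rfl⟩, rfl⟩
        refine mem_inf.2 ⟨y.2, mem_Jz.2 ⟨y.1.2, ?_⟩⟩
        rw [← hker]; exact hy
      · rintro ⟨hx1, hx2⟩
        obtain ⟨h6, h7⟩ := mem_Jz.1 hx2
        rw [← hker] at h7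
        exact ⟨_, ⟨⟨⟨x, h6⟩, hx1⟩, h7, rfl⟩, rfl⟩
    rw [← h5, card_map_of_injective (Ce z).subtype_injective, card_map_of_injective X'.subtype_injective]
  have h5 : 2 ^ 7 ∣ Nat.card f.ker := by
    have h6 : IsPGroup 2 (Xr z ⊓ Jz z : Subgroup G) := hS.J_two.to_le inf_le_right
    obtain ⟨n, hn⟩ := IsPGroup.iff_card.1 h6
    have h7 := hS.card_inf_ge hP hsq
    rw [h4]
    rw [hn] at h7 ⊢
    exact pow_dvd_pow 2 ((Nat.pow_le_pow_iff_right (by norm_num)).1 h7)
  rw [← h1, ← h2]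
  rw [D.card] at h3
  have h6 : 2 ^ 13 * 405 = 2 ^ 7 * 25920 := by norm_num
  rw [h6]
  exact mul_dvd_mul h5 h3

end

end Cfsg.Agent.H316.Red
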