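import Cfsg.Agent.H316.RedPerf
import Cfsg.Agent.Lib.ElemAbGL

/-!
# Verifying the hypotheses of `Red.Setup` (helper316)

`Pre z J X` : the hypotheses of `Setup` without `small`, `act`, and `3^4 ∣ |C(z)|`.
* `Pre.act_quot` : `X` acts trivially on every elementary abelian section of order at most `2^5`, normalised by
  `C(z)`;
* `Pre.setup` : `Setup` if `J / ⟨z⟩` is elementary abelian, `|Z(J)| ≤ 4` and abelian subgroups of `J` have order at
  most `2^6`;
* `Setup.card_inf_ge` : `|X ∩ J| ≥ 2^7`.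
-/

set_option autoImplicit false

namespace Cfsg.Agent.H316.Red

open Subgroup
open scoped commutatorElement

variable {G : Type*} [Group G]

structure Pre (z : G) (J X : Subgroup G) : Prop where
  hz : orderOf z = 2
  J_le : J ≤ Ce z
  J_norm : Ce z ≤ normalizer (J : Set G)
  J_two : IsPGroup 2 J
  J_max : ∀ N : Subgroup G, N ≤ Ce z → Ce z ≤ normalizer (N : Set G) → IsPGroup 2 N → N ≤ J
  J_cent : Ce z ⊓ centralizer (J : Set G) ≤ J
  J_comm : ⁅J, J⁆ = zpowers z
  X_le : X ≤ Ce z
  X_perfect : ⁅X, X⁆ = X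
  X_max : ∀ Y : Subgroup G, Y ≤ Ce z → ⁅Y, Y⁆ = Y → Y ≤ X
  X_not : ¬ X ≤ J
  dich : ∀ N : Subgroup G, N ≤ Ce z → Ce z ≤ normalizer (N : Set G) → N ≤ J ∨ X ≤ N
  dvd : 81 ∣ Nat.card (Ce z)

/-- the action of `X` on the quotient group `B / A` -/
@[reducible] def quotDistrib {X A B : Subgroup G} (hXA : X ≤ normalizer (A : Set G))
    (hXB : X ≤ normalizer (B : Set G)) [(A.subgroupOf B).Normal] :
    MulDistribMulAction X (B ⧸ A.subgroupOf B) :=
  { quotAction hXA hXB with
    smul_mul := by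
      rintro x ⟨a⟩ ⟨b⟩
      show Quotient.mk'' _ = Quotient.mk'' _
      congr 1
      apply Subtype.ext
      show (x : G) * ((a * b : B) : G) * (x : G)⁻¹ = x * (a : G) * (x : G)⁻¹ * (x * (b : G) * (x : G)⁻¹)
      simp only [coe_mul]; group
    smul_one := by
      intro x
      show Quotient.mk'' _ = Quotient.mk'' _
      congr 1
      apply Subtype.ext
      show (x : G) * ((1 : B) : G) * (x : G)⁻¹ = ((1 : B) : G)
      simp }

theorem not_dvd_card_GL {m : ℕ} (hm : m ≤ 5) : ¬ 81 ∣ Nat.card (Matrix.GeneralLinearGroup (Fin m) (ZMod 2)) := by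
  have : Fact (Nat.Prime 2) := ⟨Nat.prime_two⟩
  rw [Matrix.card_GL_field]
  interval_cases m <;> simp only [ZMod.card, Fin.prod_univ_succ, Fin.prod_univ_zero] <;> decide

theorem not_dvd_card_mulAut {V : Type*} [Group V] [Finite V] (hsq : ∀ x : V, x * x = 1) (hc : Nat.card V ≤ 32) :
    ¬ 81 ∣ Nat.card (MulAut V) := by
  have : Fact (Nat.Prime 2) := ⟨Nat.prime_two⟩
  have hcomm : ∀ x y : V, x * y = y * x := by
    intro x y
    have h1 := hsq (x * y)
    have h2 : x⁻¹ = x := inv_eq_of_mul_eq_one_left (hsq x)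
    have h3 : y⁻¹ = y := inv_eq_of_mul_eq_one_left (hsq y)
    have h4 : (x * y)⁻¹ = x * y := inv_eq_of_mul_eq_one_left h1
    rw [mul_inv_rev, h2, h3] at h4
    exact h4.symm
  have hp : IsPGroup 2 V := fun x => ⟨1, by rw [pow_one, sq]; exact hsq x⟩
  obtain ⟨m, hm⟩ := IsPGroup.iff_card.1 hp
  have hm5 : m ≤ 5 := by
    by_contra hlt
    have : 2 ^ 6 ≤ 2 ^ m := Nat.pow_le_pow_right (by norm_num) (by omega)
    omega
  let _ : CommGroup V := { (inferInstance : Group V) with mul_comm := hcomm }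
  obtain ⟨e⟩ := Cfsg.Agent.Lib.ElemAbGL.mulAut_equiv_GL (V := V) 2 m (fun x => by rw [sq]; exact hsq x) hm
  have h1 := Nat.card_congr e.toEquiv
  intro h2
  exact not_dvd_card_GL hm5 (h1 ▸ h2)

namespace Pre

variable {z : G} {J X : Subgroup G} (h : Pre z J X)
include h

/-- `X` acts trivially on elementary abelian sections of order at most `2^5` normalised by `C(z)` -/
theorem act_quot [Finite G] {A B : Subgroup G} (hA : Ce z ≤ normalizer (A : Set G))
    (hB : Ce z ≤ normalizer (B : Set G)) (hBA : B ≤ normalizer (A : Set G)) (hAB : A ≤ B)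
    (hsq : ∀ b ∈ B, b * b ∈ A) (hc : A.relIndex B ≤ 32) {x : G} (hx : x ∈ X) {b : G} (hb : b ∈ B) :
    ⁅b, x⁆ ∈ A := by
  classical
  have : Fact (Nat.Prime 2) := ⟨Nat.prime_two⟩
  have hn : (A.subgroupOf B).Normal := by
    rw [normal_subgroupOf_iff_le_normalizer hAB]; exact hBA
  let _ := quotDistrib hA hB
  have hV : ∀ v : B ⧸ A.subgroupOf B, v * v = 1 := by
    intro v
    obtain ⟨b, rfl⟩ := QuotientGroup.mk_surjective v
    rw [← QuotientGroup.mk_mul, QuotientGroup.eq_one_iff, mem_subgroupOf]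
    exact hsq b b.2
  have h81 := not_dvd_card_mulAut hV hc
  set f : Ce z →* MulAut (B ⧸ A.subgroupOf B) := MulDistribMulAction.toMulAut (Ce z) (B ⧸ A.subgroupOf B) with hf
  set N : Subgroup G := f.ker.map (Ce z).subtype with hN
  have hNle : N ≤ Ce z := map_subtype_le _
  have hNn : Ce z ≤ normalizer (N : Set G) := by
    rw [le_normalizer_iff]
    rintro g hg _ ⟨y, hy, rfl⟩
    exact ⟨⟨g, hg⟩ * y * ⟨g, hg⟩⁻¹, (MonoidHom.normal_ker f).conj_mem y hy ⟨g, hg⟩, rfl⟩
  rcases h.dich N hNle hNn with h1 | h1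
  · exfalso
    apply h81
    have h2 : IsPGroup 2 N := h.J_two.to_le h1
    obtain ⟨n, hn⟩ := IsPGroup.iff_card.1 h2
    have h3 : Nat.card f.ker = 2 ^ n := by
      rw [← hn, hN, card_map_of_injective (Ce z).subtype_injective]
    have h4 : Nat.card f.ker * Nat.card f.range = Nat.card (Ce z) := by
      rw [← Subgroup.index_ker, Subgroup.card_mul_index]
    have h5 : 81 ∣ 2 ^ n * Nat.card f.range := by
      rw [← h3, h4]; exact h.dvd
    have h6 : Nat.Coprime 81 (2 ^ n) := Nat.Coprime.pow_right n (by norm_num)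
    exact (h6.dvd_of_dvd_mul_left h5).trans (card_subgroup_dvd_card _)
  · obtain ⟨y, hy, hyx⟩ := h1 hx
    have h2 : f y = 1 := hy
    have h3 : y • (QuotientGroup.mk (⟨b, hb⟩⁻¹ : B) : B ⧸ A.subgroupOf B) = QuotientGroup.mk (⟨b, hb⟩⁻¹ : B) :=
      congrArg (fun σ : MulAut (B ⧸ A.subgroupOf B) => σ (QuotientGroup.mk (⟨b, hb⟩⁻¹ : B))) h2
    have h5 := QuotientGroup.eq.1 h3.symm
    rw [mem_subgroupOf] at h5
    have h6 : ((b : G)⁻¹)⁻¹ * ((y : G) * b⁻¹ * (y : G)⁻¹) ∈ A := h5
    have h7 : (y : G) = x := hyx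
    rw [h7] at h6
    have h8 : ⁅b, x⁆ = ((b : G)⁻¹)⁻¹ * (x * b⁻¹ * x⁻¹) := by rw [commutatorElement_def]; group
    rw [h8]; exact h6

theorem zz : z * z = 1 := by
  rw [← pow_two, ← h.hz, pow_orderOf_eq_one]

theorem z_ne : z ≠ 1 := by
  intro h1
  have := h.hz
  rw [h1, orderOf_one] at this
  omega

theorem card_zpowers : Nat.card (zpowers z) = 2 := by rw [Nat.card_zpowers, h.hz]

theorem act [Finite G] (hsq : ∀ x ∈ J, x * x ∈ zpowers z)
    (hab : ∀ W : Subgroup G, W ≤ J → (∀ x ∈ W, ∀ y ∈ W, x * y = y * x) → Nat.card W ≤ 2 ^ 6)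
    {W : Subgroup G} (hW : W ≤ J) (hn : Ce z ≤ normalizer (W : Set G))
    (hcomm : ∀ x ∈ W, ∀ y ∈ W, x * y = y * x) : X ≤ centralizer (W : Set G) := by
  -- `A = W ∩ ⟨z⟩`
  have hzn : Ce z ≤ normalizer (zpowers z : Set G) := by
    rw [le_normalizer_iff]
    intro g hg x hx
    rcases (mem_zpowers_two h.hz).1 hx with rfl | rfl
    · rw [mul_one, mul_inv_cancel]; exact one_mem _
    · rw [mem_Ce'.1 hg]; exact mem_zpowers _
  have hAn : Ce z ≤ normalizer ((W ⊓ zpowers z : Subgroup G) : Set G) := le_normalizer_inf hn hzn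
  have hAc : ∀ a ∈ W ⊓ zpowers z, ∀ g ∈ Ce z, g * a = a * g := by
    intro a ha g hg
    rcases (mem_zpowers_two h.hz).1 ha.2 with rfl | rfl
    · rw [mul_one, one_mul]
    · exact mem_Ce.1 hg
  apply perfect_centralizes h.X_perfect
  intro x hx a ha y hy
  by_cases hzW : z ∈ W
  · have h1 : ⁅a, x⁆ ∈ W ⊓ zpowers z := by
      refine h.act_quot hAn hn ?_ inf_le_left ?_ ?_ hx ha
      · exact (hW.trans h.J_le).trans hAn
      · intro b hb
        exact mem_inf.2 ⟨W.mul_mem hb hb, hsq b (hW hb)⟩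
      · have h2 : Nat.card (W ⊓ zpowers z : Subgroup G) * (W ⊓ zpowers z).relIndex W = Nat.card W := by
          have := Subgroup.relIndex_mul_relIndex (⊥ : Subgroup G) (W ⊓ zpowers z) W bot_le inf_le_left
          rwa [relIndex_bot_left, relIndex_bot_left] at this
        have h3 : W ⊓ zpowers z = zpowers z := inf_eq_right.2 (zpowers_le.2 hzW)
        rw [h3, h.card_zpowers] at h2
        rw [h3]
        have h4 := hab W hW hcomm
        omega
    exact hAc _ h1 y (h.X_le hy)
  · -- `[W, J] ≤ W ∩ ⟨z⟩ = 1`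
    have hWJ : ∀ w ∈ W, ∀ j ∈ J, w * j = j * w := by
      intro w hw j hj
      have h1 : ⁅w, j⁆ ∈ W := by
        rw [commutatorElement_def, mul_assoc, mul_assoc, ← mul_assoc j]
        exact W.mul_mem hw ((mem_normalizer_iff.1 (hn (h.J_le hj)) _).1 (W.inv_mem hw))
      have h2 : ⁅w, j⁆ ∈ zpowers z := by
        rw [← h.J_comm]; exact commutator_mem_commutator (hW hw) hj
      rcases (mem_zpowers_two h.hz).1 h2 with h3 | h3
      · exact commutatorElement_eq_one_iff_mul_comm.1 h3
      · rw [h3] at h1; exact absurd h1 hzW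
    -- then `W ⟨z⟩ ≤ Z(J)`; argue with `W × ⟨z⟩`
    have h1 : ⁅a, x⁆ ∈ W ⊓ zpowers z := by
      refine h.act_quot hAn hn ?_ inf_le_left ?_ ?_ hx ha
      · exact (hW.trans h.J_le).trans hAn
      · intro b hb
        exact mem_inf.2 ⟨W.mul_mem hb hb, hsq b (hW hb)⟩
      · -- `|W| ≤ 2^5` since `W ⟨z⟩` is abelian of order `2 |W|`
        have h2 : ∀ u ∈ W ⊔ zpowers z, ∀ v ∈ W ⊔ zpowers z, u * v = v * u := by
          have hcl : W ⊔ zpowers z ≤ centralizer ((W ⊔ zpowers z : Subgroup G) : Set G) := by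
            have e1 : W ≤ centralizer ((W ⊔ zpowers z : Subgroup G) : Set G) := by
              rw [le_centralizer_iff]
              refine sup_le ?_ ?_
              · intro u hu; rw [mem_centralizer_iff]; exact fun v hv => hcomm v hv u hu
              · rw [zpowers_le, mem_centralizer_iff]
                intro v hv
                exact mem_Ce.1 (h.J_le (hW hv))
            have e2 : zpowers z ≤ centralizer ((W ⊔ zpowers z : Subgroup G) : Set G) := by
              rw [le_centralizer_iff]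
              refine sup_le ?_ ?_
              · intro u hu
                rw [mem_centralizer_iff]
                intro v hv
                rcases (mem_zpowers_two h.hz).1 hv with rfl | rfl
                · rw [one_mul, mul_one]
                · exact (mem_Ce.1 (h.J_le (hW hu))).symm
              · intro u hu
                rw [mem_centralizer_iff]
                intro v hv
                rcases (mem_zpowers_two h.hz).1 hv with rfl | rfl <;>
                  rcases (mem_zpowers_two h.hz).1 hu with rfl | rfl <;> simp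
            exact sup_le e1 e2
          intro u hu v hv
          exact mem_centralizer_iff.1 (hcl hv) u hu
        have h3 := hab (W ⊔ zpowers z) (sup_le hW (by
          rw [← h.J_comm]; exact commutator_le_self J)) h2
        have h4 : W < W ⊔ zpowers z := by
          refine lt_of_le_of_ne le_sup_left fun he => hzW ?_
          rw [he]; exact mem_sup_right (mem_zpowers z)
        have h5 : Nat.card W < Nat.card (W ⊔ zpowers z : Subgroup G) := by
          exact Set.ncard_lt_ncard h4 (Set.toFinite _)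
        have h6 : Nat.card W ∣ Nat.card (W ⊔ zpowers z : Subgroup G) := card_dvd_of_le le_sup_left
        obtain ⟨c, hc⟩ := h6
        have h7 : 2 ≤ c := by
          by_contra hlt
          interval_cases c <;> omega
        have h8 : (W ⊓ zpowers z).relIndex W ≤ Nat.card W := by
          have : (W ⊓ zpowers z).relIndex W ∣ Nat.card W := index_dvd_card _
          exact Nat.le_of_dvd Nat.card_pos this
        nlinarith
    exact hAc _ h1 y (h.X_le hy)

theorem small [Finite G] (hsq : ∀ x ∈ J, x * x ∈ zpowers z)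
    (hab : ∀ W : Subgroup G, W ≤ J → (∀ x ∈ W, ∀ y ∈ W, x * y = y * x) → Nat.card W ≤ 2 ^ 6)
    (hZ : Nat.card (J ⊓ centralizer (J : Set G) : Subgroup G) ≤ 4)
    {N : Subgroup G} (hN : N ≤ Ce z) (hn : Ce z ≤ normalizer (N : Set G)) (hzN : z ∉ N) : Nat.card N ≤ 2 := by
  have hNJn : Ce z ≤ normalizer ((N ⊓ J : Subgroup G) : Set G) := le_normalizer_inf hn h.J_norm
  -- `N ∩ J ≤ Z(J)`
  have h1 : N ⊓ J ≤ J ⊓ centralizer (J : Set G) := by
    rintro w ⟨hwN, hwJ⟩
    refine mem_inf.2 ⟨hwJ, ?_⟩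
    rw [mem_centralizer_iff]
    intro j hj
    have h2 : ⁅w, j⁆ ∈ N := by
      rw [commutatorElement_def, mul_assoc, mul_assoc, ← mul_assoc j]
      exact N.mul_mem hwN ((mem_normalizer_iff.1 (hn (h.J_le hj)) _).1 (N.inv_mem hwN))
    have h3 : ⁅w, j⁆ ∈ zpowers z := by
      rw [← h.J_comm]; exact commutator_mem_commutator hwJ hj
    rcases (mem_zpowers_two h.hz).1 h3 with h4 | h4
    · exact (commutatorElement_eq_one_iff_mul_comm.1 h4).symm
    · rw [h4] at h2; exact absurd h2 hzN
  have hzJ : z ∈ J := by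
    have : z ∈ ⁅J, J⁆ := by rw [h.J_comm]; exact mem_zpowers z
    exact commutator_le_self J this
  have hzZ : z ∈ J ⊓ centralizer (J : Set G) :=
    mem_inf.2 ⟨hzJ, mem_centralizer_iff.2 fun j hj => mem_Ce.1 (h.J_le hj)⟩
  have h2 : Nat.card (N ⊓ J : Subgroup G) ≤ 2 := by
    have h3 : N ⊓ J < J ⊓ centralizer (J : Set G) := by
      refine lt_of_le_of_ne h1 fun he => hzN ?_
      rw [← he] at hzZ; exact hzZ.1
    have h5 : Nat.card (N ⊓ J : Subgroup G) < Nat.card (J ⊓ centralizer (J : Set G) : Subgroup G) :=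
      Set.ncard_lt_ncard h3 (Set.toFinite _)
    obtain ⟨c, hc⟩ : Nat.card (N ⊓ J : Subgroup G) ∣ Nat.card (J ⊓ centralizer (J : Set G) : Subgroup G) :=
      card_dvd_of_le h1
    have h7 : 2 ≤ c := by
      by_contra hlt
      interval_cases c <;> omega
    nlinarith
  rcases h.dich N hN hn with h3 | h3
  · rwa [inf_eq_left.2 h3] at h2
  · -- `X ≤ N` is impossible: `[J, X] ≤ N ∩ J` is centralised by `X`
    exfalso
    apply h.X_not
    have h4 : X ≤ centralizer (J : Set G) := by
      apply perfect_centralizes h.X_perfect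
      intro x hx a ha y hy
      have h5 : ⁅a, x⁆ ∈ N ⊓ J := by
        refine mem_inf.2 ⟨?_, ?_⟩
        · rw [commutatorElement_def]
          exact N.mul_mem ((mem_normalizer_iff.1 (hn (h.J_le ha)) _).1 (h3 hx)) (N.inv_mem (h3 hx))
        · rw [commutatorElement_def, mul_assoc, mul_assoc, ← mul_assoc x]
          exact J.mul_mem ha ((mem_normalizer_iff.1 (h.J_norm (h.X_le hx)) _).1 (J.inv_mem ha))
      have h6 := h.act hsq hab inf_le_right hNJn
        (fun u hu v hv => (mem_centralizer_iff.1 (h1 hu).2 v hv.2).symm)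
      exact (mem_centralizer_iff.1 (h6 hy) _ h5).symm
    intro x hx
    exact h.J_cent (mem_inf.2 ⟨h.X_le hx, h4 hx⟩)

/-- **The setup.** -/
theorem setup [Finite G] (hsq : ∀ x ∈ J, x * x ∈ zpowers z)
    (hab : ∀ W : Subgroup G, W ≤ J → (∀ x ∈ W, ∀ y ∈ W, x * y = y * x) → Nat.card W ≤ 2 ^ 6)
    (hZ : Nat.card (J ⊓ centralizer (J : Set G) : Subgroup G) ≤ 4) : Setup z J X where
  hz := h.hz
  J_le := h.J_le
  J_norm := h.J_norm
  J_two := h.J_two
  J_max := h.J_max
  J_cent := h.J_cent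
  J_comm := h.J_comm
  X_le := h.X_le
  X_perfect := h.X_perfect
  X_max := h.X_max
  X_not := h.X_not
  small := fun _ hN hn hzN => h.small hsq hab hZ hN hn hzN
  act := fun _ hW hn hc => h.act hsq hab hW hn hc
  dich := h.dich

end Pre

/-- `|X ∩ J| ≥ 2^7` -/
theorem Setup.card_inf_ge [Finite G] {z : G} {J X : Subgroup G} (h : Setup z J X) (hp : Pre z J X)
    (hsq : ∀ x ∈ J, x * x ∈ zpowers z) : 2 ^ 7 ≤ Nat.card (X ⊓ J : Subgroup G) := by
  have : Fact (Nat.Prime 2) := ⟨Nat.prime_two⟩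
  set W : Subgroup G := X ⊓ J with hW
  have hWn : Ce z ≤ normalizer (W : Set G) := le_normalizer_inf h.X_norm h.J_norm
  set Z : Subgroup G := W ⊓ centralizer (W : Set G) with hZ
  have hZn : Ce z ≤ normalizer (Z : Set G) := by
    refine le_normalizer_inf hWn ?_
    rw [le_normalizer_iff]
    intro g hg c hc
    rw [mem_centralizer_iff]
    intro n hn'
    have h1 : g⁻¹ * n * g ∈ W := by
      have := (mem_normalizer_iff.1 (hWn (inv_mem hg)) n).1 hn'
      rwa [inv_inv] at this
    have h2 := mem_centralizer_iff.1 hc _ h1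
    calc n * (g * c * g⁻¹) = g * ((g⁻¹ * n * g) * c) * g⁻¹ := by group
      _ = g * (c * (g⁻¹ * n * g)) * g⁻¹ := by rw [h2]
      _ = g * c * g⁻¹ * n := by group
  have hzZ : z ∈ Z := mem_inf.2 ⟨mem_inf.2 ⟨h.z_mem_X, h.z_mem_J⟩,
    mem_centralizer_iff.2 fun w hw => mem_Ce.1 (h.J_le hw.2)⟩
  have hXZ : X ≤ centralizer (Z : Set G) :=
    h.act Z (inf_le_left.trans inf_le_right) hZn (fun x hx y hy => (mem_centralizer_iff.1 hx.2 y hy.1).symm)
  have hrel : ¬ Z.relIndex W ≤ 32 := by
    intro hc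
    apply h.inf_not_abelian
    have h1 : X ≤ centralizer (W : Set G) := by
      apply perfect_centralizes h.X_perfect
      intro x hx b hb y hy
      have h5 : ⁅b, x⁆ ∈ Z := by
        refine hp.act_quot hZn hWn ?_ inf_le_left ?_ hc hx hb
        · exact (inf_le_right.trans h.J_le).trans hZn
        · intro b hb
          have h6 := hsq b hb.2
          have h7 : zpowers z ≤ Z := zpowers_le.2 hzZ
          exact h7 h6
      exact (mem_centralizer_iff.1 (hXZ hy) _ h5).symm
    intro x hx y hy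
    exact (mem_centralizer_iff.1 (h1 hx.1) y hy).symm
  have h2 : Nat.card Z * Z.relIndex W = Nat.card W := by
    have := Subgroup.relIndex_mul_relIndex (⊥ : Subgroup G) Z W bot_le inf_le_left
    rwa [relIndex_bot_left, relIndex_bot_left] at this
  have hW2 : IsPGroup 2 W := h.J_two.to_le inf_le_right
  obtain ⟨n, hn⟩ := IsPGroup.iff_card.1 hW2
  have h3 : 2 ∣ Nat.card Z := by
    have h4 : orderOf z ∣ Nat.card Z := by
      rw [← Subgroup.orderOf_mk z hzZ]; exact orderOf_dvd_natCard _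
    rwa [h.hz] at h4
  have h5 : 2 ≤ Nat.card Z := Nat.le_of_dvd Nat.card_pos h3
  have h6 : 2 ^ 6 < 2 ^ n := by
    rw [← hn, ← h2]
    have h7 : 33 ≤ Z.relIndex W := by omega
    calc 2 ^ 6 < 2 * 33 := by norm_num
      _ ≤ Nat.card Z * Z.relIndex W := Nat.mul_le_mul h5 h7
  have h7 : 6 < n := (Nat.pow_lt_pow_iff_right (by norm_num)).1 h6
  rw [hn]
  exact Nat.pow_le_pow_right (by norm_num) h7

end Cfsg.Agent.H316.Red
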