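import Cfsg.Agent.H316.RedFuse
import Cfsg.Agent.Lib.MinNormalNonabelian

/-!
# The minimal normal subgroup is simple (helper316)

`Setup.exists_simple` : if `O(G) = O_2(G) = 1` and `z` is not central, then `M = ⟨z^G⟩` is simple, contains `X`,
has trivial centralizer and `G = C(z) M`.
-/

set_option autoImplicit false

namespace Cfsg.Agent.H316.Red

open Subgroup
open scoped commutatorElement
open Cfsg.Agent.Lib.MinNormalNonabelian (minSet map_conj_mem_minSet nonabelian_structure)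

variable {G : Type*} [Group G]

/-- the projection of an internal direct product `M = A B` to `A` -/
theorem exists_proj {M A B : Subgroup G} (hc : ∀ a ∈ A, ∀ b ∈ B, a * b = b * a) (hd : A ⊓ B = ⊥)
    (hs : A ⊔ B = M) : ∃ p : M →* G, ∀ x : M, p x ∈ A ∧ (p x)⁻¹ * x ∈ B := by
  classical
  have hAB : A ≤ normalizer (B : Set G) := by
    rw [le_normalizer_iff]
    intro a ha b hb
    rw [hc a ha b hb, mul_inv_cancel_right]; exact hb
  have hex : ∀ x : M, ∃ a ∈ A, a⁻¹ * (x : G) ∈ B := by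
    intro x
    have h1 : (x : G) ∈ ((A ⊔ B : Subgroup G) : Set G) := by rw [hs]; exact x.2
    rw [coe_mul_of_left_le_normalizer_right A B hAB] at h1
    obtain ⟨a, ha, b, hb, hab⟩ := Set.mem_mul.1 h1
    refine ⟨a, ha, ?_⟩
    rw [← hab, inv_mul_cancel_left]; exact hb
  have huniq : ∀ (x : G) (a a' : G), a ∈ A → a' ∈ A → a⁻¹ * x ∈ B → a'⁻¹ * x ∈ B → a = a' := by
    intro x a a' ha ha' hb hb'
    have h1 : a⁻¹ * a' ∈ A ⊓ B := by
      refine mem_inf.2 ⟨A.mul_mem (A.inv_mem ha) ha', ?_⟩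
      have h2 := B.mul_mem hb (B.inv_mem hb')
      have h3 : a⁻¹ * x * (a'⁻¹ * x)⁻¹ = a⁻¹ * a' := by group
      rwa [h3] at h2
    rw [hd, mem_bot] at h1
    exact inv_mul_eq_one.1 h1
  choose f hf1 hf2 using hex
  refine ⟨MonoidHom.mk' f ?_, fun x => ⟨hf1 x, hf2 x⟩⟩
  intro x y
  refine huniq (x * y : M) _ _ (hf1 _) (A.mul_mem (hf1 x) (hf1 y)) (hf2 _) ?_
  have h1 : (f x)⁻¹ * (x : G) * ((f y)⁻¹ * y) = (f x * f y)⁻¹ * ((x * y : M) : G) := by
    have h2 := hc (f y)⁻¹ (A.inv_mem (hf1 y)) _ (hf2 x)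
    calc (f x)⁻¹ * (x : G) * ((f y)⁻¹ * y) = ((f x)⁻¹ * (x : G) * (f y)⁻¹) * y := by group
      _ = ((f y)⁻¹ * ((f x)⁻¹ * (x : G))) * y := by rw [h2]
      _ = (f x * f y)⁻¹ * ((x * y : M) : G) := by rw [coe_mul]; group
  rw [← h1]
  exact B.mul_mem (hf2 x) (hf2 y)

theorem commutator_subgroupOf {X M : Subgroup G} (hX : ⁅X, X⁆ = X) (hXM : X ≤ M) :
    ⁅X.subgroupOf M, X.subgroupOf M⁆ = X.subgroupOf M := by
  apply map_injective M.subtype_injective
  rw [map_commutator, subgroupOf_map_subtype, inf_eq_left.2 hXM, hX]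

namespace Setup

variable {z : G} {J X : Subgroup G} (h : Setup z J X)
include h

theorem exists_comm : ∃ x ∈ X ⊓ J, ∃ y ∈ X ⊓ J, ⁅x, y⁆ = z := by
  have h1 := h.inf_not_abelian
  push Not at h1
  obtain ⟨x, hx, y, hy, hxy⟩ := h1
  refine ⟨x, hx, y, hy, ?_⟩
  have h4 : ⁅x, y⁆ ∈ zpowers z := by
    rw [← h.J_comm]; exact commutator_mem_commutator hx.2 hy.2
  rcases (mem_zpowers_two h.hz).1 h4 with h6 | h6
  · exact absurd (commutatorElement_eq_one_iff_mul_comm.1 h6) hxy
  · exact h6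

/-- `z` lies in one factor of a direct product containing `X` -/
theorem mem_factor [Finite G] {M A B : Subgroup G} (hc : ∀ a ∈ A, ∀ b ∈ B, a * b = b * a) (hd : A ⊓ B = ⊥)
    (hs : A ⊔ B = M) (hXM : X ≤ M) : z ∈ A ∨ z ∈ B := by
  obtain ⟨p, hp⟩ := exists_proj hc hd hs
  have hzM : z ∈ M := hXM h.z_mem_X
  have hconj : ∀ (x y : M), (x : G) * p y * (x : G)⁻¹ = p (x * y * x⁻¹) := by
    intro x y
    rw [map_mul, map_mul, map_inv]
    have h1 := hc (p y) (hp y).1 _ (hp x).2
    have h2 : (x : G) = p x * ((p x)⁻¹ * x) := by group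
    calc (x : G) * p y * (x : G)⁻¹ = p x * (((p x)⁻¹ * x) * p y) * (x : G)⁻¹ := by group
      _ = p x * (p y * ((p x)⁻¹ * x)) * (x : G)⁻¹ := by rw [h1]
      _ = p x * p y * (p x)⁻¹ := by group
  -- the projection of `X`
  set X' : Subgroup G := (X.subgroupOf M).map p with hX'
  have hX'z : X' ≤ Ce z := by
    rintro _ ⟨x, hx, rfl⟩
    rw [mem_Ce]
    have h1 := hconj ⟨z, hzM⟩ x
    have h2 : (⟨z, hzM⟩ : M) * x * (⟨z, hzM⟩ : M)⁻¹ = x := by
      apply Subtype.ext
      have h3 : (x : G) * z = z * x := mem_Ce.1 (h.X_le hx)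
      show z * (x : G) * z⁻¹ = x
      rw [← h3, mul_inv_cancel_right]
    rw [h2] at h1
    exact (mul_inv_eq_iff_eq_mul.1 h1).symm
  have hX'X : X' ≤ X := by
    apply h.X_max _ hX'z
    rw [hX', ← map_commutator, commutator_subgroupOf h.X_perfect hXM]
  set P' : Subgroup G := ((X ⊓ J).subgroupOf M).map p with hP'
  have hP'X : P' ≤ X := (map_mono (comap_mono inf_le_left)).trans hX'X
  have hP'J : P' ≤ J := by
    have h1 : (P'.subgroupOf X).Normal := by
      rw [normal_subgroupOf_iff_le_normalizer hP'X, le_normalizer_iff]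
      rintro x hx _ ⟨y, hy, rfl⟩
      have h2 := hconj ⟨x, hXM hx⟩ y
      change x * p y * x⁻¹ = _ at h2
      rw [h2]
      refine ⟨_, ?_, rfl⟩
      rw [SetLike.mem_coe, mem_subgroupOf] at hy ⊢
      show x * (y : G) * x⁻¹ ∈ X ⊓ J
      refine mem_inf.2 ⟨X.mul_mem (X.mul_mem hx hy.1) (X.inv_mem hx), ?_⟩
      exact (mem_normalizer_iff.1 (h.J_norm (h.X_le hx)) _).1 hy.2
    have h3 : IsPGroup 2 P' :=
      ((h.J_two.to_le inf_le_right).comap_of_injective _ (subtype_injective _)).map p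
    have h4 : P'.subgroupOf X ≤ Cfsg.pCore 2 X :=
      Cfsg.Agent.Lib.Cores.le_pCore h1 (h3.comap_of_injective _ (subtype_injective _))
    have h5 := map_mono (f := X.subtype) h4
    rw [subgroupOf_map_subtype, inf_eq_left.2 hP'X, h.pCore_eq h.X_le h.X_norm] at h5
    exact h5.trans inf_le_right
  obtain ⟨x, hx, y, hy, hxy⟩ := h.exists_comm
  have h1 : p ⟨z, hzM⟩ ∈ ⁅J, J⁆ := by
    have h2 : (⟨z, hzM⟩ : M) = ⁅(⟨x, hXM hx.1⟩ : M), ⟨y, hXM hy.1⟩⁆ := Subtype.ext hxy.symm
    rw [h2, map_commutatorElement]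
    exact commutator_mem_commutator (hP'J ⟨⟨x, hXM hx.1⟩, hx, rfl⟩) (hP'J ⟨⟨y, hXM hy.1⟩, hy, rfl⟩)
  rw [h.J_comm] at h1
  rcases (mem_zpowers_two h.hz).1 h1 with h2 | h2
  · right
    have h3 := (hp ⟨z, hzM⟩).2
    rw [h2, inv_one, one_mul] at h3
    exact h3
  · left
    have h3 := (hp ⟨z, hzM⟩).1
    rwa [h2] at h3

/-- **The minimal normal subgroup is simple.** -/
theorem exists_simple [Finite G] (hO : Cfsg.oddCore G = ⊥) (h2 : Cfsg.pCore 2 G = ⊥) (hz : Ce z ≠ ⊤) :
    ∃ M : Subgroup G, M.Normal ∧ IsSimpleGroup M ∧ z ∈ M ∧ X ≤ M ∧ centralizer (M : Set G) = ⊥ ∧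
      Ce z ⊔ M = ⊤ := by
  set M : Subgroup G := normalClosure {z} with hMdef
  have hM : M.Normal := normalClosure_normal
  have hzM : z ∈ M := subset_normalClosure rfl
  have hXM : X ≤ M := h.X_le_of_normal hO hz hM hzM
  have htop : Ce z ⊔ M = ⊤ := h.sup_eq_top hM hXM
  have hnM : ¬ M ≤ Ce z := by
    intro hle
    rw [sup_eq_left.2 hle] at htop
    exact hz htop
  have hmin : ∀ N : Subgroup G, N.Normal → N ≤ M → N = ⊥ ∨ N = M := by
    intro N hN hNM
    by_cases hne : N = ⊥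
    · exact Or.inl hne
    · right
      have hzN := h.z_mem_of_normal hO h2 hN hne
      exact le_antisymm hNM (normalClosure_le_normal (Set.singleton_subset_iff.2 hzN))
  have hcent : centralizer (M : Set G) = ⊥ := by
    by_contra hne
    have h1 : (centralizer (M : Set G)).Normal := inferInstance
    have h3 := h.z_mem_of_normal hO h2 h1 hne
    exact hnM fun m hm => mem_Ce.2 (mem_centralizer_iff.1 h3 m hm)
  have hna : ¬ ∀ x ∈ M, ∀ y ∈ M, Commute x y := by
    intro hab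
    exact h.inf_not_abelian fun x hx y hy => hab x (hXM hx.1) y (hXM hy.1)
  obtain ⟨-, hind, hsup, hsimp, hctr, -⟩ := nonabelian_structure M hmin hna
  -- factors
  have hcomm : ∀ L ∈ minSet M, ∀ T ∈ minSet M, T ≠ L → ∀ a ∈ L, ∀ b ∈ T, a * b = b * a := by
    intro L hL T hT hne a ha b hb
    have hdis : Disjoint L T := by
      have h3 := hind.pairwiseDisjoint hL hT hne.symm
      exact h3
    have h4 : ⁅a, b⁆ ∈ L ⊓ T := by
      refine mem_inf.2 ⟨?_, ?_⟩
      · rw [commutatorElement_def, mul_assoc, mul_assoc]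
        refine L.mul_mem ha ?_
        rw [← mul_assoc]
        exact (mem_normalizer_iff.1 (hL.2.2.1 (hT.1 hb)) _).1 (L.inv_mem ha)
      · rw [commutatorElement_def]
        exact T.mul_mem ((mem_normalizer_iff.1 (hT.2.2.1 (hL.1 ha)) _).1 hb) (T.inv_mem hb)
    rw [hdis.eq_bot, mem_bot, commutatorElement_eq_one_iff_mul_comm] at h4
    exact h4
  have hLB : ∀ L ∈ minSet M, L ⊓ (M ⊓ centralizer (L : Set G)) = ⊥ ∧ L ⊔ (M ⊓ centralizer (L : Set G)) = M := by
    intro L hL
    constructor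
    · rw [eq_bot_iff]
      rintro x ⟨hxL, -, hxc⟩
      rw [mem_bot]
      exact hctr L hL x hxL fun t ht => (mem_centralizer_iff.1 hxc t ht).symm
    · apply le_antisymm (sup_le hL.1 inf_le_left)
      conv_lhs => rw [← hsup]
      refine sSup_le fun T hT => ?_
      by_cases hTL : T = L
      · rw [hTL]; exact le_sup_left
      · refine le_sup_of_le_right (le_inf hT.1 fun b hb => ?_)
        rw [mem_centralizer_iff]
        intro a ha
        exact hcomm L hL T hT hTL a ha b hb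
  have hexL : ∃ L ∈ minSet M, z ∈ L := by
    by_contra hcon
    push Not at hcon
    apply hnM
    rw [← hsup]
    refine sSup_le fun L hL => ?_
    obtain ⟨h3, h4⟩ := hLB L hL
    rcases h.mem_factor (A := L) (B := M ⊓ centralizer (L : Set G))
      (fun a ha b hb => mem_centralizer_iff.1 hb.2 a ha) h3 h4 hXM with h5 | h5
    · exact absurd h5 (hcon L hL)
    · intro a ha
      exact mem_Ce.2 (mem_centralizer_iff.1 h5.2 a ha)
  obtain ⟨L, hL, hzL⟩ := hexL
  obtain ⟨hLB1, hLB2⟩ := hLB L hL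
  -- `C(z)` normalises `L`
  have hconjL : ∀ g ∈ Ce z, L.map (MulAut.conj g).toMonoidHom = L := by
    intro g hg
    by_contra hne
    have h3 : L.map (MulAut.conj g).toMonoidHom ∈ minSet M := map_conj_mem_minSet hL g
    have h4 : Disjoint (L.map (MulAut.conj g).toMonoidHom) L := hind.pairwiseDisjoint h3 hL hne
    have h5 : z ∈ L.map (MulAut.conj g).toMonoidHom := ⟨z, hzL, mem_Ce'.1 hg⟩
    have h6 : z ∈ L.map (MulAut.conj g).toMonoidHom ⊓ L := mem_inf.2 ⟨h5, hzL⟩
    rw [h4.eq_bot, mem_bot] at h6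
    exact h.z_ne h6
  have hHL : Ce z ≤ normalizer (L : Set G) := by
    rw [le_normalizer_iff]
    intro g hg x hx
    rw [← hconjL g hg]
    exact ⟨x, hx, rfl⟩
  have hMtop : normalizer (M : Set G) = ⊤ := normalizer_eq_top_iff.2 hM
  have hHB : Ce z ≤ normalizer ((M ⊓ centralizer (L : Set G) : Subgroup G) : Set G) := by
    refine le_normalizer_inf (by rw [hMtop]; exact le_top) ?_
    rw [le_normalizer_iff]
    intro g hg c hc
    rw [mem_centralizer_iff]
    intro n hn'
    have h1 : g⁻¹ * n * g ∈ L := by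
      have := (mem_normalizer_iff.1 (hHL (inv_mem hg)) n).1 hn'
      rwa [inv_inv] at this
    have h2 := mem_centralizer_iff.1 hc _ h1
    calc n * (g * c * g⁻¹) = g * ((g⁻¹ * n * g) * c) * g⁻¹ := by group
      _ = g * (c * (g⁻¹ * n * g)) * g⁻¹ := by rw [h2]
      _ = g * c * g⁻¹ * n := by group
  have hB2 : Nat.card (M ⊓ centralizer (L : Set G) : Subgroup G) ≤ 2 := by
    refine h.small _ ?_ hHB ?_
    · intro b hb
      exact mem_Ce.2 (mem_centralizer_iff.1 hb.2 z hzL).symm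
    · intro hzB
      have h6 : z ∈ L ⊓ (M ⊓ centralizer (L : Set G)) := mem_inf.2 ⟨hzL, hzB⟩
      rw [hLB1, mem_bot] at h6
      exact h.z_ne h6
  have honly : minSet M = {L} := by
    apply Set.Subset.antisymm
    · intro T hT
      rw [Set.mem_singleton_iff]
      by_contra hTL
      have hTB : T ≤ M ⊓ centralizer (L : Set G) := by
        refine le_inf hT.1 fun b hb => ?_
        rw [mem_centralizer_iff]
        intro a ha
        exact hcomm L hL T hT hTL a ha b hb
      have hT2 : Nat.card T ≤ 2 := le_trans (Nat.le_of_dvd Nat.card_pos (card_dvd_of_le hTB)) hB2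
      obtain ⟨t, ht⟩ := (T.ne_bot_iff_exists_ne_one).1 hT.2.1
      apply ht
      apply Subtype.ext
      refine hctr T hT t t.2 fun s hs => ?_
      exact (commute_of_card_le_two hT2 (g := s)
        (fun x hx => T.mul_mem (T.mul_mem hs hx) (T.inv_mem hs)) t.2).symm
    · exact Set.singleton_subset_iff.2 hL
  have hML : M = L := by
    rw [← hsup, honly, sSup_singleton]
  refine ⟨M, hM, ?_, hzM, hXM, hcent, htop⟩
  have h5 := hsimp L hL
  rw [hML]; exact h5

end Setup

end Cfsg.Agent.H316.Red
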