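import Cfsg.Agent.H316.RedQ
import Cfsg.Agent.H316.RedAb
import Cfsg.Agent.H316.RedSimple
import Cfsg.Agent.Held.ExtLarge

/-!
# The setup in the three statements (helper316)

* `setup_E` : `O_2(C(z))` extraspecial of order `2^9`;
* `setup_AE` : `O_2(C(z)) = A × E`, `|A| = 2`, `E` extraspecial of order `2^9`.
-/

set_option autoImplicit false

namespace Cfsg.Agent.H316.Red

open Subgroup
open scoped commutatorElement Pointwise

/-! ### extraspecial case -/

section E

variable {G : Type*} [Group G] [Finite G] {z : G}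

theorem large_E (hz : orderOf z = 2) (hJ : Cfsg.IsExtraspecial 2 (Cfsg.pCore 2 (Ce z)))
    (hCJ : centralizer (Cfsg.pCore 2 (Ce z) : Set (Ce z)) ≤ Cfsg.pCore 2 (Ce z)) :
    Cfsg.Agent.Co2Type.Quad.Large (Jz z) z :=
  Cfsg.Agent.Held.Ext.large_of_hyp z hz (Cfsg.pCore 2 (Ce z)) hJ hCJ

omit [Finite G] in
theorem card_Jz {n : ℕ} (hJc : Nat.card (Cfsg.pCore 2 (Ce z)) = n) : Nat.card (Jz z) = n := by
  rw [← hJc, card_map_of_injective (Ce z).subtype_injective]

omit [Finite G] in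
theorem comm_E (hz : orderOf z = 2) (h : Cfsg.Agent.Co2Type.Quad.Large (Jz z) z) (hc : Nat.card (Jz z) = 2 ^ 9) :
    ⁅Jz z, Jz z⁆ = zpowers z := by
  apply le_antisymm
  · rw [commutator_le]
    intro x hx y hy
    rw [mem_zpowers_two hz]
    rcases h.comm x hx y hy with h1 | h1
    · left; exact commutatorElement_eq_one_iff_mul_comm.2 h1
    · right
      have h2 := h.comm_z y hy
      have h3 := h.comm_z x hx
      rw [commutatorElement_def, h1]
      calc y * x * z * x⁻¹ * y⁻¹ = y * (x * z) * x⁻¹ * y⁻¹ := by group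
        _ = y * (z * x) * x⁻¹ * y⁻¹ := by rw [h3]
        _ = y * z * y⁻¹ := by group
        _ = z := by rw [h2]; group
  · rw [zpowers_le]
    have hna : ¬ ∀ x ∈ Jz z, ∀ y ∈ Jz z, x * y = y * x := by
      intro hab
      have h1 : Jz z ≤ zpowers z := fun x hx => (mem_zpowers_two hz).2 (h.cent x hx (hab x hx))
      have h2 := card_dvd_of_le h1
      rw [hc, Nat.card_zpowers, hz] at h2
      exact absurd (Nat.le_of_dvd (by norm_num) h2) (by norm_num)
    push Not at hna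
    obtain ⟨x, hx, y, hy, hxy⟩ := hna
    have h1 : ⁅x, y⁆ ∈ ⁅Jz z, Jz z⁆ := commutator_mem_commutator hx hy
    rcases h.comm x hx y hy with h2 | h2
    · exact absurd h2 hxy
    · have h3 : ⁅x, y⁆ = z := by
        have h4 := h.comm_z y hy
        have h5 := h.comm_z x hx
        rw [commutatorElement_def, h2]
        calc y * x * z * x⁻¹ * y⁻¹ = y * (x * z) * x⁻¹ * y⁻¹ := by group
          _ = y * (z * x) * x⁻¹ * y⁻¹ := by rw [h5]
          _ = y * z * y⁻¹ := by group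
          _ = z := by rw [h4]; group
      rw [h3] at h1; exact h1

variable {Q : Type*} [Group Q] {S : Subgroup Q} {φ : Ce z →* Q}

/-- **The setup when `O_2(C(z))` is extraspecial of order `2^9`.** -/
theorem setup_E (hz : orderOf z = 2) (hJ : Cfsg.IsExtraspecial 2 (Cfsg.pCore 2 (Ce z)))
    (hJc : Nat.card (Cfsg.pCore 2 (Ce z)) = 2 ^ 9)
    (hCJ : centralizer (Cfsg.pCore 2 (Ce z) : Set (Ce z)) ≤ Cfsg.pCore 2 (Ce z))
    (hφ : Function.Surjective φ) (hker : φ.ker = Cfsg.pCore 2 (Ce z)) (D : QData Q S) :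
    Setup z (Jz z) (Xr z) ∧ 2 ^ 13 * 405 ∣ Nat.card (Xr z) ∧
      (∀ x ∈ Jz z, (∀ y ∈ Jz z, x * y = y * x) → x = 1 ∨ x = z) := by
  have hL := large_E hz hJ hCJ
  have hc := card_Jz (z := z) hJc
  have hcom := comm_E hz hL hc
  have hP := pre_of hz hφ hker D hcom hCJ
  have hsq : ∀ x ∈ Jz z, x * x ∈ zpowers z := fun x hx => (mem_zpowers_two hz).2 (hL.sq x hx)
  have hcen : Jz z ⊓ centralizer (Jz z : Set G) ≤ zpowers z := by
    rintro x ⟨hx, hxc⟩
    exact (mem_zpowers_two hz).2 (hL.cent x hx fun y hy => (mem_centralizer_iff.1 hxc y hy).symm)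
  have hcc : Nat.card (Jz z ⊓ centralizer (Jz z : Set G) : Subgroup G) ≤ 2 := by
    have := Nat.le_of_dvd (by rw [Nat.card_zpowers, hz]; norm_num) (card_dvd_of_le hcen)
    rwa [Nat.card_zpowers, hz] at this
  have hS : Setup z (Jz z) (Xr z) := by
    refine hP.setup hsq ?_ (by omega)
    intro W hW hab
    refine card_le_of_comm hz hP.J_le hcom ?_ W hW hab
    rw [hc]
    omega
  exact ⟨hS, card_Xr hφ hker D hS hP hsq, fun x hx h => hL.cent x hx h⟩

end E

/-! ### the direct product case -/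

section AE

variable {C : Type*} [Group C] [Finite C] {A E P : Subgroup C} {zc : C}

omit [Finite C] in
theorem mem_prod (h : Cfsg.IsInternalDirectProduct A E P) {x : C} (hx : x ∈ P) :
    ∃ a ∈ A, ∃ e ∈ E, x = a * e := by
  obtain ⟨h1, h2, h3, h4, h5⟩ := h
  have hAE : A ≤ normalizer (E : Set C) := by
    rw [le_normalizer_iff]
    intro a ha b hb
    rw [h3 a ha b hb, mul_inv_cancel_right]; exact hb
  have h6 : x ∈ ((A ⊔ E : Subgroup C) : Set C) := by rw [h5]; exact hx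
  rw [coe_mul_of_left_le_normalizer_right A E hAE] at h6
  obtain ⟨a, ha, b, hb, hab⟩ := Set.mem_mul.1 h6
  exact ⟨a, ha, b, hb, hab.symm⟩

theorem center_eq (h : Cfsg.IsInternalDirectProduct A E P) (hE : Cfsg.IsExtraspecial 2 E)
    (hzc : orderOf zc = 2) (hP : ⁅P, P⁆ = zpowers zc) : (center E).map E.subtype = zpowers zc := by
  have h1 : ⁅E, E⁆ = (center E).map E.subtype := by
    rw [← hE.1.2.2, commutator_def, map_commutator, ← MonoidHom.range_eq_map, range_subtype]
  have h2 : (center E).map E.subtype ≤ zpowers zc := by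
    rw [← h1, ← hP]; exact commutator_mono h.2.1 h.2.1
  have h3 : Nat.card ((center E).map E.subtype) = 2 := by
    rw [card_map_of_injective E.subtype_injective]; exact hE.2
  apply eq_of_le_of_card_ge h2
  rw [h3, Nat.card_zpowers, hzc]

theorem sq_mem (h : Cfsg.IsInternalDirectProduct A E P) (hA : Nat.card A = 2) (hE : Cfsg.IsExtraspecial 2 E)
    (hzc : orderOf zc = 2) (hP : ⁅P, P⁆ = zpowers zc) {x : C} (hx : x ∈ P) : x * x ∈ zpowers zc := by
  obtain ⟨a, ha, e, he, rfl⟩ := mem_prod h hx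
  have h1 : a * a = 1 := by
    have h2 : (⟨a, ha⟩ : A) ^ 2 = 1 := by rw [← hA]; exact pow_card_eq_one'
    rw [sq] at h2
    exact congrArg Subtype.val h2
  have h2 : e * e ∈ zpowers zc := by
    rw [← center_eq h hE hzc hP]
    have h3 : (⟨e, he⟩ : E) ^ 2 ∈ center E := Cfsg.Agent.Transfer.Extraspecial.pow_mem_center hE ⟨e, he⟩
    exact ⟨_, h3, by simp [sq]⟩
  have h3 : a * e * (a * e) = (a * a) * (e * e) := by
    have h4 := h.2.2.1 a ha e he
    calc a * e * (a * e) = (a * e) * a * e := by group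
      _ = (e * a) * a * e := by rw [h4]
      _ = e * (a * a) * e := by group
      _ = (a * a) * (e * e) := by rw [h1]; group
  rw [h3, h1, one_mul]
  exact h2

omit [Finite C] in
theorem card_prod (h : Cfsg.IsInternalDirectProduct A E P) : Nat.card P = Nat.card A * Nat.card E := by
  have hP := h
  obtain ⟨h1, h2, h3, h4, h5⟩ := h
  rw [← Nat.card_prod]
  symm
  refine Nat.card_congr (Equiv.ofBijective (fun x : A × E => (⟨x.1 * x.2, P.mul_mem (h1 x.1.2) (h2 x.2.2)⟩ : P))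
    ⟨?_, ?_⟩)
  · rintro ⟨a, e⟩ ⟨b, f⟩ hab
    have h6 : (a : C) * e = b * f := congrArg Subtype.val hab
    have h7 : (b : C)⁻¹ * a = f * (e : C)⁻¹ := by
      calc (b : C)⁻¹ * a = (b : C)⁻¹ * (a * e) * (e : C)⁻¹ := by group
        _ = (b : C)⁻¹ * (b * f) * (e : C)⁻¹ := by rw [h6]
        _ = f * (e : C)⁻¹ := by group
    have h8 : (b : C)⁻¹ * a ∈ A ⊓ E :=
      mem_inf.2 ⟨A.mul_mem (A.inv_mem b.2) a.2, by rw [h7]; exact E.mul_mem f.2 (E.inv_mem e.2)⟩
    rw [h4, mem_bot] at h8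
    have h9 : (b : C) = a := inv_mul_eq_one.1 h8
    have h10 : (e : C) = f := by
      rw [h9] at h6
      exact mul_left_cancel h6
    exact Prod.ext (Subtype.ext h9.symm) (Subtype.ext h10)
  · rintro ⟨x, hx⟩
    obtain ⟨a, ha, e, he, rfl⟩ := mem_prod hP hx
    exact ⟨⟨⟨a, ha⟩, ⟨e, he⟩⟩, rfl⟩

theorem card_center_le (h : Cfsg.IsInternalDirectProduct A E P) (hA : Nat.card A = 2)
    (hE : Cfsg.IsExtraspecial 2 E) (hzc : orderOf zc = 2) (hP : ⁅P, P⁆ = zpowers zc) :
    Nat.card (P ⊓ centralizer (P : Set C) : Subgroup C) ≤ 4 := by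
  have h1 : ((P ⊓ centralizer (P : Set C) : Subgroup C) : Set C) ⊆ (A : Set C) * (zpowers zc : Set C) := by
    rintro x ⟨hx, hxc⟩
    obtain ⟨a, ha, e, he, rfl⟩ := mem_prod h hx
    refine Set.mul_mem_mul ha ?_
    rw [SetLike.mem_coe, ← center_eq h hE hzc hP]
    refine ⟨⟨e, he⟩, ?_, rfl⟩
    rw [SetLike.mem_coe, mem_center_iff]
    intro f
    apply Subtype.ext
    show (f : C) * e = e * f
    have h2 := mem_centralizer_iff.1 hxc f (h.2.1 f.2)
    have h3 := h.2.2.1 a ha f f.2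
    have h4 : a * (f * e) = a * (e * f) := by
      calc a * ((f : C) * e) = (a * f) * e := by group
        _ = f * (a * e) := by rw [h3]; group
        _ = a * e * f := h2
        _ = a * (e * f) := by group
    exact mul_left_cancel h4
  have h2 := Set.ncard_le_ncard h1 (Set.toFinite _)
  have h3 : ((A : Set C) * (zpowers zc : Set C)).ncard ≤ Nat.card A * Nat.card (zpowers zc) :=
    Set.natCard_mul_le
  rw [hA, Nat.card_zpowers, hzc] at h3
  exact h2.trans h3

end AE

section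

variable {G : Type*} [Group G] [Finite G] {z : G} {Q : Type*} [Group Q] {S : Subgroup Q} {φ : Ce z →* Q}

/-- **The setup when `O_2(C(z)) = A × E`.** -/
theorem setup_AE (hz : orderOf z = 2) {A E : Subgroup (Ce z)}
    (hAE : Cfsg.IsInternalDirectProduct A E (Cfsg.pCore 2 (Ce z))) (hA : Nat.card A = 2)
    (hE : Cfsg.IsExtraspecial 2 E) (hEc : Nat.card E = 2 ^ 9) {zc : Ce z} (hzc : (zc : G) = z)
    (hJ' : ⁅Cfsg.pCore 2 (Ce z), Cfsg.pCore 2 (Ce z)⁆ = zpowers zc)
    (hCJ : centralizer (Cfsg.pCore 2 (Ce z) : Set (Ce z)) ≤ Cfsg.pCore 2 (Ce z))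
    (hφ : Function.Surjective φ) (hker : φ.ker = Cfsg.pCore 2 (Ce z)) (D : QData Q S) :
    Setup z (Jz z) (Xr z) ∧ 2 ^ 13 * 405 ∣ Nat.card (Xr z) := by
  have hzc2 : orderOf zc = 2 := by
    have h1 : orderOf (zc : G) = orderOf z := congrArg orderOf hzc
    rw [Subgroup.orderOf_coe] at h1
    rw [h1, hz]
  have hc : Nat.card (Jz z) = 2 ^ 10 := by
    apply card_Jz
    rw [card_prod hAE, hA, hEc]
    norm_num
  have hcom : ⁅Jz z, Jz z⁆ = zpowers z := by
    rw [← map_commutator, hJ', MonoidHom.map_zpowers]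
    congr 1
  have hP := pre_of hz hφ hker D hcom hCJ
  have hsq : ∀ x ∈ Jz z, x * x ∈ zpowers z := by
    rintro _ ⟨x, hx, rfl⟩
    obtain ⟨n, hn⟩ := mem_zpowers_iff.1 (sq_mem hAE hA hE hzc2 hJ' hx)
    refine mem_zpowers_iff.2 ⟨n, ?_⟩
    have h1 : ((zc : G)) ^ n = (x : G) * x := congrArg Subtype.val hn
    have h2 : z ^ n = (zc : G) ^ n := by rw [hzc]
    exact h2.trans h1
  have hcc : Nat.card (Jz z ⊓ centralizer (Jz z : Set G) : Subgroup G) ≤ 4 := by
    refine le_trans ?_ (card_center_le hAE hA hE hzc2 hJ')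
    rw [← card_map_of_injective (K := Cfsg.pCore 2 (Ce z) ⊓ centralizer (Cfsg.pCore 2 (Ce z) : Set (Ce z)))
      (Ce z).subtype_injective]
    refine Nat.le_of_dvd Nat.card_pos (card_dvd_of_le ?_)
    rintro _ ⟨⟨x, hx, rfl⟩, hxc⟩
    refine ⟨x, mem_inf.2 ⟨hx, mem_centralizer_iff.2 fun y hy => ?_⟩, rfl⟩
    apply Subtype.ext
    exact mem_centralizer_iff.1 hxc (y : G) ⟨y, hy, rfl⟩
  have hS : Setup z (Jz z) (Xr z) := by
    refine hP.setup hsq ?_ hcc
    intro W hW hab
    refine card_le_of_comm hz hP.J_le hcom ?_ W hW hab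
    rw [hc]
    omega
  exact ⟨hS, card_Xr hφ hker D hS hP hsq⟩

end

end Cfsg.Agent.H316.Red
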